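import Mathlib
import Cfsg.Agent.H7.Recog2
import Cfsg.Agent.H3.Brauer2
import Cfsg.Agent.H3.FS

/-! Sylow subgroup of prime order: decomposing characters along the principal block. -/

namespace Cfsg.Agent.H7

open Finset Cfsg.Agent.H3
open scoped ComplexConjugate

variable {G : Type*} [Group G] {p : ℕ} [Fact p.Prime] {x : G} {K : Subgroup G} [Fintype K]
variable {h : D1 p x K} {X Y : Finset (IrrCharacter G)} {δ : IrrCharacter G → ℤ} {ε : ℤ}

theorem Br.sum_cz [Fintype G] (hB : Br h X Y δ ε) (n : IrrCharacter G → ℂ) :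
    ∑ a : (ZMod p)ˣ, cz K x (∑ χ : IrrCharacter G, n χ • (χ : G → ℂ)) (a : ZMod p) =
      (p - 1) * ∑ χ ∈ X, n χ * δ χ - ε * Nat.card (Eg h) * ∑ θ ∈ Y, n θ := by
  classical
  simp only [cz_sum]
  rw [Finset.sum_comm, ← Finset.sum_subset (Finset.subset_univ (X ∪ Y)) fun χ _ hχ => by
    rw [Finset.mem_union, not_or] at hχ
    simp [hB.out χ hχ.1 hχ.2], Finset.sum_union hB.disj, Finset.mul_sum, Finset.mul_sum,
    sub_eq_add_neg, ← Finset.sum_neg_distrib]
  congr 1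
  · refine Finset.sum_congr rfl fun χ hχ => ?_
    simp only [hB.cz_X hχ, Finset.sum_const, Finset.card_univ, nsmul_eq_mul, card_units_cast]
  · refine Finset.sum_congr rfl fun θ hθ => ?_
    obtain ⟨j, hj⟩ := hB.valY θ hθ
    simp only [fun b => cz_of_forall (hj b), ← Finset.mul_sum, sum_units_eta]
    ring

theorem exists_dec [Fintype G] {Φ : G → ℂ} (hΦ : IsCharacter G Φ) :
    ∃ n : IrrCharacter G → ℕ, (∀ χ : IrrCharacter G, classInner Φ χ = n χ) ∧
      Φ = ∑ χ : IrrCharacter G, (n χ : ℂ) • (χ : G → ℂ) ∧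
      ∑ χ : IrrCharacter G, n χ * charDegree (χ : G → ℂ) = charDegree Φ := by
  obtain ⟨n, h1, h2⟩ := hΦ.exists_nat_coeffs
  refine ⟨n, h1, h2, (charDegree_eq ?_).symm⟩
  rw [h2]
  simp [IsIrrCharacter.cast_charDegree (Subtype.prop _)]

theorem Exc.inner_sub [Fintype G] (hB : Exc h Y ε) {Φ Ψ : G → ℂ}
    (he : ∀ g, p ∣ orderOf g → Φ g = Ψ g) {θ θ' : IrrCharacter G} (hθ : θ ∈ Y) (hθ' : θ' ∈ Y) :
    classInner Φ θ - classInner Φ θ' = classInner Ψ θ - classInner Ψ θ' := by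
  simp only [classInner_def, ← mul_sub, ← Finset.sum_sub_distrib]
  congr 1
  refine Finset.sum_congr rfl fun g _ => ?_
  by_cases hg : p ∣ orderOf g
  · rw [he g hg]
  · rw [hB.agree θ hθ θ' hθ' g hg]; simp

theorem Br.dec_const [Fintype G] (hB : Br h X Y δ ε) {Φ : G → ℂ} (hΦ : IsCharacter G Φ) {γ : ℤ}
    (hγ : ∀ g, p ∣ orderOf g → Φ g = γ) :
    ∃ (n : IrrCharacter G → ℕ) (m : ℕ), (∀ χ : IrrCharacter G, classInner Φ χ = n χ) ∧
      Φ = ∑ χ : IrrCharacter G, (n χ : ℂ) • (χ : G → ℂ) ∧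
      ∑ χ : IrrCharacter G, n χ * charDegree (χ : G → ℂ) = charDegree Φ ∧
      (∀ θ ∈ Y, n θ = m) ∧ ∑ χ ∈ X, n χ * δ χ - ε * m = γ := by
  obtain ⟨n, h1, h2, h3⟩ := exists_dec hΦ
  obtain ⟨θ, hθ⟩ := hB.nonempty
  have h4 : ∀ θ' ∈ Y, n θ' = n θ := fun θ' hθ' => by
    have := hB.inner_sub (Φ := Φ) (Ψ := (γ : ℂ) • (oneI G : G → ℂ))
      (fun g hg => by simp [hγ g hg, oneI]) hθ' hθ
    rw [h1, h1, classInner_smul_left, classInner_smul_left, irr_inner, irr_inner,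
      if_neg (fun e : oneI G = θ' => hB.one_not_mem (e ▸ hθ')),
      if_neg (fun e : oneI G = θ => hB.one_not_mem (e ▸ hθ)),
      sub_self, sub_eq_zero] at this
    exact_mod_cast this
  refine ⟨n, n θ, h1, h2, h3, h4, ?_⟩
  have h5 := hB.sum_cz fun χ => n χ
  rw [← h2, Finset.sum_congr rfl (g := fun _ => (γ : ℂ)) fun a _ => cz_of_forall fun y hy =>
    hγ _ (h.dvd_orderOf (not_dvd_val a.ne_zero) hy),
    Finset.sum_congr rfl (s₁ := Y) (g := fun _ => (n θ : ℂ)) fun θ' hθ' => by rw [h4 θ' hθ']] at h5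
  simp only [Finset.sum_const, Finset.card_univ, nsmul_eq_mul, card_units_cast] at h5
  have h6 : (Y.card : ℂ) * Nat.card (Eg h) = p - 1 := by
    rw [← Nat.cast_mul, hB.cardY, Nat.cast_sub h.prime.one_le, Nat.cast_one]
  have h7 : ((p : ℂ) - 1) * (∑ χ ∈ X, (n χ : ℂ) * δ χ - ε * n θ) = (p - 1) * γ := by
    linear_combination -h5 + ε * n θ * h6
  exact_mod_cast mul_left_cancel₀ p_sub_one_ne_zero h7

theorem charDegree_oneI : charDegree (oneI G : G → ℂ) = 1 := charDegree_eq (by simp [oneI])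

theorem Exc.mul_conj [Finite G] (hB : Exc h Y ε) {θ : IrrCharacter G} (hθ : θ ∈ Y) :
    ∑ a : (ZMod p)ˣ, cz K x (fun g => (θ : G → ℂ) g * conj ((θ : G → ℂ) g)) (a : ZMod p) =
      p * Nat.card (Eg h) - Nat.card (Eg h) * Nat.card (Eg h) := by
  obtain ⟨j, hj⟩ := hB.valY θ hθ
  rw [← sum_units_eta_conj h j]
  refine Finset.sum_congr rfl fun a _ => cz_of_forall fun y hy => ?_
  rw [hj a y hy, map_mul, map_intCast]
  rcases hB.eps with e | e <;> simp [e]

/-- the bound coming from `θ θ̄` when `θ(1) = e` -/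
theorem Br.small_exc [Fintype G] (hB : Br h X Y δ ε) (hε : ε = 1) {θ : IrrCharacter G} (hθ : θ ∈ Y)
    (hd : charDegree (θ : G → ℂ) = Nat.card (Eg h)) (he : 1 < Nat.card (Eg h)) {D : ℕ}
    (hD : ∀ χ ∈ X, χ ≠ oneI G → δ χ = 1 → D ≤ charDegree (χ : G → ℂ)) :
    (Y.card - 1) * D ≤ Y.card * (Nat.card (Eg h) + 1) := by
  classical
  obtain ⟨n, h1, h2, h3⟩ := exists_dec (θ.2.isCharacter.mul θ.2.isCharacter.conj)
  have h4 := hB.sum_cz fun χ => n χ
  rw [← h2] at h4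
  have h5 := (hB.mul_conj hθ).symm.trans h4
  set e := Nat.card (Eg h)
  have h6 : n (oneI G) = 1 := by
    have := h1 (oneI G)
    have h7 := θ.2.inner_self
    simp only [classInner_def, oneI, Pi.mul_apply, map_one, mul_one] at this h7
    rw [h7] at this
    exact_mod_cast this.symm
  have h7 : charDegree ((θ : G → ℂ) * fun g => conj ((θ : G → ℂ) g)) = e * e :=
    charDegree_eq (by rw [Pi.mul_apply, ← θ.2.cast_charDegree, hd]; simp)
  have h8 : (p : ℤ) * e - e * e = (p - 1) * ∑ χ ∈ X, (n χ : ℤ) * δ χ - e * ∑ θ ∈ Y, (n θ : ℤ) := by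
    rw [hε] at h5
    exact_mod_cast (by simpa using h5 : (((p : ℤ) * e - e * e : ℤ) : ℂ) =
      (((p - 1) * ∑ χ ∈ X, (n χ : ℤ) * δ χ - e * ∑ θ ∈ Y, (n θ : ℤ) : ℤ) : ℂ))
  have h9 : (D : ℤ) * ∑ χ ∈ X.erase (oneI G), (n χ : ℤ) * δ χ ≤ e * e - 1 := by
    have h10 : ∑ χ ∈ X, n χ * charDegree (χ : G → ℂ) ≤ e * e := by
      rw [← h7, ← h3]; exact Finset.sum_le_sum_of_subset (Finset.subset_univ _)
    rw [← Finset.add_sum_erase _ _ hB.one_mem, h6, charDegree_oneI] at h10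
    have h11 : (D : ℤ) * ∑ χ ∈ X.erase (oneI G), (n χ : ℤ) * δ χ ≤
        ((∑ χ ∈ X.erase (oneI G), n χ * charDegree (χ : G → ℂ) : ℕ) : ℤ) := by
      rw [Finset.mul_sum]
      push_cast
      refine Finset.sum_le_sum fun χ hχ => ?_
      obtain ⟨h12, h13⟩ := Finset.mem_erase.1 hχ
      rcases hB.sign χ h13 with e1 | e1
      · have : (D : ℤ) ≤ charDegree (χ : G → ℂ) := by exact_mod_cast hD χ h13 h12 e1
        rw [e1]; nlinarith
      · rw [e1]; nlinarith
    omega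
  rw [← Finset.add_sum_erase _ _ hB.one_mem, h6, hB.δ_one] at h8
  have h10 : (Y.card : ℤ) * e = p - 1 := by
    rw [← Nat.cast_mul, hB.cardY, Nat.cast_sub h.prime.one_le, Nat.cast_one]
  have h11 : 0 ≤ ∑ θ ∈ Y, (n θ : ℤ) := Finset.sum_nonneg fun _ _ => Nat.cast_nonneg _
  set A := ∑ χ ∈ X.erase (oneI G), (n χ : ℤ) * δ χ
  set C := ∑ θ ∈ Y, (n θ : ℤ)
  have ht := Finset.card_pos.2 hB.nonempty
  have he' : (1 : ℤ) < e := by exact_mod_cast he
  have h12 : (Y.card : ℤ) * A = (Y.card - 1) * (e - 1) + C := by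
    apply mul_left_cancel₀ (show (e : ℤ) ≠ 0 by omega)
    have : (p : ℤ) = Y.card * e + 1 := by omega
    rw [this] at h8
    linear_combination -h8
  zify [show 1 ≤ Y.card by omega]
  refine le_of_mul_le_mul_right ?_ (show (0 : ℤ) < e - 1 by omega)
  have h13 : (Y.card : ℤ) * (D * A) ≤ Y.card * (e * e - 1) :=
    mul_le_mul_of_nonneg_left h9 (Nat.cast_nonneg _)
  have h14 : (0 : ℤ) ≤ D * C := mul_nonneg (Nat.cast_nonneg _) h11
  nlinarith

open Classical in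
theorem D1.sum_sing [Fintype G] (h : D1 p x K) {Φ : G → ℂ} (hΦ : IsClassFunction G Φ) :
    (p : ℂ) * Nat.card (Eg h) * ∑ g ∈ Finset.univ.filter (p ∣ orderOf ·), Φ g =
      Nat.card G * ∑ b : (ZMod p)ˣ, cz K x Φ (b : ZMod p) := by
  have h1 : (p : ℂ) * Nat.card (Eg h) * ∑ g ∈ Finset.univ.filter (p ∣ orderOf ·), Φ g =
      Nat.card G * classInner Φ (∑ χ : IrrCharacter G,
        (∑ b : (ZMod p)ˣ, conj (cz K x χ (b : ZMod p))) • (χ : G → ℂ)) := by
    rw [card_mul_classInner, Finset.sum_filter, Finset.mul_sum]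
    refine Finset.sum_congr rfl fun g _ => ?_
    simp only [Finset.sum_apply, Pi.smul_apply, smul_eq_mul, h.sing_eq]
    split_ifs <;> simp [mul_comm]
  rw [h1]
  congr 1
  conv_rhs => rw [hΦ.eq_sum_irr]
  simp only [classInner_sum_right, classInner_smul_right, cz_sum, map_sum, Complex.conj_conj,
    Finset.sum_mul]
  rw [Finset.sum_comm]
  exact Finset.sum_congr rfl fun _ _ => Finset.sum_congr rfl fun _ _ => mul_comm _ _

open Classical in
theorem Exc.sum_reg [Fintype G] (hB : Exc h Y ε) {θ : IrrCharacter G} (hθ : θ ∈ Y) :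
    (p : ℂ) * ∑ g ∈ Finset.univ.filter (¬ p ∣ orderOf ·), (θ : G → ℂ) g * conj ((θ : G → ℂ) g) =
      Nat.card (Eg h) * Nat.card G := by
  have h1 := h.sum_sing (θ.2.isClassFunction.mul θ.2.isClassFunction.conj)
  have h2 := card_mul_classInner (θ : G → ℂ) θ
  rw [θ.2.inner_self, ← Finset.sum_filter_add_sum_filter_not _ (p ∣ orderOf ·)] at h2
  rw [show ((θ : G → ℂ) * fun g => conj ((θ : G → ℂ) g)) =
    fun g => (θ : G → ℂ) g * conj ((θ : G → ℂ) g) from rfl, hB.mul_conj hθ] at h1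
  apply mul_left_cancel₀ (Nat.cast_ne_zero.2 (card_Eg_pos h).ne' : (Nat.card (Eg h) : ℂ) ≠ 0)
  linear_combination -h1 - p * Nat.card (Eg h) * h2

omit [Fintype K] in
theorem D1.mem_normalizer_of_conj [Finite G] (h : D1 p x K) {g c : G} (hg : orderOf g = p)
    (hc : c * g * c⁻¹ ∈ Subgroup.normalizer (Subgroup.zpowers x : Set G)) :
    c * g * c⁻¹ ∈ Subgroup.zpowers x := by
  have hP : IsPGroup p (Subgroup.zpowers x) :=
    IsPGroup.of_card (n := 1) (by rw [Nat.card_zpowers, h.ord, pow_one])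
  have hQ : IsPGroup p (Subgroup.zpowers (c * g * c⁻¹)) := IsPGroup.of_card (n := 1) (by
    rw [Nat.card_zpowers, show c * g * c⁻¹ = MulAut.conj c g from rfl, MulEquiv.orderOf_eq, hg, pow_one])
  exact ((hQ.inf_normalizer_sylow (hP.toSylow h.idx)).le ⟨Subgroup.mem_zpowers _, hc⟩).2

omit [Fintype K] in
theorem D1.orderOf_eq [Finite G] (h : D1 p x K) (hK : Nat.card K = 1) {g : G} (hg : p ∣ orderOf g) :
    orderOf g = p := by
  obtain ⟨c, a, y, hy, e⟩ := h.exists_conj_of_dvd hg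
  rw [Subgroup.card_eq_one.1 hK, Subgroup.mem_bot] at hy
  rw [hy, mul_one] at e
  rw [← MulEquiv.orderOf_eq (MulAut.conj c), MulAut.conj_apply, e, ← Nat.card_zpowers, xp,
    h.zpowers_pow (not_dvd_val a.ne_zero), Nat.card_zpowers, h.ord]

omit [Fintype K] in
theorem D1.indFun_sing [Fintype G] (h : D1 p x K)
    {φ : Subgroup.normalizer (Subgroup.zpowers x : Set G) → ℂ}
    (hφ : ∀ g hg, g ∈ Subgroup.zpowers x → φ ⟨g, hg⟩ = 1) {g : G} (hg : orderOf g = p) :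
    indFun _ φ g = 1 := by
  classical
  obtain ⟨c, a, e⟩ := h.exists_conj_of_order hg
  rw [← isClassFunction_indFun _ φ g c, e, indFun_apply', Finset.sum_congr rfl (g := fun c =>
    if c ∈ Subgroup.normalizer (Subgroup.zpowers x : Set G) then 1 else 0) fun c _ => ?_]
  · rw [Finset.sum_boole, ← Fintype.card_subtype, ← Nat.card_eq_fintype_card,
      inv_mul_cancel₀ card_ne_zero]
  have ho : orderOf (xp x (a : ZMod p)) = p := by
    rw [← e, show ∀ c, c * g * c⁻¹ = MulAut.conj c g from fun _ => rfl, MulEquiv.orderOf_eq, hg]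
  rw [extendByZero_apply]
  split_ifs with h1 h2 h2
  · exact hφ _ _ (h.mem_normalizer_of_conj ho h1)
  · exfalso
    refine h2 (Subgroup.mem_normalizer_fintype fun y hy => ?_)
    rw [← h.zpowers_pow (not_dvd_val a.ne_zero)] at hy
    obtain ⟨k, rfl⟩ := Subgroup.mem_zpowers_iff.1 hy
    rw [← conj_zpow]
    exact Subgroup.zpow_mem _ (h.mem_normalizer_of_conj ho h1) k
  · exact absurd (Subgroup.le_normalizer ((Subgroup.mem_normalizer_iff.1 h2 _).1
      (Subgroup.npow_mem_zpowers _ _))) h1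
  · rfl

end Cfsg.Agent.H7
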