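import Mathlib
import Cfsg.Agent.H7.Def1f

/-! Sylow subgroup of prime order with inertial index two. -/

namespace Cfsg.Agent.H7

open Finset Cfsg.Agent.H3
open scoped ComplexConjugate MatrixGroups

variable {G : Type*} [Group G]

theorem apply_pow_of_int [Finite G] {χ : G → ℂ} (hχ : IsGeneralizedCharacter G χ) {g : G} {m : ℤ}
    (h : χ g = m) {k : ℕ} (hk : k.Coprime (orderOf g)) : χ (g ^ k) = χ g := by
  obtain ⟨σ, hσ⟩ := exists_ringEquiv_pow (orderOf_pos g).ne' hk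
  rw [← hχ.map_apply_eq_pow (σ : ℂ →+* ℂ) g k hσ, h, map_intCast]

theorem eq_zero_of_coprime [Finite G] {χ : G → ℂ} (hχ : IsIrrCharacter G χ) {d m r : ℕ}
    (hd : charDegree χ = d) (h : Nat.card G = d * m) (hc : d.Coprime m) (hr : r.Prime) (hrd : r ∣ d)
    {g : G} (hg : r ∣ orderOf g) : χ g = 0 := by
  have hd0 : d ≠ 0 := hd ▸ hχ.charDegree_pos.ne'
  refine hχ.eq_zero_of_defect_zero (n := d.factorization r) hr (fun h1 => ?_)
    (hd ▸ Nat.ordProj_dvd d r) hg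
  rw [h] at h1
  exact Nat.pow_succ_factorization_not_dvd hd0 hr
    (((hc.coprime_dvd_left hrd).pow_left _).dvd_of_dvd_mul_right h1)

theorem eq_sum_of_le [Finite G] {n : IrrCharacter G → ℕ} {T : Finset (IrrCharacter G)}
    (hT : ∀ χ ∈ T, 1 ≤ n χ) (hd : ∑ χ : IrrCharacter G, n χ * charDegree (χ : G → ℂ) ≤
      ∑ χ ∈ T, charDegree (χ : G → ℂ)) :
    (∀ χ ∈ T, n χ = 1) ∧ (∀ χ ∉ T, n χ = 0) ∧
      ∑ χ : IrrCharacter G, (n χ : ℂ) • (χ : G → ℂ) = ∑ χ ∈ T, (χ : G → ℂ) := by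
  classical
  have h1 : ∀ χ ∈ (Finset.univ : Finset (IrrCharacter G)),
      (if χ ∈ T then 1 else 0) * charDegree (χ : G → ℂ) ≤ n χ * charDegree (χ : G → ℂ) :=
    fun χ _ => Nat.mul_le_mul_right _ (by split_ifs with h; exacts [hT χ h, Nat.zero_le _])
  have h2 := (Finset.sum_eq_sum_iff_of_le h1).1 (le_antisymm (Finset.sum_le_sum h1) (by simpa using hd))
  have h3 : ∀ χ, n χ = if χ ∈ T then 1 else 0 := fun χ =>
    (Nat.eq_of_mul_eq_mul_right χ.2.charDegree_pos (h2 χ (Finset.mem_univ _))).symm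
  refine ⟨fun χ h => by rw [h3, if_pos h], fun χ h => by rw [h3, if_neg h], ?_⟩
  simp [h3]

theorem isPGroup_centralizer [Finite G] {q : ℕ} (hq : q.Prime)
    (H : ∀ (g : G) (r : ℕ), r.Prime → r ≠ q → q ∣ orderOf g → ¬ r ∣ orderOf g) {s : G} {k : ℕ}
    (hs : s ^ q ^ k = 1) (hs1 : s ≠ 1) : IsPGroup q (Subgroup.centralizer ({s} : Set G)) := by
  haveI := Fact.mk hq
  rw [IsPGroup.iff_card]
  refine ⟨_, Nat.eq_prime_pow_of_unique_prime_dvd Nat.card_pos.ne' fun {r} hr hd => ?_⟩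
  by_contra hne
  haveI := Fact.mk hr
  obtain ⟨⟨c, hc⟩, ho⟩ := exists_prime_orderOf_dvd_card' r hd
  rw [Subgroup.orderOf_mk] at ho
  obtain ⟨j, -, hj⟩ := (Nat.dvd_prime_pow hq).1 (orderOf_dvd_of_pow_eq_one hs)
  have h1 : orderOf (c * s) = r * q ^ j := by
    rw [Commute.orderOf_mul_eq_mul_orderOf_of_coprime (Subgroup.mem_centralizer_singleton_iff.1 hc),
      ho, hj]
    rw [ho, hj]
    exact ((Nat.coprime_primes hr hq).2 hne).pow_right _
  refine H (c * s) r hr hne (h1 ▸ (dvd_pow_self q ?_).mul_left _) (h1 ▸ dvd_mul_right _ _)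
  rintro rfl
  exact hs1 (orderOf_eq_one_iff.1 hj)

theorem SC.of_comm [Finite G] {q : ℕ} [Fact q.Prime] {P : Sylow q G}
    (hc : ∀ a ∈ (P : Subgroup G), ∀ b ∈ (P : Subgroup G), a * b = b * a)
    (H : ∀ (g : G) (r : ℕ), r.Prime → r ≠ q → q ∣ orderOf g → ¬ r ∣ orderOf g) :
    SC (P : Subgroup G) := fun s hs hs1 => by
  obtain ⟨k, hk⟩ := P.isPGroup' ⟨s, hs⟩
  exact P.is_maximal' (isPGroup_centralizer Fact.out H (congrArg Subtype.val hk) hs1)
    fun a ha => Subgroup.mem_centralizer_singleton_iff.2 (hc a ha s hs)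

theorem exists_prime_dvd_orderOf [Finite G] {q : ℕ} {g : G} (h : ∀ k, g ^ q ^ k ≠ 1) :
    ∃ r, r.Prime ∧ r ≠ q ∧ r ∣ orderOf g := by
  by_contra hc
  push Not at hc
  exact h _ (orderOf_dvd_iff_pow_eq_one.1 (dvd_of_eq (Nat.eq_prime_pow_of_unique_prime_dvd
    (orderOf_pos g).ne' fun {r} hr hd => by_contra fun e => hc r hr e hd)))

theorem sl_two_of_count [Finite G] (S : Sylow 2 G)
    (H : ∀ (g : G) (r : ℕ), r.Prime → r ≠ 2 → 2 ∣ orderOf g → ¬ r ∣ orderOf g)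
    (hN : Set.ncard {g : G | g ≠ 1 ∧ ∃ k, g ^ 2 ^ k = 1} = (S : Subgroup G).index)
    (F : Type*) [Field F] [Fintype F] (hF : Fintype.card F = Nat.card (S : Subgroup G))
    (hc : Nat.card G = Fintype.card F * (Fintype.card F ^ 2 - 1)) :
    Nonempty (G ≃* PSL(2, F)) ∧ Nonempty (G ≃* SL(2, F)) := by
  haveI : Nontrivial (S : Subgroup G) :=
    Finite.one_lt_card_iff_nontrivial.1 (hF ▸ Fintype.one_lt_card)
  haveI := S.isPGroup'.center_nontrivial
  obtain ⟨k, hk0, hk⟩ := (S.isPGroup'.to_subgroup (Subgroup.center S)).nontrivial_iff_card.1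
    inferInstance
  obtain ⟨⟨⟨z, hz⟩, hzc⟩, ho⟩ := exists_prime_orderOf_dvd_card' (G := Subgroup.center (S : Subgroup G))
    2 (hk ▸ dvd_pow_self 2 hk0.ne')
  rw [Subgroup.orderOf_mk, Subgroup.orderOf_mk] at ho
  have hz1 : z ≠ 1 := by rintro rfl; simp at ho
  have hz2 : z ^ 2 ^ 1 = 1 := by rw [pow_one, ← ho, pow_orderOf_eq_one]
  have h1 : Subgroup.centralizer ({z} : Set G) = S :=
    S.is_maximal' (isPGroup_centralizer Nat.prime_two H hz2 hz1) fun a ha =>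
      Subgroup.mem_centralizer_singleton_iff.2
        (congrArg Subtype.val (Subgroup.mem_center_iff.1 hzc ⟨a, ha⟩))
  have h2 : {y | IsConj z y} = {g : G | g ≠ 1 ∧ ∃ k, g ^ 2 ^ k = 1} := by
    refine Set.eq_of_subset_of_ncard_le ?_ (by
      rw [hN, ← h1, ← card_isConj_eq_index]; rfl)
    intro y hy
    obtain ⟨c, rfl⟩ := isConj_iff.1 hy
    exact ⟨by simpa using hz1, 1, by rw [conj_pow, hz2]; simp⟩
  have h3 : ∀ t ∈ (S : Subgroup G), t ≠ 1 → IsConj z t := fun t ht ht1 => by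
    obtain ⟨k, hk⟩ := S.isPGroup' ⟨t, ht⟩
    exact (h2.ge ⟨ht1, k, congrArg Subtype.val hk⟩ : t ∈ {y | IsConj z y})
  have h4 : ∀ t ∈ (S : Subgroup G), t * t = 1 := fun t ht => by
    by_cases ht1 : t = 1
    · simp [ht1]
    obtain ⟨c, rfl⟩ := isConj_iff.1 (h3 t ht ht1)
    rw [← sq, conj_pow, show z ^ 2 = 1 by simpa using hz2]; simp
  refine (SC.of_comm (comm_of_inverted (s := 1) fun t ht => ?_) H).sl_two hz hz1 h3 F hF hc
  simpa using eq_inv_of_mul_eq_one_left (h4 t ht)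

variable {p : ℕ} [Fact p.Prime] {x : G} {K : Subgroup G} [Fintype K]
variable {h : D1 p x K} {X Y : Finset (IrrCharacter G)} {δ : IrrCharacter G → ℤ} {ε : ℤ}

theorem Br.exists_pair [Finite G] (hB : Br h X Y δ ε) (he : Nat.card (Eg h) = 2) :
    ∃ χ : IrrCharacter G, χ ≠ oneI G ∧ χ ∈ X ∧ (∀ φ ∈ X, φ = oneI G ∨ φ = χ) ∧
      (∀ θ ∈ Y, ∀ g, ¬ p ∣ orderOf g → 1 + (δ χ : ℂ) * (χ : G → ℂ) g = ε * (θ : G → ℂ) g) ∧
      ∀ θ ∈ Y, 1 + δ χ * charDegree (χ : G → ℂ) = ε * charDegree (θ : G → ℂ) := by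
  classical
  obtain ⟨χ, hχ⟩ := Finset.card_eq_one.1
    (show (X.erase (oneI G)).card = 1 by rw [Finset.card_erase_of_mem hB.one_mem, hB.cardX, he])
  have h1 := Finset.mem_erase.1 (hχ ▸ Finset.mem_singleton_self χ)
  refine ⟨χ, h1.1, h1.2, fun φ hφ => ?_, fun θ hθ g hg => ?_, fun θ hθ => ?_⟩
  · rw [or_iff_not_imp_left]
    exact fun e => Finset.mem_singleton.1 (hχ ▸ Finset.mem_erase.2 ⟨e, hφ⟩)
  · rw [← hB.rel θ hθ g hg, ← Finset.add_sum_erase _ _ hB.one_mem, hχ, hB.δ_one]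
    simp [oneI]
  · rw [← hB.deg_eq hθ, ← Finset.add_sum_erase _ _ hB.one_mem, hχ, hB.δ_one, charDegree_oneI]
    simp

theorem Exc.sl_two [Fintype G] (hB : Exc h Y ε) (hK : Nat.card K = 1) (hp2 : p ≠ 2)
    {χ : G → ℂ} {θ : IrrCharacter G} (hθ : θ ∈ Y)
    (hrel : ∀ g, ¬ p ∣ orderOf g → 1 + χ g = ε * (θ : G → ℂ) g) (hχ : ∀ g, 2 ∣ orderOf g → χ g = 0)
    (hθ0 : ∀ g r, r.Prime → r ≠ 2 → r ≠ p → r ∣ orderOf g → (θ : G → ℂ) g = 0) (S : Sylow 2 G)
    (hc : p * (charDegree (θ : G → ℂ) ^ 2 + (S : Subgroup G).index) = Nat.card (Eg h) * Nat.card G)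
    (F : Type*) [Field F] [Fintype F] (hF : Fintype.card F = Nat.card (S : Subgroup G))
    (hc' : Nat.card G = Fintype.card F * (Fintype.card F ^ 2 - 1)) :
    Nonempty (G ≃* PSL(2, F)) ∧ Nonempty (G ≃* SL(2, F)) := by
  classical
  have hp : p.Prime := Fact.out
  have h2 : ∀ g : G, 2 ∣ orderOf g → ¬ p ∣ orderOf g := fun g h1 h2 => by
    rw [h.orderOf_eq hK h2] at h1
    exact hp2 ((Nat.prime_dvd_prime_iff_eq Nat.prime_two hp).1 h1).symm
  refine sl_two_of_count S (fun g r hr hr2 h3 h4 => ?_) ?_ F hF hc'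
  · have := hrel g (h2 g h3)
    rw [hχ g h3, hθ0 g r hr hr2 (by rintro rfl; exact h2 g h3 h4) h4] at this
    simp at this
  · have h3 := hB.sum_reg hθ
    rw [Finset.sum_filter, Finset.sum_congr rfl (g := fun g => (if g = 1 then
      (charDegree (θ : G → ℂ) : ℂ) ^ 2 else 0) + if g ≠ 1 ∧ ∃ k, g ^ 2 ^ k = 1 then 1 else 0)
      fun g _ => ?_, Finset.sum_add_distrib, Finset.sum_ite_eq', Finset.sum_boole,
      if_pos (Finset.mem_univ _)] at h3
    · have h4 : p * (charDegree (θ : G → ℂ) ^ 2 + (Finset.univ.filter fun g : G =>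
        g ≠ 1 ∧ ∃ k, g ^ 2 ^ k = 1).card) = Nat.card (Eg h) * Nat.card G := by exact_mod_cast h3
      rw [← hc] at h4
      rw [← Nat.add_left_cancel (Nat.eq_of_mul_eq_mul_left hp.pos h4), ← Set.ncard_coe_finset]
      simp
    by_cases hg : g = 1
    · subst hg
      simp [hp.not_dvd_one, ← θ.2.cast_charDegree, sq]
    by_cases hg2 : ∃ k, g ^ 2 ^ k = 1
    · obtain ⟨k, hk⟩ := id hg2
      obtain ⟨j, -, hj⟩ := (Nat.dvd_prime_pow Nat.prime_two).1 (orderOf_dvd_of_pow_eq_one hk)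
      have h4 : 2 ∣ orderOf g := hj ▸ dvd_pow_self 2 (by
        rintro rfl; exact hg (orderOf_eq_one_iff.1 hj))
      have h5 := hrel g (h2 g h4)
      rw [hχ g h4, add_zero] at h5
      have h6 : (θ : G → ℂ) g = ε := by
        rcases hB.eps with e | e <;> rw [e] at h5 ⊢ <;> push_cast at h5 ⊢
        · linear_combination -h5
        · linear_combination h5
      rw [if_pos (h2 g h4), if_neg hg, if_pos ⟨hg, hg2⟩, h6]
      rcases hB.eps with e | e <;> simp [e]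
    · rw [if_neg hg, if_neg (fun h : g ≠ 1 ∧ ∃ k, g ^ 2 ^ k = 1 => hg2 h.2), add_zero]
      split_ifs with h4
      · rfl
      push Not at hg2
      obtain ⟨r, hr, hr2, hd⟩ := exists_prime_dvd_orderOf hg2
      rw [hθ0 g r hr hr2 (by rintro rfl; exact h4 hd) hd, zero_mul]

theorem eta_sq (he : Nat.card (Eg h) = 2) (j a : ZMod p) : eta h j a ^ 2 = eta h j (a * 2) + 2 := by
  classical
  obtain ⟨u, hu1, hu⟩ := (Nat.card_eq_two_iff' (1 : Eg h)).1 he
  have h1 : (u : (ZMod p)ˣ) = -1 := by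
    have h2 : u ^ 2 = 1 := he ▸ pow_card_eq_one'
    have h3 : ((u : (ZMod p)ˣ) : ZMod p) ^ 2 = 1 := by
      simpa using congrArg (fun v : Eg h => ((v : (ZMod p)ˣ) : ZMod p)) h2
    rcases mul_self_eq_one_iff.1 ((sq _).symm.trans h3) with e | e
    · exact absurd (Subtype.ext (Units.ext e)) hu1
    · exact Units.ext e
  have h2 : Finset.univ.filter (· ∈ Eg h) = {1, -1} := by
    ext v
    simp only [Finset.mem_filter, Finset.mem_univ, true_and, Finset.mem_insert, Finset.mem_singleton]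
    refine ⟨fun hv => or_iff_not_imp_left.2 fun e => ?_, ?_⟩
    · rw [← h1, ← hu ⟨v, hv⟩ fun e' => e (congrArg Subtype.val e')]
    · rintro (rfl | rfl)
      · exact one_mem _
      · exact h1 ▸ u.2
  have h3 : (1 : (ZMod p)ˣ) ≠ -1 := fun e => hu1 (Subtype.ext (h1.trans e.symm))
  have h4 : ∀ b, eta h j b = ψp p (j * b) + ψp p (-(j * b)) := fun b => by
    simp [eta, h2, Finset.sum_pair h3]
  have h5 : ψp p (j * a) * ψp p (-(j * a)) = 1 := by
    rw [← AddChar.map_add_eq_mul, add_neg_cancel, AddChar.map_zero_eq_one]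
  rw [h4, h4, show j * (a * 2) = j * a + j * a by ring, neg_add, AddChar.map_add_eq_mul,
    AddChar.map_add_eq_mul]
  linear_combination 2 * h5

end Cfsg.Agent.H7
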