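import Mathlib
import Cfsg.Agent.H7.BR1

/-! Inertial index two and a character of degree `p - 1`. -/

namespace Cfsg.Agent.H7

open Finset Cfsg.Agent.H3 Sv
open scoped ComplexConjugate MatrixGroups

variable {G : Type*} [Group G]

/-- Galois conjugate -/
def powI [Finite G] (χ : IrrCharacter G) {k : ℕ} (hk : k.Coprime (Nat.card G)) : IrrCharacter G :=
  ⟨_, χ.2.comp_pow hk⟩

theorem powI_apply [Finite G] (χ : IrrCharacter G) {k : ℕ} (hk : k.Coprime (Nat.card G)) (g : G) :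
    (powI χ hk : G → ℂ) g = (χ : G → ℂ) (g ^ k) := rfl

theorem charDegree_powI [Finite G] (χ : IrrCharacter G) {k : ℕ} (hk : k.Coprime (Nat.card G)) :
    charDegree (powI χ hk : G → ℂ) = charDegree (χ : G → ℂ) := by simp [powI, charDegree]

theorem dvd_of_sylow [Finite G] {n : ℕ}
    (H : ∀ (r : ℕ) [Fact r.Prime] (R : Sylow r G), r ∣ Nat.card G → Nat.card (R : Subgroup G) ∣ n) :
    Nat.card G ∣ n := by
  refine (Nat.dvd_iff_prime_pow_dvd_dvd _ _).2 fun r k hr hk => ?_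
  haveI := Fact.mk hr
  rcases Nat.eq_zero_or_pos k with rfl | h0
  · simp
  obtain ⟨R⟩ : Nonempty (Sylow r G) := inferInstance
  exact (R.pow_dvd_card_of_pow_dvd_card hk).trans (H r R ((dvd_pow_self r h0.ne').trans hk))

theorem exists_field_two {m : ℕ} (hm : m ≠ 0) :
    ∃ (F : Type) (_ : Field F) (_ : Fintype F), Fintype.card F = 2 ^ m :=
  ⟨GaloisField 2 m, inferInstance, Fintype.ofFinite _, by
    rw [← @Nat.card_eq_fintype_card _ (Fintype.ofFinite _), GaloisField.card 2 m hm]⟩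

variable {p : ℕ} [Fact p.Prime] {x : G} {K : Subgroup G} [Fintype K]
variable {h : D1 p x K} {X Y : Finset (IrrCharacter G)} {δ : IrrCharacter G → ℤ} {ε : ℤ}

theorem Br.powI_mem [Finite G] (hB : Br h X Y δ ε) {χ : IrrCharacter G} (hχ : χ ∈ X ∨ χ ∈ Y)
    {k : ℕ} (hk : k.Coprime (Nat.card G)) : powI χ hk ∈ X ∨ powI χ hk ∈ Y := by
  obtain ⟨M, hM⟩ := Cfsg.Agent.B.exists_pMod p
  exact (hB.mem_principal M _).1 (mem_principal_pow ((hB.mem_principal M χ).2 hχ) hk fun _ => rfl)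

omit [Fintype K] in
theorem D1.card_sylow [Finite G] (h : D1 p x K) (P : Sylow p G) : Nat.card (P : Subgroup G) = p := by
  simpa using card_sylow_of_dvd (k := 1) P (by rw [pow_one]; exact h.card_eq) h.idx

theorem Br.alt_two [Fintype G] (hB : Br h X Y δ ε) (he : Nat.card (Eg h) = 2) (hε : ε = -1)
    (hX : ∀ χ ∈ X, charDegree (χ : G → ℂ) ≠ p - 2) {θ : IrrCharacter G} (hθ : θ ∈ Y)
    (hd : charDegree (θ : G → ℂ) + 2 = p) {g : G} (hg : ¬ p ∣ orderOf g) :
    (θ : G → ℂ) g ^ 2 - (θ : G → ℂ) (g * g) = (p - 3) * (θ : G → ℂ) g := by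
  classical
  have hp : p.Prime := Fact.out
  have hY := hB.cardY
  have hd0 := θ.2.charDegree_pos
  rw [he] at hY
  have hp2 : ¬ p ∣ 2 := fun e => by have := Nat.le_of_dvd two_pos e; omega
  obtain ⟨k, hk1, hk2⟩ := h.exists_exp h.idx 2
  have hk := h.coprime_card (fun e => hp2 ((hk1.dvd_iff dvd_rfl).1 e)) hk2
  have h1 : powI θ hk ∈ Y := (hB.powI_mem (Or.inr hθ) hk).resolve_left fun e =>
    hX _ e (by rw [charDegree_powI]; omega)
  obtain ⟨S, A, hS, hA, h2, h3⟩ := θ.2.isCharacter.exists_sym_alt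
  have h4 : ∀ g, 2 * A g = (θ : G → ℂ) g ^ 2 - (θ : G → ℂ) (g * g) := fun g => by
    linear_combination h2 g - h3 g
  have h5 : ∀ g, p ∣ orderOf g → A g = ((oneI G : G → ℂ) - (powI θ hk : G → ℂ)) g := by
    intro g hg
    obtain ⟨c, a, y, hy, e⟩ := h.exists_conj_of_dvd hg
    obtain ⟨j, hj⟩ := hB.valY θ hθ
    have h2' : ((2 : ℕ) : ZMod p) ≠ 0 := by rwa [Ne, ZMod.natCast_eq_zero_iff]
    have h6 : (θ : G → ℂ) (xp x ((a : ZMod p) * 2) * (y * y)) = ε * eta h j (a * 2) :=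
      hj (a * Units.mk0 _ h2') _ (K.mul_mem hy hy)
    have h7 : (θ : G → ℂ) (xp x ((a : ZMod p) * 2) * y) = ε * eta h j (a * 2) :=
      hj (a * Units.mk0 _ h2') _ hy
    have h8 : xp x (a : ZMod p) * y * (xp x (a : ZMod p) * y) = xp x ((a : ZMod p) * 2) * (y * y) := by
      rw [mul_two, h.xp_add, ← sq, xp, ((h.comm hy).pow_left _).mul_pow, sq, sq]
    rw [← hA.isClassFunction g c, Pi.sub_apply, ← (powI θ hk).2.isClassFunction g c, e,
      powI_apply, h.xp_mul_pow hy _ hk2, (ZMod.natCast_eq_natCast_iff _ _ _).2 hk1, Nat.cast_ofNat, h7]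
    have h9 := h4 (xp x (a : ZMod p) * y)
    rw [h8, h6, hj a y hy, mul_pow, eta_sq he, hε] at h9
    rw [hε]
    simp only [oneI]
    push_cast at h9 ⊢
    linear_combination h9 / 2
  obtain ⟨n, hn1, hn2, hn3⟩ := exists_dec hA
  have h6 : ∀ φ ∈ Y.erase (powI θ hk), 1 ≤ n φ := fun φ hφ => by
    obtain ⟨e1, e2⟩ := Finset.mem_erase.1 hφ
    have := hB.toExc.inner_sub h5 e2 h1
    rw [hn1, hn1, classInner_sub_left, classInner_sub_left, (powI θ hk).2.inner_self,
      (oneI G).2.inner_of_ne φ.2 (fun e => hB.one_not_mem (Subtype.ext e ▸ e2)),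
      (oneI G).2.inner_of_ne (powI θ hk).2 (fun e => hB.one_not_mem (Subtype.ext e ▸ h1)),
      (powI θ hk).2.inner_of_ne φ.2 (fun e => e1 (Subtype.ext e.symm))] at this
    have : (n φ : ℂ) = (n (powI θ hk) + 1 : ℕ) := by push_cast; linear_combination this
    have := Nat.cast_injective this
    omega
  have h7 : ((Y.erase (powI θ hk)).card : ℂ) * 2 = p - 3 := by
    have : (Y.erase (powI θ hk)).card * 2 + 3 = p := by
      rw [Finset.card_erase_of_mem h1]; have := Finset.card_pos.2 ⟨_, h1⟩; omega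
    rw [← this]; push_cast; ring
  have h8 := (eq_sum_of_le h6 (le_of_eq ?_)).2.2
  · rw [← h4, hn2, h8, Finset.sum_apply, Finset.sum_congr rfl fun φ hφ =>
      hB.agree φ (Finset.mem_of_mem_erase hφ) θ hθ g hg, Finset.sum_const, nsmul_eq_mul, ← h7]
    ring
  · rw [hn3, Finset.sum_congr rfl fun φ hφ => hB.deg_const (Finset.mem_of_mem_erase hφ) hθ,
      Finset.sum_const, smul_eq_mul]
    have h9 := h4 1
    rw [mul_one, ← hA.cast_charDegree, ← θ.2.cast_charDegree] at h9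
    have h10 : (charDegree (θ : G → ℂ) : ℂ) = p - 2 := by rw [← hd]; push_cast; ring
    apply Nat.cast_injective (R := ℂ)
    push_cast
    linear_combination h9 / 2 - charDegree (θ : G → ℂ) / 2 * h7 + charDegree (θ : G → ℂ) / 2 * h10

theorem Br.thmE [Fintype G] [IsSimpleGroup G] (hG : ¬ IsMulCommutative G) (hB : Br h X Y δ ε)
    (hK : Nat.card K = 1) (he : Nat.card (Eg h) = 2) {χ : IrrCharacter G} (hχ : χ ∈ X)
    (hd : charDegree (χ : G → ℂ) + 1 = p) : ∃ m, p = 2 ^ m + 1 ∧ 3 < p ∧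
      ∀ (F : Type*) [Field F] [Fintype F], Fintype.card F = 2 ^ m →
        Nonempty (G ≃* PSL(2, F)) ∧ Nonempty (G ≃* SL(2, F)) := by
  classical
  have hp : p.Prime := Fact.out
  have hY := hB.cardY
  obtain ⟨θ, hθ⟩ := hB.nonempty
  have hY0 := Finset.card_pos.2 ⟨_, hθ⟩
  rw [he] at hY
  obtain ⟨χ', -, -, h1, h2, h3⟩ := hB.exists_pair he
  have hχ1 : χ ≠ oneI G := by rintro rfl; rw [charDegree_oneI] at hd; omega
  obtain rfl : χ = χ' := (h1 χ hχ).resolve_left hχ1
  have hθ1 : θ ≠ oneI G := fun e => hB.one_not_mem (e ▸ hθ)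
  have hθ2 := one_lt_degree hG hθ1
  have hδ : δ χ = -1 := by
    refine (hB.sign χ hχ).resolve_left fun e => ?_
    obtain ⟨m, hm⟩ := hB.deg_X hχ
    rw [e] at hm
    rcases m with _ | m
    · omega
    · push_cast at hm; nlinarith
  have h4 := h3 θ hθ
  obtain ⟨hε, hdθ⟩ : ε = -1 ∧ charDegree (θ : G → ℂ) + 2 = p := by
    rcases hB.eps with e | e <;> rw [e, hδ] at h4 <;> omega
  have hrat : ∀ g, ∃ m : ℤ, (χ : G → ℂ) g = m := fun g => χ.2.isGen.exists_int_of_pow g fun k hk => by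
    rcases hB.powI_mem (Or.inl hχ) hk with e | e
    · rcases h1 _ e with e' | e'
      · have := charDegree_powI χ hk
        rw [e', charDegree_oneI] at this; omega
      · exact congrFun (congrArg Subtype.val e') g
    · have := hB.deg_const e hθ
      rw [charDegree_powI] at this; omega
  have h5 : ∀ g, g ≠ 1 → ¬ p ∣ orderOf g → Odd (orderOf g) → (θ : G → ℂ) g = 0 := fun g hg1 hg ho => by
    have h6 := hB.alt_two he hε (fun φ hφ => by
      rcases h1 φ hφ with rfl | rfl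
      · rw [charDegree_oneI]; omega
      · omega) hθ hdθ hg
    obtain ⟨m, hm⟩ := hrat g
    have h7 := h2 θ hθ g hg
    rw [hm, hδ, hε] at h7
    rw [← sq g, apply_pow_of_int θ.2.isGen (m := m - 1) (by push_cast at h7 ⊢; linear_combination h7)
      (Nat.coprime_two_left.2 ho)] at h6
    by_contra h8
    refine hg1 (Subgroup.mem_bot.1 (θ.2.charKer_eq_bot_of_simple (fun e => hθ1 (Subtype.ext e)) ▸ ?_))
    rw [θ.2.isCharacter.mem_charKer_iff, ← θ.2.cast_charDegree]
    have h10 : (charDegree (θ : G → ℂ) : ℂ) = p - 2 := by rw [← hdθ]; push_cast; ring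
    apply mul_left_cancel₀ h8
    linear_combination h6 - (θ : G → ℂ) g * h10
  have h6 : ∀ (r : ℕ) [Fact r.Prime] (R : Sylow r G), r ≠ 2 → r ≠ p →
      Nat.card (R : Subgroup G) ∣ p - 2 := fun r hr R hr2 hrp => by
    rw [show p - 2 = charDegree (θ : G → ℂ) by omega, ← Int.natCast_dvd_natCast]
    refine card_dvd_of_vanish θ.2.isGen R (fun v hv hv1 => ?_) (by rw [← θ.2.cast_charDegree]; simp)
    obtain ⟨k, hk⟩ := IsPGroup.iff_orderOf.1 R.isPGroup' ⟨v, hv⟩
    rw [Subgroup.orderOf_mk] at hk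
    refine h5 v hv1 (fun e => hrp ((Nat.prime_dvd_prime_iff_eq hp hr.out).1
      (hp.dvd_of_dvd_pow (hk ▸ e))).symm) (hk ▸ (hr.out.odd_of_ne_two hr2).pow)
  have hc1 : (p - 1).Coprime (p - 2) := by
    rw [show p - 1 = p - 2 + 1 by omega]; simp
  have h7 : p - 1 ∣ Nat.card G := by
    rw [show p - 1 = charDegree (χ : G → ℂ) by omega]; exact χ.2.degree_dvd_card
  obtain ⟨m, hm⟩ : ∃ m, p - 1 = 2 ^ m := ⟨_, Nat.eq_prime_pow_of_unique_prime_dvd (by omega)
    fun {r} hr hr1 => by_contra fun hr2 => by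
      haveI := Fact.mk hr
      obtain ⟨R⟩ : Nonempty (Sylow r G) := inferInstance
      have := (R.dvd_card_of_dvd_card (hr1.trans h7)).trans (h6 r R hr2 (by
        rintro rfl; have := Nat.le_of_dvd (by omega) hr1; omega))
      exact hr.one_lt.ne' (Nat.eq_one_of_dvd_coprimes hc1 hr1 this)⟩
  have hp2 : 2 ≠ p := by omega
  have h2G : 2 ∣ Nat.card G := (show 2 ∣ p - 1 by omega).trans h7
  have h8 : ∀ S : Sylow 2 G, Nat.card (S : Subgroup G) ∣ p - 1 := fun S => by
    obtain ⟨M, hM⟩ := Cfsg.Agent.B.exists_pMod 2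
    have h9 := hB.bt hθ hp2 (by rw [hK]; norm_num) M S.isPGroup'
    have h10 : X.filter (· ∈ principalBlock M G) = {oneI G} := by
      ext φ
      rw [Finset.mem_filter, Finset.mem_singleton]
      refine ⟨fun e => (h1 φ e.1).resolve_right ?_, ?_⟩
      · rintro rfl
        exact not_mem_principal_of_pow hG h2G M hχ1 (a := m) (by omega) e.2
      · rintro rfl
        exact ⟨hB.one_mem, Cfsg.Agent.B.oneIrr_mem⟩
    rw [h10, Finset.sum_singleton, hB.δ_one, charDegree_oneI, hε] at h9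
    rw [← Int.natCast_dvd_natCast]
    split_ifs at h9
    · convert h9 using 1; omega
    · exact h9.trans (by simp)
  have h9 : Nat.card G = p * (p - 1) * (p - 2) := by
    refine Nat.dvd_antisymm (dvd_of_sylow fun r _ R _ => ?_) (Nat.Coprime.mul_dvd_of_dvd_of_dvd ?_
      (Nat.Coprime.mul_dvd_of_dvd_of_dvd ?_ ⟨_, h.card_eq⟩ h7) ?_)
    · by_cases hrp : r = p
      · subst hrp
        rw [h.card_sylow, mul_assoc]; exact dvd_mul_right _ _
      by_cases hr2 : r = 2
      · subst hr2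
        exact ((h8 R).mul_left _).mul_right _
      · exact (h6 r R hr2 hrp).mul_left _
    · exact Nat.Coprime.mul_left (Nat.coprime_of_lt_prime (by omega) (by omega) hp) hc1
    · exact Nat.coprime_of_lt_prime (by omega) (by omega) hp
    · rw [show p - 2 = charDegree (θ : G → ℂ) by omega]; exact θ.2.degree_dvd_card
  refine ⟨m, by omega, by omega, fun F _ _ hF => ?_⟩
  obtain ⟨S⟩ : Nonempty (Sylow 2 G) := inferInstance
  have h10 : Nat.card (S : Subgroup G) = p - 1 :=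
    Nat.dvd_antisymm (h8 S) (hm ▸ S.pow_dvd_card_of_pow_dvd_card (hm ▸ h7))
  obtain ⟨q, rfl⟩ : ∃ q, p = q + 2 := ⟨p - 2, by omega⟩
  simp only [Nat.add_sub_cancel, show q + 2 - 1 = q + 1 from rfl] at *
  have h11 : (S : Subgroup G).index = (q + 2) * q := by
    have := (S : Subgroup G).card_mul_index
    rw [h9, h10] at this
    exact Nat.eq_of_mul_eq_mul_left (show 0 < q + 1 by omega) (this.trans (by ring))
  have h12 : (q + 1).Coprime ((q + 2) * q) := by
    rw [show (q + 2) = (q + 1) + 1 from rfl]; exact Nat.Coprime.mul_right (by simp) hc1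
  refine hB.toExc.sl_two hK hp2.symm (χ := -(χ : G → ℂ)) hθ (fun g hg => ?_) (fun g hg => ?_)
    (fun g r hr hr2 hrp hg => ?_) S ?_ F (by rw [hF, h10, hm]) ?_
  · rw [← h2 θ hθ g hg, hδ]; simp
  · rw [Pi.neg_apply, eq_zero_of_coprime χ.2 (d := q + 1) (m := (q + 2) * q) (by omega)
      (by rw [h9]; ring) h12 Nat.prime_two (by omega) hg, neg_zero]
  · refine eq_zero_of_coprime θ.2 (d := q) (m := (q + 2) * (q + 1)) (by omega)
      (by rw [h9]; ring) (Nat.Coprime.mul_right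
        (Nat.coprime_of_lt_prime (by omega) (by omega) hp).symm hc1.symm) hr ?_ hg
    haveI := Fact.mk hr
    obtain ⟨R⟩ : Nonempty (Sylow r G) := inferInstance
    exact (R.dvd_card_of_dvd_card (hg.trans (orderOf_dvd_natCard g))).trans (h6 r R hr2 hrp)
  · rw [h11, he, h9, show charDegree (θ : G → ℂ) = q by omega]; ring
  · rw [h9, hF, ← hm, show (q + 1) ^ 2 - 1 = (q + 2) * q from Nat.sub_eq_of_eq_add (by ring)]; ring

end Cfsg.Agent.H7
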