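import Mathlib
import Cfsg.Agent.H7.BR2

/-! The fixed point geometry in the Brauer-Reynolds theorem. -/

namespace Cfsg.Agent.H7

open Finset Cfsg.Agent.H3 Sv MulAction
open scoped ComplexConjugate MatrixGroups Pointwise

variable {G : Type*} [Group G]

theorem geo [Finite G] {Ω : Type*} [MulAction G Ω] [Finite Ω] {p e k : ℕ} (hp : p.Prime)
    (hk : 2 ≤ k) (hkp : k ≤ p) {a : Ω} {y : G} (hy : orderOf y = e) (he : 1 < e) (hya : y • a = a)
    (hst : ∀ b : Ω, Nat.card (stabilizer G b) = p * e)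
    (hp1 : ∀ z : G, orderOf z = p → ∀ b c : Ω, z • b = b → z • c = c → c = b)
    (hfix : ∀ g ∈ Subgroup.zpowers y, g ≠ 1 → (fixedBy Ω g).ncard = k)
    (hconj : ∀ b, y • b = b → ∃ c : G, c • a = b ∧ c⁻¹ * y * c ∈ Subgroup.zpowers y) :
    ∃ M : Subgroup G, Nat.card M = e * k ∧ ((∀ w ∈ M, w ≠ 1 → ∃ b : Ω, w • b = b) →
      (∀ d, d ∣ k → d ∣ p * e → d ∣ 2) → k ≤ 2 ∨ e ∣ 2) := by
  haveI := Fact.mk hp
  have hy1 : y ≠ 1 := by rintro rfl; simp at hy; omega
  have hE0 : ∀ g ∈ Subgroup.zpowers y, ∀ b ∈ fixedBy Ω y, g • b = b := by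
    rintro _ ⟨i, rfl⟩ b hb; exact mem_fixedBy_zpow hb i
  have hF := hfix y (Subgroup.mem_zpowers y) hy1
  have hF' : ∀ g ∈ Subgroup.zpowers y, g ≠ 1 → fixedBy Ω y = fixedBy Ω g := fun g hg h1 =>
    Set.eq_of_subset_of_ncard_le (hE0 g hg) (by rw [hF, hfix g hg h1])
  set M := stabilizer G (fixedBy Ω y) with hM
  have hM1 : ∀ g, g ∈ M ↔ ∀ b ∈ fixedBy Ω y, g • b ∈ fixedBy Ω y := fun g => by
    rw [hM, mem_stabilizer_set_iff_smul_set_subset (Set.toFinite _), Set.smul_set_subset_iff]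
  have hEM : Subgroup.zpowers y ≤ M := fun g hg => (hM1 g).2 fun b hb => by rwa [hE0 g hg b hb]
  have hE : ∀ b ∈ fixedBy Ω y, M ⊓ stabilizer G b = Subgroup.zpowers y := fun b hb => by
    have h1 : Subgroup.zpowers y ≤ M ⊓ stabilizer G b := fun g hg => ⟨hEM hg, hE0 g hg b hb⟩
    obtain ⟨r, hr⟩ := Subgroup.card_dvd_of_le h1
    have h2 := Subgroup.card_dvd_of_le (inf_le_right : M ⊓ stabilizer G b ≤ _)
    rw [Nat.card_zpowers, hy] at hr
    rw [hr, hst, mul_comm e, Nat.mul_dvd_mul_iff_right (by omega), Nat.dvd_prime hp] at h2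
    rcases h2 with rfl | rfl
    · exact (Subgroup.eq_of_le_of_card_ge h1 (by rw [hr, Nat.card_zpowers, hy, mul_one])).symm
    obtain ⟨⟨z, hz⟩, ho⟩ := exists_prime_orderOf_dvd_card' (G := ↥(M ⊓ stabilizer G b)) r
      (hr ▸ dvd_mul_left _ _)
    rw [Subgroup.orderOf_mk] at ho
    have h3 := ncard_modEq_of_isPGroup (G := Subgroup.zpowers z) hp
      (IsPGroup.of_card (n := 1) (by rw [Nat.card_zpowers, ho, pow_one])) (fixedBy Ω y)
      (Set.toFinite _) fun g => (hM1 g).1 (Subgroup.zpowers_le.2 hz.1 g.2)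
    rw [fixedPoints_zpowers, hF, show fixedBy Ω y ∩ fixedBy Ω z = {b} from
      Set.eq_singleton_iff_unique_mem.2 ⟨⟨hb, hz.2⟩, fun c hc => hp1 z ho b c hz.2 hc.2⟩,
      Set.ncard_singleton] at h3
    have := Nat.le_of_dvd (by omega) ((Nat.modEq_iff_dvd' (by omega)).1 h3.symm)
    omega
  have ht : ∀ b ∈ fixedBy Ω y, ∃ m ∈ M, m • a = b := fun b hb => by
    obtain ⟨c, h1, h2⟩ := hconj b hb
    refine ⟨c, (hM1 c).2 fun d hd => ?_, h1⟩
    have := hE0 _ h2 d hd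
    rwa [mul_smul, mul_smul, inv_smul_eq_iff] at this
  refine ⟨M, ?_, fun H1 H2 => ?_⟩
  · rw [← card_orbit_mul_card_stabilizer (G := M) a, stabilizer_subgroup_eq,
      ← Subgroup.inf_subgroupOf_left, hE a hya,
      Nat.card_congr (Subgroup.subgroupOfEquivOfLe hEM).toEquiv, Nat.card_zpowers, hy, mul_comm,
      Nat.card_coe_set_eq, ← hF]
    congr 2
    ext b
    exact ⟨by rintro ⟨g, rfl⟩; exact (hM1 g).1 g.2 a hya, fun hb =>
      let ⟨m, h1, h2⟩ := ht b hb; ⟨⟨m, h1⟩, h2⟩⟩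
  have h1 : ∀ w ∈ M, w ∉ Subgroup.zpowers y → w * w = 1 := fun w hw hwE => by
    obtain ⟨b, hb⟩ := H1 w hw (by rintro rfl; exact hwE (one_mem _))
    rw [← sq, ← orderOf_dvd_iff_pow_eq_one]
    refine H2 _ ?_ (hst b ▸ (stabilizer G b).orderOf_dvd_natCard hb)
    rw [← hF, ← Nat.card_zpowers]
    refine card_dvd_ncard_of_semiregular _ (Set.toFinite _)
      (fun g => (hM1 g).1 (Subgroup.zpowers_le.2 hw g.2)) fun c hc g hg => Subtype.ext ?_
    by_contra h2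
    have h3 : (g : G) ∈ Subgroup.zpowers y := (hE c hc).le ⟨Subgroup.zpowers_le.2 hw g.2, hg⟩
    refine hwE ((hE b ?_).le ⟨hw, hb⟩)
    rw [hF' g h3 h2]
    exact (Subgroup.zpowers_le (H := stabilizer G b)).2 hb g.2
  have h2 : ∀ w ∈ M, w ∉ Subgroup.zpowers y → w * y * w⁻¹ = y⁻¹ := fun w hw hwE => by
    rw [inv_eq_of_mul_eq_one_left (h1 w hw hwE), eq_inv_iff_mul_eq_one, mul_assoc]
    exact h1 _ (M.mul_mem hw (hEM (Subgroup.mem_zpowers y))) fun e =>
      hwE ((Subgroup.mul_mem_cancel_right _ (Subgroup.mem_zpowers y)).1 e)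
  refine or_iff_not_imp_left.2 fun h3 => ?_
  obtain ⟨b, hb, c, hc, hbc⟩ := (Set.one_lt_ncard (s := fixedBy Ω y \ {a})).1 (by
    rw [Set.ncard_diff_singleton_of_mem (show a ∈ fixedBy Ω y from hya), hF]; omega)
  obtain ⟨u, hu, rfl⟩ := ht b hb.1
  obtain ⟨v, hv, rfl⟩ := ht c hc.1
  have hu' : u ∉ Subgroup.zpowers y := fun e => hb.2 (hE0 u e a hya)
  have hv' : v ∉ Subgroup.zpowers y := fun e => hc.2 (hE0 v e a hya)
  have h4 := h2 _ (M.mul_mem hu hv) fun e => hbc (by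
    have := hE0 _ e a hya
    rw [mul_smul, smul_eq_iff_eq_inv_smul, inv_eq_of_mul_eq_one_left (h1 u hu hu')] at this
    exact this.symm)
  rw [show u * v * y * (u * v)⁻¹ = u * (v * y * v⁻¹) * u⁻¹ by group, h2 v hv hv',
    show u * y⁻¹ * u⁻¹ = (u * y * u⁻¹)⁻¹ by group, h2 u hu hu', inv_inv] at h4
  rw [← hy, orderOf_dvd_iff_pow_eq_one, sq]
  exact mul_eq_one_iff_eq_inv.2 h4

variable {p : ℕ} [Fact p.Prime] {x : G} {K : Subgroup G}

theorem D1.exists_avg [Fintype G] (h : D1 p x K) {χ : G → ℂ} (hχ : IsCharacter G χ)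
    [Fintype (Subgroup.normalizer (Subgroup.zpowers x : Set G))] :
    ∃ Ψ : Subgroup.normalizer (Subgroup.zpowers x : Set G) → ℂ, IsCharacter _ Ψ ∧
      (∀ g, p * Ψ g = ∑ a : ZMod p, χ (xp x a * g)) ∧ classInner Ψ (fun _ => 1) =
        classInner (fun g : Subgroup.normalizer (Subgroup.zpowers x : Set G) => χ g) (fun _ => 1) := by
  letI := Fintype.ofFinite ((Subgroup.zpowers x).subgroupOf
    (Subgroup.normalizer (Subgroup.zpowers x : Set G)))
  refine ⟨avg ((Subgroup.zpowers x).subgroupOf _) fun g => χ g, (hχ.res _).avg, fun g => ?_, ?_⟩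
  · rw [avg_apply, Nat.card_congr (Subgroup.subgroupOfEquivOfLe Subgroup.le_normalizer).toEquiv,
      Nat.card_zpowers, h.ord, mul_inv_cancel_left₀ p_ne_zero]
    symm
    refine Fintype.sum_bijective (fun a => ⟨⟨xp x a, Subgroup.le_normalizer
      (Subgroup.npow_mem_zpowers _ _)⟩, Subgroup.npow_mem_zpowers _ _⟩)
      ⟨fun a b e => h.xp_inj (congrArg (fun z => z.1.1) e), ?_⟩ _ _ fun a => rfl
    rintro ⟨⟨z, hz⟩, hz'⟩
    obtain ⟨k, rfl⟩ := (mem_powers_iff_mem_zpowers.2 (show z ∈ Subgroup.zpowers x from hz'))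
    exact ⟨k, Subtype.ext (Subtype.ext (h.xp_natCast k))⟩
  · rw [classInner_avg_left, avg_of_forall fun _ _ _ => rfl]

theorem D1.vanish [Finite G] (h : D1 p x K) (hK : Nat.card K = 1) {χ : G → ℂ}
    (hχ : IsCharacter G χ) (h0 : ∑ a : ZMod p, χ (xp x a) = 0) {g : G}
    (hg : g ∈ Subgroup.normalizer (Subgroup.zpowers x : Set G)) (hg' : g ∉ Subgroup.zpowers x) :
    χ g = 0 := by
  letI := Fintype.ofFinite G
  letI := Fintype.ofFinite (Subgroup.normalizer (Subgroup.zpowers x : Set G))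
  obtain ⟨Ψ, h1, h2, -⟩ := h.exists_avg hχ
  have h3 := h2 1
  simp only [OneMemClass.coe_one, mul_one, h0, mul_eq_zero, p_ne_zero, false_or] at h3
  have h4 := h2 ⟨g, hg⟩
  rw [h1.eq_zero_of_apply_one h3, Finset.sum_congr rfl (g := fun _ => χ g) fun a _ => ?_] at h4
  · simpa [h.prime.ne_zero] using h4
  obtain ⟨c, -, hc⟩ := exists_conj_of_fpf (N := (Subgroup.zpowers x).subgroupOf
    (Subgroup.normalizer (Subgroup.zpowers x : Set G))) (g := ⟨g, hg⟩) (n := ⟨xp x a,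
      Subgroup.le_normalizer (Subgroup.npow_mem_zpowers _ _)⟩) (fun n hn e => by
        by_contra h5
        exact hg' ((SC.of_zpowers h.prime h.ord (h.cent_eq hK) n hn fun e => h5 (Subtype.ext e)).le
          (Subgroup.mem_centralizer_singleton_iff.2 (congrArg Subtype.val e).symm)))
    (Subgroup.npow_mem_zpowers _ _)
  exact (congrArg χ (congrArg Subtype.val hc)).symm.trans (hχ.isClassFunction g c)

theorem D1.mul_inner_le [Fintype G] (h : D1 p x K) {χ : G → ℂ} (hχ : IsCharacter G χ) {n m : ℕ}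
    (hn : classInner (indFun (Subgroup.normalizer (Subgroup.zpowers x : Set G)) fun _ => 1) χ = n)
    (hm : ∑ a : ZMod p, χ (xp x a) = m) : p * n ≤ m := by
  letI := Fintype.ofFinite (Subgroup.normalizer (Subgroup.zpowers x : Set G))
  obtain ⟨Ψ, h1, h2, h3⟩ := h.exists_avg hχ
  obtain ⟨c, hc1, -, hc3⟩ := exists_dec h1
  rw [classInner_indFun_left _ hχ.isClassFunction, ← conj_classInner, ← h3] at hn
  have h4 : c (oneI _) = n := by
    have : classInner Ψ (fun _ => 1) = _ := hc1 (oneI _)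
    rw [this, map_natCast] at hn
    exact_mod_cast hn
  have h5 := h2 1
  simp only [OneMemClass.coe_one, mul_one, hm, ← h1.cast_charDegree] at h5
  have h6 : p * charDegree Ψ = m := by exact_mod_cast h5
  rw [← h6, ← hc3, ← h4]
  refine Nat.mul_le_mul_left _ (le_trans ?_ (Finset.single_le_sum (f := fun χ : IrrCharacter _ =>
    c χ * charDegree χ.1) (fun _ _ => Nat.zero_le _) (Finset.mem_univ (oneI _))))
  simp [charDegree_oneI]

theorem D1.card_fixedBy [Fintype G] (h : D1 p x K) (g : G) :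
    (Nat.card (fixedBy (Sylow p G) g) : ℂ) =
      indFun (Subgroup.normalizer (Subgroup.zpowers x : Set G)) (fun _ => 1) g := by
  have hP : IsPGroup p (Subgroup.zpowers x) :=
    IsPGroup.of_card (n := 1) (by rw [Nat.card_zpowers, h.ord, pow_one])
  rw [card_fixedBy_eq_indFun (hP.toSylow h.idx), Sylow.stabilizer_eq_normalizer]
  rfl

variable [Fintype K] {h : D1 p x K} {X Y : Finset (IrrCharacter G)} {δ : IrrCharacter G → ℤ} {ε : ℤ}

theorem Br.split [Finite G] (hB : Br h X Y δ ε) : ∃ A B : Finset (IrrCharacter G),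
    (∀ {M : Type} [AddCommMonoid M] (f : IrrCharacter G → M),
      ∑ χ ∈ X, f χ = f (oneI G) + ∑ χ ∈ A, f χ + ∑ χ ∈ B, f χ) ∧
    (∀ χ ∈ A, χ ∈ X ∧ χ ≠ oneI G ∧ δ χ = 1) ∧ (∀ χ ∈ B, χ ∈ X ∧ χ ≠ oneI G ∧ δ χ = -1) ∧
    ∀ χ ∈ X, δ χ = -1 → χ ∈ B := by
  classical
  refine ⟨(X.erase (oneI G)).filter (δ · = 1), (X.erase (oneI G)).filter (¬ δ · = 1), fun f => ?_,
    fun χ hχ => ?_, fun χ hχ => ?_, fun χ hχ h1 => Finset.mem_filter.2 ⟨Finset.mem_erase.2
      ⟨by rintro rfl; rw [hB.δ_one] at h1; omega, hχ⟩, by omega⟩⟩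
  · rw [add_assoc, Finset.sum_filter_add_sum_filter_not, Finset.add_sum_erase _ _ hB.one_mem]
  · simp only [Finset.mem_filter, Finset.mem_erase] at hχ
    exact ⟨hχ.1.2, hχ.1.1, hχ.2⟩
  · simp only [Finset.mem_filter, Finset.mem_erase] at hχ
    exact ⟨hχ.1.2, hχ.1.1, (hB.sign χ hχ.1.2).resolve_left hχ.2⟩

theorem cz_eq (hK : Nat.card K = 1) (χ : G → ℂ) (a : ZMod p) : cz K x χ a = χ (xp x a) :=
  cz_of_forall fun y hy => by rw [Subgroup.card_eq_one.1 hK] at hy; rw [hy, mul_one]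

theorem Br.perm_formula [Fintype G] (hB : Br h X Y δ ε) (hK : Nat.card K = 1) (hε : ε = -1)
    {A B : Finset (IrrCharacter G)} (hs : ∀ {M : Type} [AddCommMonoid M] (f : IrrCharacter G → M),
      ∑ χ ∈ X, f χ = f (oneI G) + ∑ χ ∈ A, f χ + ∑ χ ∈ B, f χ) {n : ℕ}
    (hn : Nat.card (Sylow p G) = n * p + 1)
    (hA : ∀ χ ∈ A, δ χ = 1 ∧ charDegree (χ : G → ℂ) = n * p + 1)
    (hB' : ∀ χ ∈ B, δ χ = -1 ∧ charDegree (χ : G → ℂ) + 1 = p) {θ : IrrCharacter G} (hθ : θ ∈ Y)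
    (hd : Y.card * charDegree (θ : G → ℂ) = n * p + 1)
    (hnum : Nat.card (Eg h) * (n * p + 1) + n = n * p + (n + 1) * (B.card * (p - 1)))
    {g : G} (hg : ¬ p ∣ orderOf g) (hg1 : g ≠ 1) :
    (Nat.card (fixedBy (Sylow p G) g) : ℂ) = (n + 1) * (1 - ∑ χ ∈ B, (χ : G → ℂ) g) := by
  classical
  have hp : p.Prime := Fact.out
  set N := Subgroup.normalizer (Subgroup.zpowers x : Set G)
  letI := Fintype.ofFinite N
  have hπ : IsCharacter G (indFun N fun _ => 1) := isCharacter_one.ind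
  obtain ⟨c, m, h1, h2, h3, h4, h5⟩ := hB.dec_const hπ (γ := 1) fun g hg => by
    rw [h.indFun_sing (fun _ _ _ => rfl) (h.orderOf_eq hK hg), Int.cast_one]
  have h6 : charDegree (indFun N fun _ => 1) = n * p + 1 := charDegree_eq (by
    rw [← h.card_fixedBy, ← hn, fixedBy_one_eq_univ, Nat.card_congr (Equiv.Set.univ _)])
  have h7 : c (oneI G) = 1 := by
    have := h1 (oneI G)
    rw [classInner_indFun_left _ (oneI G).2.isClassFunction] at this
    exact_mod_cast this.symm.trans isIrrCharacter_one.inner_self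
  have hZ : ∀ {M : Type} [AddCommMonoid M] (f : IrrCharacter G → M), ∑ χ, f χ =
      f (oneI G) + ∑ χ ∈ A, f χ + ∑ χ ∈ B, f χ + ∑ χ ∈ Y, f χ + ∑ χ ∈ (X ∪ Y)ᶜ, f χ := fun f => by
    rw [← hs, ← Finset.sum_union hB.disj, Finset.sum_add_sum_compl]
  rw [hs, h7, hB.δ_one, hε, Finset.sum_congr rfl (s₁ := A) (g := fun χ => (c χ : ℤ)) fun χ hχ => by
    rw [(hA χ hχ).1, mul_one], Finset.sum_congr rfl (s₁ := B) (g := fun χ => -(c χ : ℤ)) fun χ hχ => by
    rw [(hB' χ hχ).1, mul_neg, mul_one], Finset.sum_neg_distrib, ← Nat.cast_sum, ← Nat.cast_sum] at h5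
  rw [hZ, h6, h7, charDegree_oneI, Finset.sum_congr rfl (s₁ := A)
    (g := fun χ => c χ * (n * p + 1)) fun χ hχ => by
    rw [(hA χ hχ).2], Finset.sum_congr rfl (s₁ := Y) (g := fun _ => m * charDegree (θ : G → ℂ))
    fun χ hχ => by rw [h4 χ hχ, hB.deg_const hχ hθ], Finset.sum_const, smul_eq_mul, mul_left_comm, hd,
    ← Finset.sum_mul] at h3
  have h8 : ∑ χ ∈ A, c χ = 0 := by
    by_contra e
    have := Nat.le_mul_of_pos_left (n * p + 1) (Nat.pos_of_ne_zero e)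
    omega
  have h9 : m = 0 := by
    by_contra e
    have := Nat.le_mul_of_pos_left (n * p + 1) (Nat.pos_of_ne_zero e)
    omega
  have h10 : ∑ χ ∈ B, c χ = 0 := by omega
  rw [Finset.sum_eq_zero_iff] at h10
  rw [h8, h9, Finset.sum_eq_zero (s := B) fun χ hχ => by rw [h10 χ hχ, zero_mul]] at h3
  rw [Finset.sum_eq_zero_iff] at h8
  have hR : ∀ g, ¬ p ∣ orderOf g → ∑ χ ∈ (X ∪ Y)ᶜ, (χ : G → ℂ) 1 * (χ : G → ℂ) g =
      regChar G g + p * (n - (n + 1) * ∑ χ ∈ B, (χ : G → ℂ) g) := fun g hg => by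
    have h11 := hB.rel θ hθ g hg
    rw [hs, hB.δ_one, hε, Finset.sum_congr rfl (s₁ := A) (g := fun χ => (χ : G → ℂ) g) fun χ hχ => by
      rw [(hA χ hχ).1, Int.cast_one, one_mul], Finset.sum_congr rfl (s₁ := B)
      (g := fun χ => -(χ : G → ℂ) g) fun χ hχ => by rw [(hB' χ hχ).1]; simp,
      Finset.sum_neg_distrib] at h11
    have h12 : (Y.card : ℂ) * (θ : G → ℂ) 1 = n * p + 1 := by
      rw [← θ.2.cast_charDegree]; exact_mod_cast hd
    rw [← sum_irr_degree_mul, hZ, Finset.sum_congr rfl (s₁ := A)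
      (g := fun χ => (n * p + 1) * (χ : G → ℂ) g) fun χ hχ => by
        rw [← χ.2.cast_charDegree, (hA χ hχ).2]; simp, Finset.sum_congr rfl (s₁ := B)
      (g := fun χ => (p - 1) * (χ : G → ℂ) g) fun χ hχ => by
        rw [← χ.2.cast_charDegree, ← (hB' χ hχ).2]; simp, Finset.sum_congr rfl (s₁ := Y)
      (g := fun _ => (θ : G → ℂ) 1 * (θ : G → ℂ) g) fun χ hχ => by
        rw [hB.agree χ hχ θ hθ g hg, hB.agree χ hχ θ hθ 1 (by simp [hp.one_lt.ne'])],
      Finset.sum_const, nsmul_eq_mul, ← Finset.mul_sum, ← Finset.mul_sum]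
    simp only [oneI] at h11 ⊢
    push_cast at h11
    linear_combination (-(n * p + 1 : ℂ)) * h11 - (θ : G → ℂ) g * h12
  have h11 : ∀ χ ∈ (X ∪ Y)ᶜ, p * c χ * charDegree (χ : G → ℂ) ≤
      charDegree (χ : G → ℂ) * charDegree (χ : G → ℂ) := fun χ hχ => by
    rw [Finset.mem_compl, Finset.mem_union, not_or] at hχ
    refine Nat.mul_le_mul_right _ (h.mul_inner_le χ.2.isCharacter (h1 χ) ?_)
    rw [sum_units, xp_zero, Finset.sum_eq_zero fun a _ => by
      rw [← cz_eq hK (χ : G → ℂ), hB.out χ hχ.1 hχ.2], add_zero, χ.2.cast_charDegree]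
  have h12 := (Finset.sum_eq_sum_iff_of_le h11).1 (by
    have h13 := hR 1 (by simp [hp.one_lt.ne'])
    have h14 : ∑ χ ∈ (X ∪ Y)ᶜ, c χ * charDegree (χ : G → ℂ) = n * p := by omega
    rw [regChar_one, h.card_eq_mul.2, hK, hn, Finset.sum_congr rfl (s₁ := B)
      (g := fun _ => ((p - 1 : ℕ) : ℂ)) fun χ hχ => by
        rw [← χ.2.cast_charDegree, ← (hB' χ hχ).2]; simp, Finset.sum_const, nsmul_eq_mul,
      mul_one] at h13
    have h15 := congrArg (Nat.cast : ℕ → ℂ) hnum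
    simp only [mul_assoc, ← Finset.mul_sum, h14]
    apply Nat.cast_injective (R := ℂ)
    simp only [← fun χ : IrrCharacter G => χ.2.cast_charDegree] at h13
    push_cast at h13 h15 ⊢
    linear_combination -h13 - p * h15)
  have h13 := hR g hg
  rw [regChar_of_ne hg1, zero_add] at h13
  rw [h.card_fixedBy, h2, Finset.sum_apply, hZ, h7, Finset.sum_eq_zero (s := A) fun χ hχ => by
    simp [h8 χ hχ], Finset.sum_eq_zero (s := B) fun χ hχ => by simp [h10 χ hχ],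
    Finset.sum_eq_zero (s := Y) fun χ hχ => by simp [h4 χ hχ, h9]]
  apply mul_left_cancel₀ (p_ne_zero (p := p))
  rw [Finset.sum_congr rfl (s₁ := (X ∪ Y)ᶜ) (g := fun χ => p * ((c χ : ℂ) • (χ : G → ℂ)) g) fun χ hχ => by
    rw [← χ.2.cast_charDegree, ← Nat.eq_of_mul_eq_mul_right χ.2.charDegree_pos (h12 χ hχ)]
    simp [mul_assoc], ← Finset.mul_sum] at h13
  simp only [oneI, Nat.cast_one, one_smul]
  linear_combination h13

end Cfsg.Agent.H7
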