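import Mathlib
import Cfsg.Agent.H7.BR3

/-! The Brauer-Reynolds theorem. -/

namespace Cfsg.Agent.H7

open Finset Cfsg.Agent.H3 Sv MulAction
open scoped ComplexConjugate MatrixGroups Pointwise

variable {G : Type*} [Group G] {p : ℕ} [Fact p.Prime] {x : G} {K : Subgroup G}

theorem one_lt_degree' [Finite G] (hG : commutator G = ⊤) {χ : IrrCharacter G} (h1 : χ ≠ oneI G) :
    1 < charDegree (χ : G → ℂ) := by
  by_contra h2
  have h3 := χ.2.charDegree_pos
  obtain ⟨lam, hl⟩ := χ.2.isCharacter.exists_linear (by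
    rw [← χ.2.cast_charDegree, show charDegree (χ : G → ℂ) = 1 by omega, Nat.cast_one])
  refine h1 (Subtype.ext (funext fun g => ?_))
  have : g ∈ lam.ker := Abelianization.commutator_subset_ker lam (hG ▸ Subgroup.mem_top g)
  rw [hl]; simp [oneI, MonoidHom.mem_ker.1 this]

/-- the Sylow subgroup generated by `x` -/
def D1.syl [Finite G] (h : D1 p x K) : Sylow p G :=
  (IsPGroup.of_card (n := 1) (by rw [Nat.card_zpowers, h.ord, pow_one])).toSylow h.idx

theorem D1.coe_syl [Finite G] (h : D1 p x K) : (h.syl : Subgroup G) = Subgroup.zpowers x := rfl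

theorem D1.mem_of_normal [Finite G] (h : D1 p x K) {N : Subgroup G} [hN : N.Normal]
    (hp : p ∣ Nat.card N) : x ∈ N := by
  obtain ⟨⟨z, hz⟩, ho⟩ := exists_prime_orderOf_dvd_card' (G := N) p hp
  rw [Subgroup.orderOf_mk] at ho
  obtain ⟨c, a, e⟩ := h.exists_conj_of_order ho
  have h1 := hN.conj_mem z hz c
  rw [e] at h1
  exact Subgroup.zpowers_le.2 h1 ((h.zpowers_pow (not_dvd_val a.ne_zero)).ge (Subgroup.mem_zpowers x))

theorem D1.commutator_le [Finite G] (h : D1 p x K) (hK : Nat.card K = 1) {N : Subgroup G}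
    [hN : N.Normal] (hp : p ∣ Nat.card N) : commutator G ≤ N := by
  have h1 := h.mem_of_normal hp
  obtain ⟨n₀, -, h2, -⟩ := h.exists_gen
  have h3 : ∀ g : G ⧸ N, g ∈ Subgroup.zpowers (n₀ : G ⧸ N) := fun g => by
    obtain ⟨g, rfl⟩ := QuotientGroup.mk_surjective g
    obtain ⟨a, ha, b, hb, rfl⟩ := exists_mul_of_sup_normal
      (h.syl.normalizer_sup_eq_top' (Subgroup.zpowers_le.2 h1)) g
    obtain ⟨i, j, y, hy, rfl⟩ := h2 a ha
    rw [Subgroup.card_eq_one.1 hK, Subgroup.mem_bot] at hy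
    rw [hy, mul_one, mul_assoc, QuotientGroup.mk_mul_of_mem _ (N.mul_mem (N.pow_mem h1 j) hb)]
    exact ⟨i, by simp⟩
  haveI : IsCyclic (G ⧸ N) := ⟨⟨_, h3⟩⟩
  exact Subgroup.Normal.quotient_commutative_iff_commutator_le.1 inferInstance

theorem D1.simple [Finite G] (h : D1 p x K) (hK : Nat.card K = 1) (hG : commutator G = ⊤)
    (hO : ∀ N : Subgroup G, N.Normal → ¬ p ∣ Nat.card N → N = ⊥) :
    IsSimpleGroup G ∧ ¬ IsMulCommutative G := by
  have hx : x ≠ 1 := by rintro rfl; exact h.prime.one_lt.ne (by simpa using h.ord)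
  haveI : Nontrivial G := ⟨⟨x, 1, hx⟩⟩
  refine ⟨⟨fun N hN => or_iff_not_imp_left.2 fun h1 => top_le_iff.1
    (hG ▸ h.commutator_le hK (by_contra fun e => h1 (hO N hN e)))⟩, fun hc => ?_⟩
  rw [(commutator_eq_bot_iff G).2 hc] at hG
  exact bot_ne_top hG

theorem D1.mem_zpowers [Finite G] (h : D1 p x K) (hK : Nat.card K = 1) {g : G}
    (hg : g ∈ Subgroup.normalizer (Subgroup.zpowers x : Set G)) (hp : p ∣ orderOf g) :
    g ∈ Subgroup.zpowers x := by
  simpa using h.mem_normalizer_of_conj (c := 1) (h.orderOf_eq hK hp) (by simpa using hg)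

theorem D1.card_normalizer [Finite G] (h : D1 p x K) (hK : Nat.card K = 1) :
    Nat.card (Subgroup.normalizer (Subgroup.zpowers x : Set G)) = p * Nat.card (Eg h) := by
  have h1 := card_sylow_mul_card_normalizer h.syl
  rw [h.card_eq_mul.2, hK, mul_one, mul_comm _ (Nat.card (Sylow p G))] at h1
  exact Nat.eq_of_mul_eq_mul_left Nat.card_pos h1

theorem D1.sc [Finite G] (h : D1 p x K) (hK : Nat.card K = 1) (Q : Sylow p G) :
    SC (Q : Subgroup G) := SC.sylow (P := h.syl) (SC.of_zpowers h.prime h.ord (h.cent_eq hK)) Q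

theorem D1.exists_gen' [Finite G] (h : D1 p x K) (hK : Nat.card K = 1) (he : 1 < Nat.card (Eg h)) :
    ∃ y ∈ Subgroup.normalizer (Subgroup.zpowers x : Set G), orderOf y = Nat.card (Eg h) ∧
      ∀ g ∈ Subgroup.normalizer (Subgroup.zpowers x : Set G), g ∉ Subgroup.zpowers x →
        ∃ u ∈ Subgroup.zpowers x, u * g * u⁻¹ ∈ Subgroup.zpowers y := by
  obtain ⟨y, hy, h1, -⟩ := h.exists_gen
  have h2 : ∀ g ∈ Subgroup.normalizer (Subgroup.zpowers x : Set G),
      ∃ a ∈ Subgroup.zpowers y, ∃ b ∈ Subgroup.zpowers x, g = b * a := fun g hg => by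
    obtain ⟨i, j, z, hz, e⟩ := h1 g⁻¹ (inv_mem hg)
    rw [Subgroup.card_eq_one.1 hK, Subgroup.mem_bot] at hz
    exact ⟨_, inv_mem (Subgroup.npow_mem_zpowers y i), _, inv_mem (Subgroup.npow_mem_zpowers x j),
      by rw [← mul_inv_rev, ← mul_one (_ * _), ← hz, ← e, inv_inv]⟩
  have h3 := h.card_normalizer hK
  have h4 : Nat.card (Eg h) ≤ orderOf y := by
    have := Nat.card_le_card_of_surjective (fun z : Subgroup.zpowers x × Subgroup.zpowers y =>
      (⟨z.1 * z.2, mul_mem (Subgroup.le_normalizer z.1.2) (Subgroup.zpowers_le.2 hy z.2.2)⟩ :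
        Subgroup.normalizer (Subgroup.zpowers x : Set G))) fun g =>
      let ⟨a, ha, b, hb, e⟩ := h2 g g.2; ⟨⟨⟨b, hb⟩, ⟨a, ha⟩⟩, Subtype.ext e.symm⟩
    rw [h3, Nat.card_prod, Nat.card_zpowers, Nat.card_zpowers, h.ord] at this
    exact Nat.le_of_mul_le_mul_left this h.prime.pos
  have h5 : ¬ p ∣ orderOf y := fun e => by
    have : Subgroup.normalizer (Subgroup.zpowers x : Set G) ≤ Subgroup.zpowers x := fun g hg => by
      obtain ⟨a, ha, b, hb, rfl⟩ := h2 g hg
      exact mul_mem hb (Subgroup.zpowers_le.2 (h.mem_zpowers hK hy e) ha)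
    have := Subgroup.card_le_of_le this
    rw [h3, Nat.card_zpowers, h.ord] at this
    nlinarith [h.prime.pos]
  refine ⟨y, hy, le_antisymm (Nat.le_of_dvd (by omega) (((h.prime.coprime_iff_not_dvd.2 h5).symm).dvd_of_dvd_mul_left
    (h3 ▸ Subgroup.orderOf_dvd_natCard _ hy))) h4, fun g hg hg' => ?_⟩
  obtain ⟨a, ha, b, hb, e⟩ := h2 g hg
  obtain ⟨c, hc1, hc⟩ := exists_conj_of_fpf (N := (Subgroup.zpowers x).subgroupOf
    (Subgroup.normalizer (Subgroup.zpowers x : Set G))) (g := ⟨g, hg⟩) (n := ⟨b⁻¹,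
      Subgroup.le_normalizer (inv_mem hb)⟩) (fun n hn e => by
        by_contra h5
        exact hg' ((h.sc hK h.syl n hn fun e => h5 (Subtype.ext e)).le
          (Subgroup.mem_centralizer_singleton_iff.2 (congrArg Subtype.val e).symm))) (inv_mem hb)
  refine ⟨c, hc1, ?_⟩
  have : (c : G) * g * (c : G)⁻¹ = b⁻¹ * g := congrArg Subtype.val hc
  rwa [this, e, inv_mul_cancel_left]

theorem D1.psl [Finite G] (h : D1 p x K) (hK : Nat.card K = 1) (hG : commutator G = ⊤)
    (hn : Nat.card (Sylow p G) = p + 1) (he : 2 * Nat.card (Eg h) = p - 1)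
    (F : Type*) [Field F] [Fintype F] (hF : Fintype.card F = p) : Nonempty (G ≃* PSL(2, F)) :=
  (h.sc hK h.syl).psl hG (by rw [h.card_sylow, hn]) F (by rw [h.card_sylow, hF]) (by
    rw [h.card_eq_mul.2, hK, hn, hF, show p ^ 2 - 1 = (p + 1) * (p - 1) from Nat.sq_sub_sq _ 1, ← he]
    ring)

theorem div_neg {p n d m : ℕ} (hp : 1 < p) (hD : ∀ u, u * p + 1 ∣ (p - 1) * (n * p + 1) → u = 0 ∨ u = n)
    (hd : d ∣ (p - 1) * (n * p + 1)) (hm : d + 1 = p * m) : d = p - 1 ∨ d = (p - 1) * (n * p + 1) := by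
  obtain ⟨w, hw⟩ := hd
  obtain ⟨q, rfl⟩ : ∃ q, p = q + 1 := ⟨p - 1, by omega⟩
  rw [Nat.add_sub_cancel] at *
  have h1 : w % (q + 1) = 1 := by
    have : w + (q + 1) * (q * n + 1) = 1 + (q + 1) * (m * w) := by nlinarith
    have := congrArg (· % (q + 1)) this
    simpa [Nat.mod_eq_of_lt hp] using this
  have h2 := Nat.div_add_mod' w (q + 1)
  rw [h1] at h2
  rcases hD (w / (q + 1)) (by rw [h2, hw]; exact dvd_mul_left _ _) with e | e <;> rw [e] at h2
  · right; rw [hw, ← h2]; simp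
  · left; rw [← h2] at hw; exact (Nat.eq_of_mul_eq_mul_right (by omega) hw).symm

variable [Fintype K] {h : D1 p x K} {X Y : Finset (IrrCharacter G)} {δ : IrrCharacter G → ℤ} {ε : ℤ}

theorem Br.ker_eq_bot [Finite G] (hB : Br h X Y δ ε) (hG : commutator G = ⊤)
    (hO : ∀ N : Subgroup G, N.Normal → ¬ p ∣ Nat.card N → N = ⊥) {χ : IrrCharacter G}
    (hχ : χ ∈ X ∨ χ ∈ Y) (h1 : χ ≠ oneI G) : charKer (χ : G → ℂ) = ⊥ := by
  haveI := χ.2.isClassFunction.charKer_normal
  refine hO _ inferInstance fun h2 => ?_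
  have h3 : ∀ a : (ZMod p)ˣ, (χ : G → ℂ) (xp x (a : ZMod p) * 1) = charDegree (χ : G → ℂ) := fun a => by
    rw [mul_one, xp, apply_of_mem_charKer (Subgroup.pow_mem _ (h.mem_of_normal h2) _), χ.2.cast_charDegree]
  have h4 := one_lt_degree' hG h1
  rcases hχ with hχ | hχ
  · have := (h3 1).symm.trans (hB.valX χ hχ 1 1 K.one_mem)
    have : (charDegree (χ : G → ℂ) : ℤ) = δ χ := by exact_mod_cast this
    rcases hB.sign χ hχ with e | e <;> omega
  · obtain ⟨j, hj⟩ := hB.valY χ hχ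
    have h5 := Finset.sum_congr rfl fun a (_ : a ∈ Finset.univ) => (h3 a).symm.trans (hj a 1 K.one_mem)
    rw [← Finset.mul_sum, sum_units_eta, Finset.sum_const, Finset.card_univ, ZMod.card_units,
      nsmul_eq_mul] at h5
    have h6 : ((p - 1 : ℕ) : ℤ) * charDegree (χ : G → ℂ) = ε * -Nat.card (Eg h) := by exact_mod_cast h5
    have h7 := Nat.le_of_dvd (by have := h.prime.two_le; omega) (card_Eg_dvd h)
    have h8 := card_Eg_pos h
    rcases hB.eps with e | e <;> rw [e] at h6 <;> nlinarith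

/-- the conclusion of the Brauer-Reynolds theorem -/
def BRC (G : Type*) [Group G] (p : ℕ) : Prop :=
  3 < p ∧ ((∀ (F : Type) [Field F] [Fintype F], Fintype.card F = p → Nonempty (G ≃* PSL(2, F))) ∨
    ∃ m, p = 2 ^ m + 1 ∧ ∀ (F : Type) [Field F] [Fintype F], Fintype.card F = 2 ^ m →
      Nonempty (G ≃* PSL(2, F)) ∧ Nonempty (G ≃* SL(2, F)))

theorem Br.case_two [Fintype G] (hB : Br h X Y δ ε) (hG : commutator G = ⊤)
    (hO : ∀ N : Subgroup G, N.Normal → ¬ p ∣ Nat.card N → N = ⊥) (hε : ε = -1) {n : ℕ}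
    (hn : Nat.card (Sylow p G) = n * p + 1)
    (hX1 : ∀ χ ∈ X, χ ≠ oneI G → δ χ = 1 → charDegree (χ : G → ℂ) = n * p + 1)
    (hX2 : ∀ χ ∈ X, δ χ = -1 → charDegree (χ : G → ℂ) + 1 = p) {θ : IrrCharacter G} (hθ : θ ∈ Y)
    (hd : Y.card * charDegree (θ : G → ℂ) = n * p + 1) : BRC G p := by
  have hp : p.Prime := Fact.out
  obtain ⟨A, B, hs, hA, hB', -⟩ := hB.split
  have hA1 := fun χ hχ => And.intro (hA χ hχ).2.2 (hX1 χ (hA χ hχ).1 (hA χ hχ).2.1 (hA χ hχ).2.2)
  have hB1 := fun χ hχ => And.intro (hB' χ hχ).2.2 (hX2 χ (hB' χ hχ).1 (hB' χ hχ).2.2)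
  have hY := hB.cardY
  have h1 := hs (fun _ => 1)
  have h2 := hB.deg_eq hθ
  rw [← Finset.card_eq_sum_ones, ← Finset.card_eq_sum_ones, ← Finset.card_eq_sum_ones, hB.cardX] at h1
  obtain ⟨q, hq⟩ : ∃ q, p = q + 1 := ⟨p - 1, by have := hp.pos; omega⟩
  rw [hs, hB.δ_one, hε, charDegree_oneI, Finset.sum_congr rfl (s₁ := A) (g := fun _ => (n * p + 1 : ℤ))
    fun χ hχ => by rw [(hA1 χ hχ).1, (hA1 χ hχ).2]; simp, Finset.sum_congr rfl (s₁ := B)
    (g := fun _ => (-q : ℤ)) fun χ hχ => by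
      rw [(hB1 χ hχ).1, show charDegree (χ : G → ℂ) = q by have := (hB1 χ hχ).2; omega]; simp,
    Finset.sum_const, Finset.sum_const, nsmul_eq_mul, nsmul_eq_mul] at h2
  have hθ1 := one_lt_degree' hG fun e => hB.one_not_mem (e ▸ hθ)
  have ht0 : 0 < Y.card := Finset.card_pos.2 ⟨θ, hθ⟩
  have hd' := hd
  set e := Nat.card (Eg h) with he
  generalize Y.card = t at hY hd ht0
  generalize charDegree (θ : G → ℂ) = d at hd h2 hθ1
  have h3 : 1 + A.card * (n * p + 1) + d = B.card * q := by zify; linear_combination h2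
  rw [show p - 1 = q by omega] at hY
  have h4 : (t * A.card + 1) * (n + 1) + t = q := by
    apply Nat.eq_of_mul_eq_mul_left hp.pos
    rw [hq] at h3 hd ⊢
    zify at h1 h3 hd hY ⊢
    linear_combination t * h3 - hd + q * hY - q * t * h1
  obtain ⟨χ, hχ⟩ : B.Nonempty := Finset.card_pos.1 (by by_contra e; simp_all)
  have hb0 := Finset.card_pos.2 ⟨χ, hχ⟩
  have hK : Nat.card K = 1 := by
    by_contra h5
    have := hB.big_X hG (hB' χ hχ).1 (by
      rw [hB.ker_eq_bot hG hO (Or.inl (hB' χ hχ).1) (hB' χ hχ).2.1, le_bot_iff]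
      exact fun e => h5 (Subgroup.card_eq_one.2 e))
    rw [(hB1 χ hχ).1] at this
    have := (hB1 χ hχ).2
    omega
  have hn0 : 0 < n := by rcases n with _ | n; nlinarith; omega
  have hF := fun g hg hg1 => hB.perm_formula hK hε hs hn hA1 hB1 hθ hd' (g := g) (by
    apply Nat.eq_of_mul_eq_mul_left ht0
    rw [← he, hq, Nat.add_sub_cancel]
    zify at h1 h4 hY ⊢
    linear_combination (n * (q + 1) + 1) * hY - (n + 1) * q * hY + (n + 1) * q * t * h1 +
      q * h4) hg hg1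
  have hG' : Nat.card G = p * e * (n * p + 1) := by rw [h.card_eq_mul.2, hK, hn, mul_one]
  have he1 : 1 < e := by omega
  have hep : e < p := by nlinarith
  have hFN : ∀ g ∈ Subgroup.normalizer (Subgroup.zpowers x : Set G), g ∉ Subgroup.zpowers x →
      (fixedBy (Sylow p G) g).ncard = n + 1 := fun g hg hg' => by
    have := hF g (fun e => hg' (h.mem_zpowers hK hg e)) (by rintro rfl; exact hg' (Subgroup.one_mem _))
    rw [Finset.sum_eq_zero fun φ hφ => h.vanish hK φ.2.isCharacter ?_ hg hg', sub_zero, mul_one,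
      Nat.card_coe_set_eq] at this
    · exact_mod_cast this
    rw [sum_units, xp_zero, Finset.sum_congr rfl (g := fun _ => -1) fun a _ => by
      simpa [(hB1 φ hφ).1] using hB.valX φ (hB' φ hφ).1 a 1 K.one_mem, ← φ.2.cast_charDegree,
      Finset.sum_const, Finset.card_univ, nsmul_eq_mul, card_units_cast, ← (hB1 φ hφ).2]
    simp
  obtain ⟨y, hy1, hy2, hy3⟩ := h.exists_gen' hK he1
  rw [← he] at hy2
  have hnp : n + 1 < p := by
    have := Nat.le_mul_of_pos_left (n + 1) (show 0 < t * A.card + 1 by omega)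
    omega
  have hyP : ∀ g : G, g ≠ 1 → orderOf g ∣ e → g ∉ Subgroup.zpowers x := fun g hg1 hg2 hg3 => by
    have h5 := orderOf_dvd_of_mem_zpowers hg3
    rw [h.ord, Nat.dvd_prime hp, orderOf_eq_one_iff, or_iff_right hg1] at h5
    have := Nat.le_of_dvd (by omega) hg2
    omega
  obtain ⟨M, hM1, hM2⟩ := geo (Ω := Sylow p G) (k := n + 1) hp (by omega) hnp.le (a := h.syl)
    hy2 he1 (Sylow.smul_eq_iff_mem_normalizer.2 hy1) (fun b => by
      have := card_eq_card_mul_card_stabilizer (G := G) b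
      rw [hG', hn, mul_comm] at this
      exact (Nat.eq_of_mul_eq_mul_left (by omega) this).symm)
    (fun z hz b c hb hc => by
      obtain ⟨R, hR⟩ := (IsPGroup.of_card (n := 1) (show Nat.card (Subgroup.zpowers z) = _ by
        rw [Nat.card_zpowers, hz, pow_one])).exists_le_sylow
      by_contra h5
      have := (h.sc hK b).eq_one h5 ((smul_sylow_eq_iff (hR (Subgroup.mem_zpowers z))).1 hb) hc
      rw [this, orderOf_one] at hz
      exact hp.one_lt.ne hz)
    (fun g hg hg1 => hFN g (Subgroup.zpowers_le.2 hy1 hg)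
      (hyP g hg1 (hy2 ▸ orderOf_dvd_of_mem_zpowers hg)))
    (fun b hb => by
      obtain ⟨c, rfl⟩ := exists_smul_eq G h.syl b
      have h5 : orderOf (c⁻¹ * y * c) = e := by
        rw [← hy2, ← MulEquiv.orderOf_eq (MulAut.conj c⁻¹) y]; simp
      obtain ⟨u, hu1, hu2⟩ := hy3 (c⁻¹ * y * c) (Sylow.smul_eq_iff_mem_normalizer.1
        (show _ • h.syl = h.syl by rw [mul_smul, mul_smul, hb, inv_smul_smul]))
        (hyP _ (fun e => by rw [e, orderOf_one] at h5; omega) h5.dvd)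
      refine ⟨c * u⁻¹, ?_, by simpa [mul_assoc] using hu2⟩
      rw [mul_smul, (smul_sylow_eq_iff (P := h.syl) (inv_mem hu1)).2 (inv_mem hu1)])
  have h5 : n + 1 ∣ t := by
    have h6 := M.card_subgroup_dvd_card
    rw [hM1, hG', mul_comm p, mul_assoc, Nat.mul_dvd_mul_iff_left (by omega)] at h6
    have h7 : n + 1 ∣ n * p + 1 :=
      (Nat.coprime_of_lt_prime (by omega) hnp hp).symm.dvd_of_dvd_mul_left h6
    have h8 : n + 1 ∣ q := (Nat.dvd_add_right h7).1 ⟨p, by rw [hq]; ring⟩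
    exact (Nat.dvd_add_right (dvd_mul_left _ _)).1 (h4 ▸ h8)
  obtain rfl : t = n + 1 := Nat.dvd_antisymm ((Nat.dvd_add_right (b := n * q)
    (Dvd.dvd.mul_left ⟨_, hY.symm⟩ _)).1 ⟨d, by rw [hd, hq]; ring⟩) h5
  have h6 : e = (n + 1) * A.card + 2 :=
    Nat.eq_of_mul_eq_mul_left n.succ_pos (by rw [hY, ← h4]; simp only [Nat.succ_eq_add_one]; ring)
  have h7 : d + e = p := Nat.eq_of_mul_eq_mul_left n.succ_pos (by
    simp only [Nat.succ_eq_add_one]; rw [mul_add, hd, hY, hq]; ring)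
  have h8 : q.Coprime (p * d) := by
    refine Nat.Coprime.mul_right (by rw [hq]; simp) (hY ▸ Nat.Coprime.mul_left ?_ ?_)
    · exact Nat.isCoprime_iff_coprime.1 ⟨e - A.card, -1, by
        zify at h6 h7 hY hq ⊢; linear_combination hY - h7 - hq + h6⟩
    · exact Nat.isCoprime_iff_coprime.1 ⟨1 - (n + 1), 1, by
        zify at h7 hY hq ⊢; linear_combination h7 + hq - hY⟩
  refine (hM2 (fun w hw hw1 => ?_) (fun r h9 h10 => ?_)).elim (fun h9 => ?_) fun h9 => ?_
  rotate_left 2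
  · obtain rfl : n = 1 := by omega
    exact ⟨by omega, Or.inl fun F _ _ => h.psl hK hG (by omega) (by omega) F⟩
  · obtain ⟨h10, h11⟩ := h.simple hK hG hO
    obtain ⟨m, h12, h13, h14⟩ := hB.thmE h11 hK (le_antisymm (Nat.le_of_dvd two_pos h9) he1)
      (hB' χ hχ).1 (hB1 χ hχ).2
    exact ⟨h13, Or.inr ⟨m, h12, h14⟩⟩
  · have h9 : orderOf w ∣ q := by
      rw [← hY, mul_comm, ← hM1]; exact M.orderOf_dvd_natCard hw
    obtain ⟨r, hr1, hr2⟩ := Nat.exists_prime_and_dvd (orderOf_eq_one_iff.not.2 hw1)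
    have := hF w (fun e => by have := Nat.le_of_dvd (by omega) (e.trans h9); omega) hw1
    rw [Finset.sum_eq_zero fun φ hφ => eq_zero_of_coprime φ.2 (by have := (hB1 φ hφ).2; omega)
      (by rw [hG', ← hd, ← hY]; ring) h8 hr1 (hr2.trans h9) hr2, sub_zero, mul_one] at this
    have h10 : Nat.card (fixedBy (Sylow p G) w) = n + 1 := by exact_mod_cast this
    obtain ⟨b⟩ := (Nat.card_pos_iff.1 (show 0 < Nat.card (fixedBy (Sylow p G) w) by omega)).1
    exact ⟨b, b.2⟩
  · have h11 := Nat.le_of_dvd n.succ_pos h9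
    have h12 := (Nat.coprime_of_lt_prime (n := r) (by rintro rfl; simp at h9) (by omega)
      hp).symm.dvd_of_dvd_mul_left h10
    exact (Nat.dvd_add_right (h9.mul_right _)).1 (h6 ▸ h12)

theorem Br.cases [Fintype G] (hB : Br h X Y δ ε) (hG : commutator G = ⊤)
    (hO : ∀ N : Subgroup G, N.Normal → ¬ p ∣ Nat.card N → N = ⊥) {n : ℕ}
    (hn : Nat.card (Sylow p G) = n * p + 1)
    (hD : ∀ u, u * p + 1 ∣ (p - 1) * (n * p + 1) → u = 0 ∨ u = n) {θ : IrrCharacter G} (hθ : θ ∈ Y) :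
    BRC G p ∨ (Y.card = 1 ∧ charDegree (θ : G → ℂ) < p ∧
      ∃ χ ∈ X, χ ≠ oneI G ∧ p < charDegree (χ : G → ℂ)) := by
  have hp : p.Prime := Fact.out
  have hp1 := hp.one_lt
  have hY := hB.cardY
  have hi := h.card_eq_mul.1
  rw [hn] at hi
  have hdv : ∀ χ ∈ X, charDegree (χ : G → ℂ) ∣ (p - 1) * (n * p + 1) := fun χ hχ =>
    (hB.deg_dvd_X hχ).trans (by rw [← hi, ← hY, mul_assoc]; exact dvd_mul_left _ _)
  have hX1 : ∀ χ ∈ X, χ ≠ oneI G → δ χ = 1 → charDegree (χ : G → ℂ) = n * p + 1 ∧ 0 < n := by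
    intro χ hχ h1 h2
    obtain ⟨m, hm⟩ := hB.deg_X hχ
    have h3 : charDegree (χ : G → ℂ) = m * p + 1 := by rw [h2] at hm; zify; linarith
    have h4 := one_lt_degree' hG h1
    rcases hD m (h3 ▸ hdv χ hχ) with rfl | rfl
    · omega
    · exact ⟨h3, by rcases m with _ | m <;> omega⟩
  have hX2 : ∀ χ ∈ X, δ χ = -1 → charDegree (χ : G → ℂ) = p - 1 ∨
      charDegree (χ : G → ℂ) = (p - 1) * (n * p + 1) := fun χ hχ h2 => by
    obtain ⟨m, hm⟩ := hB.deg_X hχ
    exact div_neg hp1 hD (hdv χ hχ) (m := m) (by rw [h2] at hm; zify; linarith)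
  have hθ1 := one_lt_degree' hG fun e => hB.one_not_mem (e ▸ hθ)
  have ht0 : 0 < Y.card := Finset.card_pos.2 ⟨θ, hθ⟩
  have hθ2 : Y.card * charDegree (θ : G → ℂ) ∣ (p - 1) * (n * p + 1) := by
    rw [← hY, mul_assoc, hi]; exact Nat.mul_dvd_mul_left _ (hB.deg_dvd_Y hθ)
  obtain ⟨m, hm⟩ := hB.deg_Y hθ
  obtain ⟨A, B, hs, hA, hB', hB''⟩ := hB.split
  have h1 := hs (fun _ => 1)
  have h2 := hB.deg_eq hθ
  rw [← Finset.card_eq_sum_ones, ← Finset.card_eq_sum_ones, ← Finset.card_eq_sum_ones, hB.cardX] at h1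
  rw [hs, hB.δ_one, charDegree_oneI, Finset.sum_congr rfl (s₁ := A) (g := fun _ => (n * p + 1 : ℤ))
    fun χ hχ => by rw [(hA χ hχ).2.2, (hX1 χ (hA χ hχ).1 (hA χ hχ).2.1 (hA χ hχ).2.2).1]; simp,
    Finset.sum_congr rfl (s₁ := B) (g := fun χ => -(charDegree (χ : G → ℂ) : ℤ)) fun χ hχ => by
      rw [(hB' χ hχ).2.2]; simp, Finset.sum_const, nsmul_eq_mul, Finset.sum_neg_distrib,
    ← Nat.cast_sum] at h2
  have hS : ∀ χ ∈ X, δ χ = -1 → charDegree (χ : G → ℂ) ≤ ∑ χ ∈ B, charDegree (χ : G → ℂ) :=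
    fun χ h1 h2 => Finset.single_le_sum (f := fun χ : IrrCharacter G => charDegree (χ : G → ℂ))
      (fun _ _ => Nat.zero_le _) (hB'' χ h1 h2)
  generalize ∑ χ ∈ B, charDegree (χ : G → ℂ) = S at h2 hS
  set e := Nat.card (Eg h) with he
  have hYz : (Y.card : ℤ) * e = p - 1 := by rw [← Nat.cast_mul, hY, Nat.cast_sub hp1.le, Nat.cast_one]
  rcases hB.eps with hε | hε
  · rw [hε] at h2 hm
    have h3 : charDegree (θ : G → ℂ) = e := by
      rcases div_neg hp1 hD hθ2 (m := Y.card * m + 1) (by zify; linear_combination Y.card * hm + hYz)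
        with h4 | h4
      · exact Nat.eq_of_mul_eq_mul_left ht0 (h4.trans hY.symm)
      · rw [← hY, mul_assoc] at h4
        have h5 := Nat.eq_of_mul_eq_mul_left ht0 h4
        have h6 : n * p = 0 := by
          rw [h5, h1] at h2
          push_cast at h2
          have : S + B.card * (n * p + 1) + n * p = 0 := by zify; linear_combination -h2
          omega
        rw [h5, h6, zero_add, mul_one]
    obtain ⟨χ, hχ⟩ : A.Nonempty := Finset.card_pos.1 (by
      by_contra h4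
      rw [show A.card = 0 by omega] at h2
      omega)
    obtain ⟨h4, h5⟩ := hX1 χ (hA χ hχ).1 (hA χ hχ).2.1 (hA χ hχ).2.2
    have h6 := Nat.le_mul_of_pos_left p h5
    have h7 := Nat.le_mul_of_pos_left e ht0
    by_cases ht : Y.card = 1
    · exact Or.inr ⟨ht, by omega, χ, (hA χ hχ).1, (hA χ hχ).2.1, by omega⟩
    have hK : Nat.card K = 1 := by
      by_contra h8
      have := hB.big_Y hG hθ (by
        rw [hB.ker_eq_bot hG hO (Or.inr hθ) fun e => hB.one_not_mem (e ▸ hθ), le_bot_iff]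
        exact fun e => h8 (Subgroup.card_eq_one.2 e))
      rw [hε, h3] at this
      omega
    have h8 := hB.small_exc hε hθ h3 (by omega) (D := n * p + 1) fun φ h1 h2 h3 => (hX1 φ h1 h2 h3).1.ge
    obtain ⟨t, ht'⟩ : ∃ t, Y.card = t + 2 := ⟨Y.card - 2, by omega⟩
    rw [← he, mul_add Y.card, hY, ht', show t + 2 - 1 = t + 1 from rfl] at h8
    obtain rfl : t = 0 := by
      by_contra h9
      have := Nat.mul_le_mul (show t + 1 ≤ t + 1 from le_rfl) (show p + 1 ≤ n * p + 1 by omega)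
      have := Nat.le_mul_of_pos_left p (Nat.pos_of_ne_zero h9)
      have : p - 1 + 1 = p := by omega
      nlinarith
    obtain rfl : n = 1 := by
      by_contra h9
      have := Nat.mul_le_mul_right p (show 2 ≤ n by omega)
      omega
    exact Or.inl ⟨by rw [ht'] at hY; omega,
      Or.inl fun F _ _ => h.psl hK hG (by omega) (by rw [← hY, ht']) F⟩
  · rw [hε] at h2 hm
    have h3 : Y.card * charDegree (θ : G → ℂ) = (Y.card * m - 1) * p + 1 := by
      have : 1 ≤ Y.card * m := Nat.mul_pos ht0 (by rcases m with _ | m <;> omega)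
      zify [this]; linear_combination Y.card * hm - hYz
    have h4 : Y.card * charDegree (θ : G → ℂ) = n * p + 1 := by
      rcases hD _ (h3 ▸ hθ2) with h5 | h5 <;> rw [h5] at h3
      · nlinarith
      · exact h3
    refine Or.inl (hB.case_two hG hO hε hn (fun χ h1 h2 h3 => (hX1 χ h1 h2 h3).1)
      (fun χ hχ h5 => ?_) hθ h4)
    have h6 := (hX2 χ hχ h5).resolve_right fun h6 => ?_
    · omega
    have h7 := hB.deg_dvd_X hχ
    rw [← hi, h6, ← hY] at h7
    have h8 := Nat.le_of_mul_le_mul_right (Nat.le_of_dvd (Nat.mul_pos (card_Eg_pos h) (by omega)) h7)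
      (by omega)
    have h9 : Y.card = 1 := by nlinarith [card_Eg_pos h]
    have h10 := hS χ hχ h5
    have h11 := Finset.card_pos.2 ⟨χ, hB'' χ hχ h5⟩
    rw [h9, one_mul] at h4 hY
    rw [h6, ← hY, h1] at h10
    rw [h4] at h2 hθ1
    have : S = 1 + (A.card + 1) * (n * p + 1) := by zify; push_cast at h2; linear_combination -h2
    nlinarith

theorem D1.brc [Finite G] (h : D1 p x K) (hG : commutator G = ⊤)
    (hO : ∀ N : Subgroup G, N.Normal → ¬ p ∣ Nat.card N → N = ⊥) {n : ℕ}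
    (hn : Nat.card (Sylow p G) = n * p + 1)
    (hD : ∀ u, u * p + 1 ∣ (p - 1) * (n * p + 1) → u = 0 ∨ u = n) : BRC G p := by
  letI := Fintype.ofFinite G
  obtain ⟨X, Y, δ, ε, hB⟩ := h.exists_br
  obtain ⟨θ, hθ⟩ := hB.nonempty
  refine (hB.cases hG hO hn hD hθ).elim id ?_
  rintro ⟨h1, -, χ, h2, h3, h4⟩
  obtain ⟨ε', h5⟩ := h.exc_of_top (Subgroup.eq_top_of_card_eq _ (by
    rw [← one_mul (Nat.card _), ← h1, hB.cardY, Nat.card_eq_fintype_card, ZMod.card_units])) χ h3 (by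
      have := hB.cz_X h2 1
      rw [Units.val_one] at this
      rcases hB.sign χ h2 with e | e <;> simp [this, e])
  obtain ⟨X', δ', hB'⟩ := h5.exists_br
  exact (hB'.cases hG hO hn hD (Finset.mem_singleton_self χ)).resolve_right fun e => by omega

end Cfsg.Agent.H7
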