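import Mathlib
import Cfsg.Agent.H7.BR4
import Cfsg.Agent.L.Cores
import Cfsg.Agent.H4.Dick2

/-! Consequences of the Brauer-Reynolds theorem. -/

namespace Cfsg.Agent.H7

open Finset Cfsg.Agent.H3 Sv MulAction
open scoped ComplexConjugate MatrixGroups Pointwise

variable {G : Type*} [Group G] {p : ℕ} [Fact p.Prime] {x : G} {K : Subgroup G}

theorem le_of_dvd_form {p n u : ℕ} (hp : 1 < p) (h : u * p + 1 ∣ (p - 1) * (n * p + 1)) : u ≤ n := by
  obtain ⟨w, hw⟩ := h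
  obtain ⟨q, rfl⟩ : ∃ q, p = q + 1 := ⟨p - 1, by omega⟩
  rw [Nat.add_sub_cancel] at hw
  have h1 : q + 1 ∣ w + 1 := (Nat.dvd_add_right (dvd_mul_right (q + 1) (u * w))).1
    ⟨q * n + 1, by linarith⟩
  have h2 := Nat.le_of_dvd w.succ_pos h1
  by_contra h3
  have := Nat.mul_le_mul (show (n + 1) * (q + 1) + 1 ≤ u * (q + 1) + 1 by nlinarith) (show q ≤ w by omega)
  nlinarith

theorem exists_form {p n u : ℕ} (hp : p.Prime) (hn : u < n) (h : u * p + 1 ∣ (p - 1) * (n * p + 1)) :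
    ∃ k, 0 < k ∧ n * (u + 1) = k * u * p + u ^ 2 + u + k := by
  obtain ⟨v, rfl⟩ : ∃ v, n = u + v + 1 := ⟨n - u - 1, by omega⟩
  obtain ⟨q, rfl⟩ : ∃ q, p = q + 1 := ⟨p - 1, by have := hp.pos; omega⟩
  rw [Nat.add_sub_cancel] at h
  have h1 : u * (q + 1) + 1 ∣ (q + 1) * ((u + 1) * (v + 1)) :=
    (Nat.dvd_add_right ((h.mul_left u).add (dvd_mul_right _ (u + 1)))).1
      ⟨(u + v + 1) * (q + 1) + 1, by ring⟩
  obtain ⟨k, hk⟩ := (show (u * (q + 1) + 1).Coprime (q + 1) by simp).dvd_of_dvd_mul_left h1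
  exact ⟨k, by rcases k with _ | k <;> simp_all, by nlinarith⟩

theorem form_bound {p n u : ℕ} (hp : p.Prime) (h2 : 2 * n < p + 3)
    (h : u * p + 1 ∣ (p - 1) * (n * p + 1)) : u = 0 ∨ u = n := by
  refine or_iff_not_imp_left.2 fun h0 => (le_of_dvd_form hp.one_lt h).eq_or_lt.resolve_right fun h1 => ?_
  obtain ⟨k, hk, e⟩ := exists_form hp h1 h
  obtain ⟨v, rfl⟩ : ∃ v, u = v + 1 := ⟨u - 1, by omega⟩
  obtain ⟨k, rfl⟩ : ∃ v, k = v + 1 := ⟨k - 1, by omega⟩
  nlinarith [Nat.zero_le (k * v * p), Nat.zero_le (k * p), Nat.zero_le (v * p), Nat.zero_le (v ^ 2)]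

theorem exists_card_sylow (p : ℕ) [Fact p.Prime] (G : Type*) [Group G] [Finite G] :
    ∃ n, Nat.card (Sylow p G) = n * p + 1 :=
  ⟨_, ((Nat.div_add_mod' _ p).symm.trans (by
    rw [card_sylow_modEq_one p G, Nat.mod_eq_of_lt (Fact.out : p.Prime).one_lt]))⟩

theorem card_sylow_dvd_of_surjective [Finite G] {H : Type*} [Group H] {f : G →* H}
    (hf : Function.Surjective f) : Nat.card (Sylow p H) ∣ Nat.card (Sylow p G) := by
  haveI := Finite.of_surjective f hf
  obtain ⟨P⟩ : Nonempty (Sylow p G) := inferInstance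
  rw [(P.mapSurjective hf).card_eq_index_normalizer, P.card_eq_index_normalizer,
    ← Subgroup.index_comap_of_surjective _ hf]
  exact Subgroup.index_dvd_of_le (Subgroup.map_le_iff_le_comap.1 (Subgroup.le_normalizer_map f))

theorem card_sylow_quot [Finite G] (P : Sylow p G) (hP : Nat.card P = p) {N : Subgroup G} [N.Normal]
    (hN : ¬ p ∣ Nat.card N) (Q : Sylow p (G ⧸ N)) : Nat.card Q = p := by
  have hp : p.Prime := Fact.out
  have h1 := (P : Subgroup G).card_mul_index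
  rw [hP, Subgroup.card_eq_card_quotient_mul_card_subgroup N] at h1
  obtain ⟨m, hm⟩ := (hp.dvd_mul.1 ⟨_, h1.symm⟩).resolve_right hN
  rw [hm, mul_assoc] at h1
  simpa using card_sylow_of_dvd (k := 1) Q (by rw [pow_one]; exact hm) fun e =>
    P.not_dvd_index (Nat.eq_of_mul_eq_mul_left hp.pos h1 ▸ e.mul_right _)

omit [Fact p.Prime] in
theorem perfect_quot (hG : commutator G = ⊤) (N : Subgroup G) [N.Normal] :
    commutator (G ⧸ N) = ⊤ := by
  have := map_commutator_eq G (QuotientGroup.mk' N)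
  rw [hG, QuotientGroup.range_mk', Subgroup.map_top_of_surjective _ (QuotientGroup.mk'_surjective N)] at this
  exact this.symm

theorem brc_quot [Finite G] (hG : commutator G = ⊤) (P : Sylow p G) (hP : Nat.card P = p) {n : ℕ}
    (hn : Nat.card (Sylow p G) = n * p + 1)
    (hD : ∀ u, u * p + 1 ∣ (p - 1) * (n * p + 1) → u = 0 ∨ u = n) : BRC (G ⧸ pPrimeCore p G) p := by
  have hp : p.Prime := Fact.out
  have hf := QuotientGroup.mk'_surjective (pPrimeCore p G)
  obtain ⟨x, K, h, -⟩ := exists_D1_sylow (P.mapSurjective hf)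
    (card_sylow_quot P hP (L.not_dvd_card_pPrimeCore hp) _)
  letI := Fintype.ofFinite K
  obtain ⟨m, hm⟩ := exists_card_sylow p (G ⧸ pPrimeCore p G)
  have h1 : m * p + 1 ∣ n * p + 1 := hm ▸ hn ▸ card_sylow_dvd_of_surjective hf
  refine h.brc (perfect_quot hG _) (fun N _ h2 => le_bot_iff.1
    (L.pPrimeCore_quotient_eq_bot p G ▸ L.le_pPrimeCore (hp.coprime_iff_not_dvd.2 h2).symm)) hm
    fun u hu => (hD u (hu.trans (Nat.mul_dvd_mul_left _ h1))).imp id fun e => ?_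
  have := le_of_dvd_form hp.one_lt hu
  have := Nat.le_of_mul_le_mul_right (Nat.le_of_add_le_add_right (Nat.le_of_dvd (by omega) h1)) hp.pos
  omega

theorem BRC.card [Finite G] (h : BRC G p) :
    2 * Nat.card G = p * (p ^ 2 - 1) ∨ Nat.card G = (p - 1) * ((p - 1) ^ 2 - 1) := by
  obtain ⟨h1, h2 | ⟨m, h2, h3⟩⟩ := h
  · obtain ⟨e⟩ := h2 (ZMod p) (ZMod.card p)
    have := H4.card_PSL_two (F := ZMod p)
    rw [ZMod.card, Nat.gcd_eq_left (((Fact.out : p.Prime).even_sub_one (by omega)).two_dvd)] at this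
    exact Or.inl (by rw [← this, Nat.card_congr e.toEquiv])
  · obtain ⟨F, _, _, hF⟩ := exists_field_two (m := m) (by rintro rfl; omega)
    obtain ⟨e⟩ := (h3 F hF).2
    exact Or.inr (by rw [Nat.card_congr e.toEquiv, H4.card_SL_two, hF, h2, Nat.add_sub_cancel])

omit [Fact p.Prime] in
theorem BRC.of_equiv {H : Type*} [Group H] (h : BRC G p) (e : G ≃* H) : BRC H p :=
  ⟨h.1, h.2.imp (fun h F _ _ hF => ⟨e.symm.trans (h F hF).some⟩) fun ⟨m, h1, h2⟩ =>
    ⟨m, h1, fun F _ _ hF => ⟨⟨e.symm.trans (h2 F hF).1.some⟩, ⟨e.symm.trans (h2 F hF).2.some⟩⟩⟩⟩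

theorem BRC.out (h : BRC G p) : (∃ (F : Type) (_ : Field F) (_ : Fintype F), Fintype.card F = p ∧
    3 < p ∧ Nonempty (G ≃* PSL(2, F))) ∨ (∃ (m : ℕ) (F : Type) (_ : Field F) (_ : Fintype F),
      Fintype.card F = 2 ^ m ∧ p = 2 ^ m + 1 ∧ 3 < p ∧ Nonempty (G ≃* PSL(2, F)) ∧
        Nonempty (G ≃* SL(2, F))) := by
  obtain ⟨h1, h2 | ⟨m, h2, h3⟩⟩ := h
  · exact Or.inl ⟨ZMod p, _, _, ZMod.card p, h1, h2 _ (ZMod.card p)⟩
  · obtain ⟨F, _, _, hF⟩ := exists_field_two (m := m) (by rintro rfl; omega)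
    exact Or.inr ⟨m, F, _, _, hF, h2, h1, h3 F hF⟩

theorem D1.one_lt_card_Eg [Finite G] (h : D1 p x K) (hG : commutator G = ⊤) :
    1 < Nat.card (Eg h) := by
  letI := Fintype.ofFinite G
  letI := Fintype.ofFinite K
  obtain ⟨X, Y, δ, ε, hB⟩ := h.exists_br
  obtain ⟨θ, hθ⟩ := hB.nonempty
  by_contra h1
  obtain ⟨χ, hχ⟩ := Finset.card_eq_one.1 (show X.card = 1 by
    have := card_Eg_pos h; rw [hB.cardX]; omega)
  have h2 := hB.deg_eq hθ
  have h3 := one_lt_degree' hG fun e => hB.one_not_mem (e ▸ hθ)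
  have h4 : oneI G = χ := Finset.mem_singleton.1 (hχ ▸ hB.one_mem)
  rw [hχ, Finset.sum_singleton, ← h4, hB.δ_one,
    charDegree_oneI] at h2
  rcases hB.eps with e | e <;> rw [e] at h2 <;> omega

theorem card_sylow_eq_of_lt_cube [Finite G] (hd : p ∣ Nat.card G) (hb : Nat.card G < p ^ 3)
    (P : Sylow p G) (hP : ¬ (P : Subgroup G).Normal) : Nat.card P = p := by
  have hp : p.Prime := Fact.out
  obtain ⟨k, hk⟩ := P.isPGroup'.exists_card_eq
  have h1 := (P : Subgroup G).card_mul_index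
  obtain ⟨n, hn⟩ := exists_card_sylow p G
  have h2 := Nat.le_of_dvd (Nat.pos_of_ne_zero Subgroup.index_ne_zero_of_finite) P.card_dvd_index
  have h3 : n ≠ 0 := by
    rintro rfl
    rw [P.card_eq_index_normalizer, zero_mul, zero_add, Subgroup.index_eq_one] at hn
    exact hP (Subgroup.normalizer_eq_top_iff.1 hn)
  have h4 := Nat.le_mul_of_pos_left p (Nat.pos_of_ne_zero h3)
  have h5 : p ^ k * p < p ^ 3 := by
    rw [hk] at h1
    exact lt_of_le_of_lt (Nat.mul_le_mul_left _ (by omega)) (h1 ▸ hb)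
  rw [← pow_succ, Nat.pow_lt_pow_iff_right hp.one_lt] at h5
  have h6 := P.dvd_card_of_dvd_card hd
  obtain rfl | rfl : k = 0 ∨ k = 1 := by omega
  · rw [hk] at h6; exact absurd h6 (by simpa using hp.ne_one)
  · rw [hk, pow_one]

theorem brc_of_lt_cube [Finite G] (hG : commutator G = ⊤) (hd : p ∣ Nat.card G)
    (hb : Nat.card G < p ^ 3) (P : Sylow p G) (hP : ¬ (P : Subgroup G).Normal) :
    BRC (G ⧸ pPrimeCore p G) p := by
  have h1 := card_sylow_eq_of_lt_cube hd hb P hP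
  obtain ⟨x, K, h, -⟩ := exists_D1_sylow P h1
  obtain ⟨n, hn⟩ := exists_card_sylow p G
  refine brc_quot hG P h1 hn fun u => form_bound h.prime ?_
  have h2 := h.one_lt_card_Eg hG
  have h3 : 0 < Nat.card K := Nat.card_pos
  rw [h.card_eq_mul.2, hn] at hb
  have h4 : p * 2 * (n * p + 1) * 1 < p ^ 3 := lt_of_le_of_lt (by gcongr <;> omega) hb
  by_contra h5
  have := Nat.mul_le_mul_left (p * p) (not_lt.1 h5)
  nlinarith

theorem exists_D1_one [Finite G] (hx : orderOf x = p)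
    (hC : Subgroup.centralizer ({x} : Set G) = Subgroup.zpowers x) :
    ∃ K, D1 p x K ∧ Nat.card K = 1 := by
  have hp : p.Prime := Fact.out
  have hP : IsPGroup p (Subgroup.zpowers x) :=
    IsPGroup.of_card (n := 1) (by rw [Nat.card_zpowers, hx, pow_one])
  obtain ⟨Q, hQ⟩ := hP.exists_le_sylow
  have h1 : (Q : Subgroup G) = Subgroup.zpowers x := by
    haveI : Nontrivial Q := ⟨⟨⟨x, hQ (Subgroup.mem_zpowers x)⟩, 1, fun e => hp.one_lt.ne' (by
      rw [← hx, show x = 1 from congrArg Subtype.val e, orderOf_one])⟩⟩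
    haveI := Q.isPGroup'.center_nontrivial
    obtain ⟨⟨⟨z, hz⟩, hz'⟩, hz1⟩ := exists_ne (1 : Subgroup.center (Q : Subgroup G))
    have h2 : ∀ y ∈ (Q : Subgroup G), y * z = z * y := fun y hy =>
      congrArg Subtype.val (Subgroup.mem_center_iff.1 hz' ⟨y, hy⟩)
    refine le_antisymm (fun y hy => ?_) hQ
    exact (SC.of_zpowers hp hx hC z (hC.le (Subgroup.mem_centralizer_singleton_iff.2
      (h2 x (hQ (Subgroup.mem_zpowers x))).symm)) fun e => hz1 (Subtype.ext (Subtype.ext e))).le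
      (Subgroup.mem_centralizer_singleton_iff.2 (h2 y hy))
  obtain ⟨K, h⟩ := exists_D1 hp hx (h1 ▸ Q.not_dvd_index)
  have h2 := h.card_cent
  rw [hC, Nat.card_zpowers, hx] at h2
  exact ⟨K, h, by nlinarith [hp.pos]⟩

theorem D1.card_normal [Finite G] (h : D1 p x K) (hK : Nat.card K = 1) {N : Subgroup G} [hN : N.Normal]
    (hp : ¬ p ∣ Nat.card N) : Nat.card N ∣ Nat.card (Sylow p G) ∧ Nat.card N % p = 1 := by
  have h0 : ∀ (Q : Sylow p G), ∀ g ∈ N, g ∈ (Q : Subgroup G) → g = 1 := fun Q g h1 h2 => by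
    by_contra h3
    have := Subgroup.card_dvd_of_le (Subgroup.zpowers_le.2 h1)
    rw [eq_zpowers_of_card_prime h.prime (h.card_sylow Q) h2 h3, h.card_sylow] at this
    exact hp this
  refine ⟨card_dvd_card_of_semiregular fun Q g hg => Subtype.ext (h0 Q g g.2 ?_), ?_⟩
  · obtain ⟨z, h1, h2⟩ := exists_zpowers_of_card_prime h.prime (h.card_sylow Q)
    have h3 : z ∈ (Q : Subgroup G) := h2 ▸ Subgroup.mem_zpowers z
    have h4 := h0 Q (z⁻¹ * g * z * (g : G)⁻¹) (N.mul_mem (by simpa using hN.conj_mem _ g.2 z⁻¹)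
      (N.inv_mem g.2)) (by
        rw [mul_assoc, mul_assoc, ← mul_assoc (g : G)]
        exact mul_mem (inv_mem h3) ((Subgroup.mem_normalizer_iff.1
          (Sylow.smul_eq_iff_mem_normalizer.1 hg) z).1 h3))
    refine (h.sc hK Q z h3 fun e => h.prime.one_lt.ne' (by rw [← h1, e, orderOf_one])).le
      (Subgroup.mem_centralizer_singleton_iff.2 ?_)
    rwa [mul_inv_eq_one, mul_assoc, inv_mul_eq_iff_eq_mul] at h4
  · have h1 := card_fixedBy_modEq (α := N) (g := MulAut.conjNormal (H := N) x) (n := 1) h.prime (by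
      rw [pow_one, ← map_pow, h.pow_eq_one_iff.2 dvd_rfl, map_one])
    rw [show fixedBy N (MulAut.conjNormal (H := N) x) = {1} from Set.eq_singleton_iff_unique_mem.2
      ⟨by simp, fun y hy => Subtype.ext (h0 h.syl y y.2 ((h.cent_eq hK).le
        (Subgroup.mem_centralizer_singleton_iff.2 (mul_inv_eq_iff_eq_mul.1
          (show x * y * x⁻¹ = y from congrArg Subtype.val hy)).symm)))⟩, Nat.card_coe_set_eq, Set.ncard_singleton] at h1
    rw [h1, Nat.mod_eq_of_lt h.prime.one_lt]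

end Cfsg.Agent.H7
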