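import Mathlib
import Cfsg.Agent.H7.Recog
import Cfsg.Agent.H2.Syl
import Cfsg.Agent.L.Frob2

/-! Brauer-Suzuki-Wall theorem I: group theoretic preliminaries. -/

namespace Cfsg.Agent.H7
open Subgroup H2

variable {G : Type*} [Group G]

/-- `B` is inverted by the involution `u ∉ B` and is TI with normaliser `B⟨u⟩`. -/
structure DT (B : Subgroup G) (u : G) : Prop where
  ord : orderOf u = 2
  nm : u ∉ B
  inv : ∀ x ∈ B, u * x * u⁻¹ = x⁻¹
  ti : ∀ x ∈ B, x ≠ 1 → ∀ g, g * x * g⁻¹ ∈ B → g ∈ B ∨ g * u ∈ B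

theorem mul_self_of_ord {u : G} (h : orderOf u = 2) : u * u = 1 := by
  rw [← sq, ← h, pow_orderOf_eq_one]

theorem ne_one_of_ord {u : G} (h : orderOf u = 2) : u ≠ 1 := by
  rintro rfl; simp at h

theorem ord_two {u : G} (h1 : u ≠ 1) (h : u * u = 1) : orderOf u = 2 :=
  orderOf_eq_prime (by rw [sq, h]) h1

theorem inv_of_ord {u : G} (h : orderOf u = 2) : u⁻¹ = u :=
  inv_eq_of_mul_eq_one_left (mul_self_of_ord h)

theorem ord_conj (g x : G) : orderOf (g * x * g⁻¹) = orderOf x :=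
  (MulAut.conj g).orderOf_eq x

theorem conj_ne_one {g x : G} (h : x ≠ 1) : g * x * g⁻¹ ≠ 1 := fun e => h (by simpa using e)

namespace DT
variable {B X : Subgroup G} {u g : G}

theorem comm (h : DT B u) : ∀ x ∈ B, ∀ y ∈ B, x * y = y * x := comm_of_inverted h.inv

theorem cj (h : DT B u) (g : G) : DT (cj g B) (g * u * g⁻¹) := by
  refine ⟨(ord_conj g u).trans h.ord, fun e => h.nm (conj_mem_cj_iff.1 e), fun x hx => ?_,
    fun x hx h1 y hy => ?_⟩
  · have := h.inv _ (mem_cj.1 hx)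
    calc g * u * g⁻¹ * x * (g * u * g⁻¹)⁻¹ = g * (u * (g⁻¹ * x * g) * u⁻¹) * g⁻¹ := by group
      _ = x⁻¹ := by rw [this]; group
  · have := h.ti _ (mem_cj.1 hx) (fun e => h1 (by simpa [mul_eq_one_iff_eq_inv'] using e))
      (g⁻¹ * y * g) (by convert mem_cj.1 hy using 1; group)
    rw [mem_cj, mem_cj]
    convert this using 2; group

theorem sq (h : DT B u) (hg : g * u ∈ B) : g * g = 1 := by
  have h1 := h.inv _ hg
  rw [inv_of_ord h.ord, mul_inv_rev, inv_of_ord h.ord, mul_assoc, mul_assoc,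
    mul_self_of_ord h.ord, mul_one, mul_left_cancel_iff] at h1
  exact mul_eq_one_iff_eq_inv.2 h1

theorem nm_of (h : DT B u) (hg : g * u ∈ B) : g ∉ B := fun e =>
  h.nm (by simpa using B.mul_mem (B.inv_mem e) hg)

theorem ord_of (h : DT B u) (hg : g * u ∈ B) : orderOf g = 2 :=
  ord_two (fun e => h.nm_of hg (e ▸ B.one_mem)) (h.sq hg)

theorem inv_of (h : DT B u) (hg : g * u ∈ B) {x : G} (hx : x ∈ B) : g * x * g⁻¹ = x⁻¹ := by
  have h1 := h.comm _ hg _ (B.inv_mem hx)
  calc g * x * g⁻¹ = (g * u) * (u⁻¹ * x * u) * (g * u)⁻¹ := by group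
    _ = (g * u) * x⁻¹ * (g * u)⁻¹ := by rw [← h.inv x hx, inv_of_ord h.ord]
    _ = _ := by rw [h1]; group

theorem conj_mem (h : DT B u) (hg : g ∈ B ∨ g * u ∈ B) {x : G} (hx : x ∈ B) :
    g * x * g⁻¹ = x ∨ g * x * g⁻¹ = x⁻¹ :=
  hg.imp (fun hg => by rw [h.comm g hg x hx]; group) fun hg => h.inv_of hg hx

theorem mem_normalizer (h : DT B u) (hX : X ≤ B) (hg : g ∈ B ∨ g * u ∈ B) :
    g ∈ normalizer (X : Set G) := by
  refine mem_normalizer_iff.2 fun x => ⟨fun hx => ?_, fun hx => ?_⟩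
  · rcases h.conj_mem hg (hX hx) with e | e <;> rw [e]
    exacts [hx, X.inv_mem hx]
  · have hg' : g⁻¹ ∈ B ∨ g⁻¹ * u ∈ B := hg.imp B.inv_mem fun e => by rwa [inv_of_ord (h.ord_of e)]
    rcases h.conj_mem hg' (hX hx) with e | e
    · rwa [← e, show g⁻¹ * (g * x * g⁻¹) * g⁻¹⁻¹ = x by group] at hx
    · have := X.inv_mem hx
      rwa [← e, show g⁻¹ * (g * x * g⁻¹) * g⁻¹⁻¹ = x by group] at this

theorem mem_sup (h : DT B u) : g ∈ B ⊔ zpowers u ↔ g ∈ B ∨ g * u ∈ B := by
  constructor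
  · intro hg
    let S : Subgroup G :=
      { carrier := {g | g ∈ B ∨ g * u ∈ B}
        one_mem' := Or.inl B.one_mem
        inv_mem' := fun {g} hg => hg.imp B.inv_mem fun e => by rwa [inv_of_ord (h.ord_of e)]
        mul_mem' := fun {a b} ha hb => by
          rcases hb with hb | hb
          · refine ha.imp (fun ha => B.mul_mem ha hb) fun ha => ?_
            have := B.mul_mem ha (B.inv_mem hb)
            rwa [← h.inv b hb, inv_of_ord h.ord, ← mul_assoc, ← mul_assoc, mul_assoc a,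
              mul_self_of_ord h.ord, mul_one] at this
          · rcases ha with ha | ha
            · exact Or.inr (mul_assoc a b u ▸ B.mul_mem ha hb)
            · have := B.mul_mem ha (B.inv_mem hb)
              rw [mul_inv_rev, inv_of_ord (h.ord_of hb), mul_assoc, mul_inv_cancel_left] at this
              exact Or.inl this }
    exact (sup_le (fun x hx => Or.inl hx) (zpowers_le_of_mem (Or.inr (by
      rw [mul_self_of_ord h.ord]; exact B.one_mem))) : B ⊔ zpowers u ≤ S) hg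
  · rintro (hg | hg)
    · exact mem_sup_left hg
    · have := mul_mem_sup hg (mem_zpowers u)
      rwa [mul_assoc, mul_self_of_ord h.ord, mul_one] at this

theorem normalizer_eq (h : DT B u) (hX : X ≤ B) (h1 : X ≠ ⊥) :
    normalizer (X : Set G) = B ⊔ zpowers u := by
  obtain ⟨⟨x, hx⟩, hx1⟩ := ne_bot_iff_exists_ne_one.1 h1
  ext g
  rw [h.mem_sup]
  exact ⟨fun hg => h.ti x (hX hx) (fun e => hx1 (Subtype.ext e)) g
    (hX ((mem_normalizer_iff.1 hg x).1 hx)), h.mem_normalizer hX⟩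

theorem card_sup [Finite G] (h : DT B u) : Nat.card ↥(B ⊔ zpowers u) = 2 * Nat.card B := by
  rw [sup_comm, H1.card_sup_of_disjoint (zpowers_le_of_mem (h.mem_normalizer le_rfl (Or.inr (by
    rw [mul_self_of_ord h.ord]; exact B.one_mem)))), Nat.card_zpowers, h.ord]
  rw [eq_bot_iff]
  rintro x ⟨hx, hB⟩
  by_contra h1
  have := eq_zpowers_of_card_prime Nat.prime_two (by rw [Nat.card_zpowers, h.ord]) hx h1
  exact h.nm ((zpowers_le_of_mem hB) (this ▸ mem_zpowers u))

theorem mem_of_odd (h : DT B u) {x : G} (hx : x ∈ B) (h1 : x ≠ 1) (hg : g * x * g⁻¹ ∈ B)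
    (ho : Odd (orderOf g)) : g ∈ B :=
  (h.ti x hx h1 g hg).resolve_right fun e => by rw [h.ord_of e] at ho; exact absurd ho (by decide)

theorem cent_of_odd (h : DT B u) (hX : X ≤ B) (hg : g ∈ normalizer (X : Set G))
    (ho : Odd (orderOf g)) : g ∈ centralizer (X : Set G) := fun x hx => by
  by_cases h1 : x = 1
  · simp [h1]
  exact h.comm x (hX hx) g (h.mem_of_odd (hX hx) h1 (hX ((mem_normalizer_iff.1 hg x).1 hx)) ho)

end DT

theorem SC.comm {A : Subgroup G} (h : SC A) {x y : G} (hx : x ∈ A) (hy : y ∈ A) : x * y = y * x := by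
  by_cases h1 : y = 1
  · simp [h1]
  exact mem_centralizer_singleton_iff.1 ((h y hy h1).symm ▸ hx)

theorem SC.mem {A : Subgroup G} (h : SC A) {x y : G} (hx : x ∈ A) (h1 : x ≠ 1)
    (e : y * x = x * y) : y ∈ A := h x hx h1 ▸ mem_centralizer_singleton_iff.2 e

theorem SC.mem_normalizer {A : Subgroup G} (h : SC A) {x g : G} (hx : x ∈ A) (h1 : x ≠ 1)
    (hg : g * x * g⁻¹ ∈ A) : g ∈ normalizer (A : Set G) := by
  rw [mem_normalizer_iff_cj]
  nth_rw 1 [← h x hx h1]
  rw [cj_centralizer_singleton, h _ hg (conj_ne_one h1)]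

theorem SC.dvd_index [Finite G] {A : Subgroup G} (h : SC A) :
    Nat.card A ∣ (normalizer (A : Set G)).index - 1 := by
  refine card_dvd_card_sub_one (G := A) (Ω := G ⧸ normalizer (A : Set G)) ((1 : G) : G ⧸ _)
    (fun g => ?_) fun x hx a e => ?_
  · exact (mem_fixedBy_quotient_iff _ (g : G) 1).2 (by simpa using le_normalizer g.2)
  · induction x using QuotientGroup.induction_on with | H g =>
    have hy := (mem_fixedBy_quotient_iff _ (a : G) g).1 e
    have hf : L.FPF A (zpowers (g⁻¹ * a * g)) := L.FPF.of_forall fun z hz hz1 b hb hc => by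
      by_contra hb1
      obtain ⟨i, rfl⟩ := hz
      have h2 := h.mem hb hb1 hc
      have e2 : (g⁻¹ * a * g) ^ i = g⁻¹ * (a : G) ^ i * g⁻¹⁻¹ := by rw [← conj_zpow, inv_inv]
      simp only [e2] at h2 hz1
      have := h.mem_normalizer (A.zpow_mem a.2 i) (fun e => hz1 (by simp [e])) h2
      exact hx (QuotientGroup.eq.2 (by simpa using this))
    have hc := hf.coprime (zpowers_le_of_mem hy)
    rw [Nat.card_zpowers, show g⁻¹ * a * g = g⁻¹ * a * g⁻¹⁻¹ by rw [inv_inv], ord_conj,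
      orderOf_coe] at hc
    exact orderOf_eq_one_iff.1 (hc.eq_one_of_dvd (orderOf_dvd_natCard a))

theorem exists_cj_le_of_index [Finite G] {r : ℕ} [Fact r.Prime] {B R : Subgroup G}
    (hB : ¬ r ∣ B.index) (hR : IsPGroup r R) : ∃ g, R ≤ cj g B := by
  obtain ⟨S⟩ : Nonempty (Sylow r B) := inferInstance
  have h1 : ¬ r ∣ ((S : Subgroup B).map B.subtype).index := by
    rw [index_map_subtype, (Fact.out : r.Prime).dvd_mul, not_or]
    exact ⟨S.not_dvd_index, hB⟩
  obtain ⟨g, hg⟩ := exists_cj_le_sylow ((S.isPGroup'.map B.subtype).toSylow h1) hR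
  exact ⟨g⁻¹, cj_le_iff.1 (hg.trans (map_subtype_le _))⟩

theorem sylow_normal_of_burnside {N : Type*} [Group N] [Finite N] {p : ℕ} [Fact p.Prime]
    (h : ∀ r : ℕ, r.Prime → r ≠ p → ∀ R : Sylow r N,
      normalizer ((R : Subgroup N) : Set N) ≤ centralizer ((R : Subgroup N) : Set N))
    (P : Sylow p N) : (P : Subgroup N).Normal := by
  have hM : IsPGroup p (normalClosure ((P : Subgroup N) : Set N)) := by
    refine IsPGroup.of_card (Nat.eq_prime_pow_of_unique_prime_dvd Nat.card_pos.ne' fun {r} hr hd => ?_)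
    by_contra hne
    haveI := Fact.mk hr
    obtain ⟨R⟩ : Nonempty (Sylow r N) := inferInstance
    refine MonoidHom.not_dvd_card_ker_transferSylow R (h r hr hne R) (hd.trans (card_dvd_of_le
      (normalClosure_le_normal fun x hx => ?_)))
    obtain ⟨a, ha⟩ := orderOf_eq_pow_of_mem P.isPGroup' hx
    obtain ⟨b, hb⟩ := IsPGroup.iff_orderOf.1 R.isPGroup' (MonoidHom.transferSylow R (h r hr hne R) x)
    refine orderOf_eq_one_iff.1 (Nat.Coprime.eq_one_of_dvd ?_ (orderOf_map_dvd _ x))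
    rw [ha, hb]
    exact Nat.coprime_pow_primes _ _ hr Fact.out hne
  rw [← P.is_maximal' hM le_normalClosure]
  infer_instance

theorem sylow_eq_of_closed [Finite G] {p : ℕ} [Fact p.Prime]
    (h : ∀ T : Subgroup G, T ≠ ⊥ → IsPGroup p T → ∀ P : Sylow p (normalizer (T : Set G)),
      (P : Subgroup (normalizer (T : Set G))).Normal)
    (T : Subgroup G) (hT : T ≠ ⊥) (P Q : Sylow p G) (hP : T ≤ P) (hQ : T ≤ Q) : P = Q := by
  induction T using WellFoundedGT.induction generalizing P Q with | _ T ih =>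
  rcases hP.eq_or_lt with e | hP'
  · exact Sylow.ext (P.is_maximal' Q.isPGroup' (e ▸ hQ)).symm
  rcases hQ.eq_or_lt with e | hQ'
  · exact Sylow.ext (Q.is_maximal' P.isPGroup' (e ▸ hP))
  obtain ⟨S⟩ : Nonempty (Sylow p (normalizer (T : Set G))) := inferInstance
  haveI := h T hT (P.isPGroup'.to_le hP) S
  obtain ⟨R, hR⟩ := (S.isPGroup'.map (normalizer (T : Set G)).subtype).exists_le_sylow
  have key : ∀ P : Sylow p G, T < P → P = R := fun P hP => by
    have h1 := lt_inf_normalizer P.isPGroup' hP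
    refine ih _ h1 (ne_bot_of_gt h1) P R inf_le_left (le_trans (fun x hx => ?_) hR)
    obtain ⟨S', hS'⟩ := (P.isPGroup'.comap_subtype (K := normalizer (T : Set G))).exists_le_sylow
    haveI := Sylow.unique_of_normal S this
    rw [Subsingleton.elim S' S] at hS'
    exact ⟨⟨x, hx.2⟩, hS' hx.1, rfl⟩
  rw [key P hP', key Q hQ']

/-- conjugate into `K` -/
def KT (K : Subgroup G) (x : G) : Prop := ∃ g, g * x * g⁻¹ ∈ K

theorem KT.of_mem {K : Subgroup G} {x : G} (h : x ∈ K) : KT K x := ⟨1, by simpa using h⟩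

theorem KT.conj_iff {K : Subgroup G} {x : G} (g : G) : KT K (g * x * g⁻¹) ↔ KT K x :=
  ⟨fun ⟨a, ha⟩ => ⟨a * g, by convert ha using 1; group⟩,
    fun ⟨a, ha⟩ => ⟨a * g⁻¹, by convert ha using 1; group⟩⟩

theorem KT.orderOf_dvd {K : Subgroup G} {x : G} (h : KT K x) : orderOf x ∣ Nat.card K := by
  obtain ⟨g, hg⟩ := h
  rw [← ord_conj g]; exact orderOf_dvd_natCard K hg

theorem KT.of_index [Finite G] {r : ℕ} (hr : r.Prime) {K : Subgroup G} (hK : ¬ r ∣ K.index) {x : G}
    (hx : orderOf x = r) : KT K x := by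
  haveI := Fact.mk hr
  obtain ⟨g, hg⟩ := exists_cj_le_of_index hK (isPGroup_zpowers_of_orderOf (k := 1) (by rw [hx, pow_one]))
  exact ⟨g⁻¹, by simpa using mem_cj.1 (hg (mem_zpowers x))⟩

/-- the involutions inverting `x` -/
def InvS (x : G) : Set G := {u | orderOf u = 2 ∧ u * x * u⁻¹ = x⁻¹ ∧ u ≠ x}

/-- the hypotheses of the Brauer-Suzuki-Wall theorem -/
structure BSW (t : G) (K : Subgroup G) (s : G) : Prop where
  dt : DT K s
  ht : orderOf t = 2
  tK : t ∈ K
  uniq : ∀ x ∈ K, x * x = 1 → x = 1 ∨ x = t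
  conj : ∀ x, orderOf x = 2 → IsConj t x

namespace BSW
variable {t s x y u v : G} {K : Subgroup G}

theorem cent (h : BSW t K s) : centralizer ({t} : Set G) = K ⊔ zpowers s := by
  ext g
  rw [h.dt.mem_sup, mem_centralizer_singleton_iff]
  refine ⟨fun e => h.dt.ti t h.tK (ne_one_of_ord h.ht) g (by rw [e]; simpa using h.tK), fun e => ?_⟩
  rcases h.dt.conj_mem e h.tK with e | e
  · exact mul_inv_eq_iff_eq_mul.1 e
  · exact mul_inv_eq_iff_eq_mul.1 (e.trans (inv_of_ord h.ht))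

theorem card_cent [Finite G] (h : BSW t K s) :
    Nat.card (centralizer ({t} : Set G)) = 2 * Nat.card K := by rw [h.cent, h.dt.card_sup]

theorem card_G [Finite G] (h : BSW t K s) :
    Nat.card G = 2 * Nat.card K * (centralizer ({t} : Set G)).index := by
  rw [← h.card_cent, card_mul_index]

theorem index_K [Finite G] (h : BSW t K s) : K.index = 2 * (centralizer ({t} : Set G)).index := by
  have := h.card_G
  rw [← K.card_mul_index, mul_comm 2, mul_assoc] at this
  exact Nat.eq_of_mul_eq_mul_left Nat.card_pos this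

theorem even_K (h : BSW t K s) : Even (Nat.card K) :=
  even_iff_two_dvd.2 (h.ht ▸ orderOf_dvd_natCard K h.tK)

theorem KT_inv (h : BSW t K s) (hv : orderOf v = 2) : KT K v := by
  obtain ⟨g, rfl⟩ := isConj_iff.1 (h.conj v hv)
  exact (KT.conj_iff g).2 (KT.of_mem h.tK)

theorem KT_of_comm (h : BSW t K s) (hy : KT K y) (h1 : y ≠ 1) (e : x * y = y * x) : KT K x := by
  obtain ⟨g, hg⟩ := hy
  rw [← KT.conj_iff g]
  rcases h.dt.ti _ hg (conj_ne_one h1) (g * x * g⁻¹) (by
    convert hg using 1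
    calc g * x * g⁻¹ * (g * y * g⁻¹) * (g * x * g⁻¹)⁻¹ = g * (x * y) * x⁻¹ * g⁻¹ := by group
      _ = _ := by rw [e]; group) with a | a
  · exact KT.of_mem a
  · exact h.KT_inv (h.dt.ord_of a)

theorem eq_one (h : BSW t K s) (hx : ¬ KT K x) (e : x * y = y * x) (hv : orderOf v = 2)
    (e' : y * v = v * y) : y = 1 := by
  by_contra h1
  exact hx (h.KT_of_comm (h.KT_of_comm (h.KT_inv hv) (ne_one_of_ord hv) e') h1 e)

theorem odd_cent [Finite G] (h : BSW t K s) (hx : ¬ KT K x) :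
    Odd (Nat.card (centralizer ({x} : Set G))) := by
  rw [← Nat.not_even_iff_odd]
  intro he
  obtain ⟨⟨v, hv⟩, ho⟩ := exists_prime_orderOf_dvd_card' 2 he.two_dvd
  rw [← orderOf_coe] at ho
  exact ne_one_of_ord ho (h.eq_one hx (mem_centralizer_singleton_iff.1 hv).symm ho rfl)

theorem mem_norm_cent (e : u * x * u⁻¹ = x⁻¹) : u ∈ normalizer (centralizer ({x} : Set G) : Set G) := by
  rw [mem_normalizer_iff_cj, cj_centralizer_singleton, e]
  ext y
  simp only [mem_centralizer_singleton_iff]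
  exact ⟨fun h => (Commute.inv_right_iff.1 (show Commute y x⁻¹ from h)).eq,
    fun h => (show Commute y x from h).inv_right.eq⟩

theorem inverts [Finite G] (h : BSW t K s) (hx : ¬ KT K x) (hu : orderOf u = 2)
    (hn : u ∈ normalizer (centralizer ({x} : Set G) : Set G)) :
    ∀ y ∈ centralizer ({x} : Set G), u * y * u⁻¹ = y⁻¹ :=
  (L.inverts_of_involution (mul_self_of_ord hu) hn (eq_bot_iff.2 fun _ hy => mem_bot.2
    (h.eq_one hx (mem_centralizer_singleton_iff.1 hy.1).symm hu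
      (mem_centralizer_singleton_iff.1 hy.2)))).1

theorem sc [Finite G] (h : BSW t K s) (hx : ¬ KT K x) (hu : orderOf u = 2)
    (e : u * x * u⁻¹ = x⁻¹) : SC (centralizer ({x} : Set G)) := by
  intro y hy h1
  have h2 := h.inverts hx hu (mem_norm_cent e)
  have hy' := mem_centralizer_singleton_iff.1 hy
  have h3 := h.inverts (fun a => hx (h.KT_of_comm a h1 hy'.symm)) hu (mem_norm_cent (h2 y hy))
  ext z
  exact ⟨fun hz => mem_centralizer_singleton_iff.2 (comm_of_inverted h3 z hz x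
    (mem_centralizer_singleton_iff.2 hy'.symm)),
    fun hz => mem_centralizer_singleton_iff.2 (comm_of_inverted h2 z hz y hy)⟩

theorem ncard_InvS [Finite G] (h : BSW t K s) (hx : ¬ KT K x) (hu : orderOf u = 2)
    (e : u * x * u⁻¹ = x⁻¹) : (InvS x).ncard = Nat.card (centralizer ({x} : Set G)) := by
  have h2 := h.inverts hx hu (mem_norm_cent e)
  have : InvS x = (· * u) '' (centralizer ({x} : Set G) : Set G) := by
    ext v
    constructor
    · rintro ⟨h1, h3, -⟩
      refine ⟨v * u⁻¹, mem_centralizer_singleton_iff.2 ?_, by simp⟩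
      have : u⁻¹ * x * u = x⁻¹ := by rw [← e, inv_of_ord hu]
      calc v * u⁻¹ * x = v * (u⁻¹ * x * u) * v⁻¹ * (v * u⁻¹) := by group
        _ = (v * x * v⁻¹)⁻¹ * (v * u⁻¹) := by rw [this]; group
        _ = _ := by rw [h3, inv_inv]
    · rintro ⟨a, ha, rfl⟩
      have ha' := mem_centralizer_singleton_iff.1 ha
      have o : orderOf (a * u) = 2 := ord_two (fun e' => ne_one_of_ord hu (h.eq_one hx (by
          rw [eq_inv_of_mul_eq_one_right e']
          exact (show Commute a x from ha').inv_left.eq.symm) hu rfl)) (by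
        have := h2 a ha
        rw [inv_of_ord hu] at this
        rw [mul_assoc, ← mul_assoc u, this, mul_inv_cancel])
      refine ⟨o, ?_, fun e' => hx (e' ▸ h.KT_inv o)⟩
      calc a * u * x * (a * u)⁻¹ = a * (u * x * u⁻¹) * a⁻¹ := by group
        _ = _ := by rw [e, (show Commute a x from ha').inv_right.eq]; group
  rw [this, Set.ncard_image_of_injective _ (mul_left_injective u)]
  rfl

theorem ncard_InvS_K [Finite G] (h : BSW t K s) (hx : x ∈ K) (h1 : x ≠ 1) :
    (InvS x).ncard = Nat.card K := by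
  have : InvS x = (· * s) '' (K : Set G) := by
    ext v
    constructor
    · rintro ⟨h2, h3, h4⟩
      refine ⟨v * s, (h.dt.ti x hx h1 v (h3 ▸ K.inv_mem hx)).resolve_left fun hv => h4 ?_, by
        simp [mul_assoc, mul_self_of_ord h.dt.ord]⟩
      rw [h.dt.comm v hv x hx, mul_inv_cancel_right] at h3
      rw [(h.uniq v hv (mul_self_of_ord h2)).resolve_left (ne_one_of_ord h2),
        (h.uniq x hx (mul_eq_one_iff_eq_inv.2 h3)).resolve_left h1]
    · rintro ⟨a, ha, rfl⟩
      have : a * s * s ∈ K := by rwa [mul_assoc, mul_self_of_ord h.dt.ord, mul_one]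
      exact ⟨h.dt.ord_of this, h.dt.inv_of this hx, fun e => h.dt.nm_of this ((show a * s = x from e) ▸ hx)⟩
  rw [this, Set.ncard_image_of_injective _ (mul_left_injective s)]
  rfl

theorem card_pairs (h : BSW t K s) (x : G) :
    Nat.card {p : G × G // IsConj t p.1 ∧ IsConj t p.2 ∧ p.1 * p.2 = x} = (InvS x).ncard := by
  have o : ∀ {a}, IsConj t a → orderOf a = 2 := fun ha => by
    obtain ⟨g, rfl⟩ := isConj_iff.1 ha; exact (ord_conj g t).trans h.ht
  refine Nat.card_congr ⟨fun p => ⟨p.1.1, o p.2.1, ?_, fun e => ?_⟩,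
    fun u => ⟨(u, u * x), h.conj _ u.2.1, h.conj _ (ord_two (fun e => u.2.2.2 ?_) ?_), ?_⟩,
    fun p => Subtype.ext (Prod.ext rfl ?_), fun u => rfl⟩
  · obtain ⟨⟨a, b⟩, ha, hb, rfl⟩ := p
    simp only
    rw [← mul_assoc, mul_self_of_ord (o ha), one_mul, mul_inv_rev, inv_of_ord (o hb)]
  · exact ne_one_of_ord (o p.2.2.1) (by simpa using p.2.2.2.trans e.symm)
  · rw [← inv_of_ord u.2.1]; exact (eq_inv_of_mul_eq_one_right e).symm
  · have := u.2.2.1
    rw [inv_of_ord u.2.1] at this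
    rw [← mul_assoc, this, inv_mul_cancel]
  · simp [← mul_assoc, mul_self_of_ord u.2.1]
  · obtain ⟨⟨a, b⟩, ha, hb, rfl⟩ := p
    simp [← mul_assoc, mul_self_of_ord (o ha)]

/-- the normaliser of the centraliser of a strongly real element of odd type -/
theorem norm_decomp [Finite G] (h : BSW t K s) (hx : ¬ KT K x) (e : t * x * t⁻¹ = x⁻¹) {g : G}
    (hg : g ∈ normalizer (centralizer ({x} : Set G) : Set G)) :
    ∃ a ∈ centralizer ({x} : Set G), a⁻¹ * g ∈ K := by
  have hx1 : x ≠ 1 := fun e => hx (e ▸ KT.of_mem K.one_mem)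
  have hxx : x ∈ centralizer ({x} : Set G) := mem_centralizer_singleton_iff.2 rfl
  have ht := mem_norm_cent e
  have key : ∀ v, orderOf v = 2 → v ∈ normalizer (centralizer ({x} : Set G) : Set G) →
      v * t ∈ centralizer ({x} : Set G) := fun v hv hn => by
    have := h.inverts hx hv hn _ (inv_mem hxx)
    rw [mem_centralizer_singleton_iff, ← mul_inv_eq_iff_eq_mul]
    calc v * t * x * (v * t)⁻¹ = v * (t * x * t⁻¹) * v⁻¹ := by group
      _ = x := by rw [e, this, inv_inv]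
  have h1 := key _ ((ord_conj g t).trans h.ht) (mul_mem (mul_mem hg ht) (inv_mem hg))
  obtain ⟨⟨a, ha⟩, ea⟩ := ((Odd.coprime_two_right (h.odd_cent hx)).pow_left_bijective).2 ⟨_, h1⟩
  have ea' : a * a = g * t * g⁻¹ * t := by rw [← sq]; exact congrArg Subtype.val ea
  have h2 := h.inverts hx h.ht ht a ha
  have h3 : a⁻¹ * g ∈ centralizer ({t} : Set G) := by
    rw [mem_centralizer_singleton_iff]
    have h4 : g * t * g⁻¹ = a * a * t⁻¹ := by rw [ea']; group
    calc a⁻¹ * g * t = a⁻¹ * (g * t * g⁻¹) * g := by group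
      _ = t⁻¹ * (t * a * t⁻¹) * g := by rw [h4]; group
      _ = _ := by rw [h2, inv_of_ord h.ht]; group
  rw [h.cent, h.dt.mem_sup] at h3
  refine ⟨a, ha, h3.elim id fun h4 => ?_⟩
  have h5 := key _ (h.dt.ord_of h4) (mul_mem (inv_mem (le_normalizer ha)) hg)
  have h6 : a⁻¹ * g * t * s ∈ K := by
    have := K.mul_mem h4 (K.inv_mem h.tK)
    rwa [← h.dt.inv t h.tK, inv_of_ord h.dt.ord, ← mul_assoc, ← mul_assoc, mul_assoc _ s s,
      mul_self_of_ord h.dt.ord, mul_one] at this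
  have h7 := h.dt.ord_of h6
  exact absurd (h.eq_one hx (mem_centralizer_singleton_iff.1 h5).symm h7 rfl) (ne_one_of_ord h7)

theorem norm_eq [Finite G] (h : BSW t K s) (hx : ¬ KT K x) (e : t * x * t⁻¹ = x⁻¹) :
    normalizer (centralizer ({x} : Set G) : Set G) = centralizer ({x} : Set G) ⊔
      normalizer (centralizer ({x} : Set G) : Set G) ⊓ K := by
  refine le_antisymm (fun g hg => ?_) (sup_le le_normalizer inf_le_left)
  obtain ⟨a, ha, h1⟩ := h.norm_decomp hx e hg
  have := mul_mem_sup ha (show a⁻¹ * g ∈ normalizer (centralizer ({x} : Set G) : Set G) ⊓ K from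
    mem_inf.2 ⟨mul_mem (inv_mem (le_normalizer ha)) hg, h1⟩)
  rwa [mul_inv_cancel_left] at this

theorem cent_inf (h : BSW t K s) (hx : ¬ KT K x) : centralizer ({x} : Set G) ⊓ K = ⊥ :=
  eq_bot_iff.2 fun y hy => by
    by_contra h1
    exact hx (h.KT_of_comm (KT.of_mem hy.2) h1 (mem_centralizer_singleton_iff.1 hy.1).symm)

theorem card_norm [Finite G] (h : BSW t K s) (hx : ¬ KT K x) (e : t * x * t⁻¹ = x⁻¹) :
    Nat.card (normalizer (centralizer ({x} : Set G) : Set G)) = Nat.card (centralizer ({x} : Set G)) *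
      Nat.card ↥(normalizer (centralizer ({x} : Set G) : Set G) ⊓ K) := by
  conv_lhs => rw [h.norm_eq hx e]
  rw [sup_comm, H1.card_sup_of_disjoint inf_le_left (eq_bot_iff.2 fun y hy =>
    (h.cent_inf hx).le ⟨hy.2, hy.1.2⟩), mul_comm]

theorem exists_conj_inv (h : BSW t K s) (hx : (InvS x).Nonempty) :
    ∃ g, t * (g * x * g⁻¹) * t⁻¹ = (g * x * g⁻¹)⁻¹ := by
  obtain ⟨u, hu, e, -⟩ := hx
  obtain ⟨g, rfl⟩ := isConj_iff.1 (h.conj u hu)
  refine ⟨g⁻¹, ?_⟩
  calc t * (g⁻¹ * x * g⁻¹⁻¹) * t⁻¹ = g⁻¹ * (g * t * g⁻¹ * x * (g * t * g⁻¹)⁻¹) * g := by group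
    _ = _ := by rw [e]; group

end BSW

end Cfsg.Agent.H7
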