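import Mathlib
import Cfsg.Agent.H7.BSW1
import Cfsg.Agent.H7.Zass5
import Cfsg.Agent.H3.CTI0
import Cfsg.Agent.H3.FS

/-! Brauer-Suzuki-Wall theorem II: the character theory. -/

namespace Cfsg.Agent.H7
open Cfsg Subgroup H3
open scoped ComplexConjugate Classical

section Gen
variable {G : Type*} [Group G] [Fintype G] {a b ξ η θ : G → ℂ}

theorem lin_expand {A : Type*} [Group A] [Fintype A] [IsMulCommutative A] (f : A → ℂ) (x : A) :
    f x = ∑ φ : Lin A, ⟪f, ⇑φ⟫ * φ x := by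
  simp only [classInner_def, mul_assoc, ← Finset.mul_sum, Finset.sum_mul]
  rw [Finset.sum_comm]
  have : ∀ g : A, ∑ φ : Lin A, f g * (conj (φ g) * φ x) = if x = g then f g * Nat.card A else 0 :=
    fun g => by
      rw [← Finset.mul_sum, Finset.sum_congr rfl fun φ _ => mul_comm _ _, sum_lin_mul_conj]
      split_ifs <;> simp
  rw [Finset.sum_congr rfl fun g _ => this g, Finset.sum_ite_eq, if_pos (Finset.mem_univ _)]
  have : (Nat.card A : ℂ) ≠ 0 := card_ne_zero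
  field_simp

theorem sirr_orth (ha : IsSIrr G a) (hξ : IsSIrr G ξ) (hab : ⟪b, a⟫ = 0) (h : ⟪a + b, ξ⟫ = 0) :
    ⟪a, ξ⟫ = 0 ∧ ⟪b, ξ⟫ = 0 := by
  rw [classInner_add_left] at h
  have : ⟪a, ξ⟫ = 0 := by
    by_contra h0
    rcases ha.eq_or_eq_neg hξ h0 with e | e
    · rw [← e, hab, add_zero] at h; exact h0 (e ▸ h)
    · rw [show ξ = -a by rw [e, neg_neg], classInner_neg_right b, hab, neg_zero, add_zero] at h
      exact h0 (by rwa [show ξ = -a by rw [e, neg_neg]])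
  exact ⟨this, by rwa [this, zero_add] at h⟩

theorem sirr_inner_cases (hθ : IsGeneralizedCharacter G θ) (h3 : (⟪θ, θ⟫).re ≤ 3) (hη : IsSIrr G η) :
    ⟪θ, η⟫ = 0 ∨ ⟪θ, η⟫ = 1 ∨ ⟪θ, η⟫ = -1 := by
  obtain ⟨n, hn⟩ := hθ.exists_int_inner hη.isGen
  have h1 := (norm_inner_sq_le hη.inner_self θ).trans h3
  rw [hn, Complex.norm_intCast, sq_abs] at h1
  have h2 : n ^ 2 ≤ 3 := by exact_mod_cast h1
  have h4 : n ≤ 1 := by nlinarith
  have h5 : -1 ≤ n := by nlinarith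
  rw [hn]
  interval_cases n <;> simp

theorem sirr_one : IsSIrr G (fun _ => 1) := isIrrCharacter_one.isSIrr

omit [Fintype G] in
theorem sirr_sq_le [Finite G] (h : IsSIrr G η) {n : ℤ} (hn : η 1 = n) : n ^ 2 ≤ Nat.card G := by
  obtain ⟨ε, χ, hε, hχ, rfl⟩ := h.exists_sign
  have h1 := hχ.degree_sq_le_index (Z := ⊥) bot_le
  rw [index_bot] at h1
  have h2 : ((n ^ 2 : ℤ) : ℂ) = ((charDegree χ ^ 2 : ℕ) : ℂ) := by
    push_cast
    rw [← hn, hχ.cast_charDegree]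
    rcases hε with rfl | rfl <;> simp
  have h3 : n ^ 2 = (charDegree χ ^ 2 : ℕ) := by exact_mod_cast h2
  rw [h3]; exact_mod_cast h1

/-- number of involutions inverting -/
noncomputable def cF (G : Type*) [Group G] : G → ℂ := fun x => (InvS x).ncard

/-- the basic induced function -/
noncomputable def AF (K : Subgroup G) (φ : Lin K) : G → ℂ := indFun K ((fun _ => 1) - ⇑φ)

variable {K : Subgroup G}

theorem AF_gen (φ : Lin K) : IsGeneralizedCharacter G (AF K φ) := (isGen_one.sub φ.isGen).ind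

theorem AF_off (φ : Lin K) {x : G} (hx : ¬ KT K x) : AF K φ x = 0 :=
  indFun_eq_zero_of_not_conj _ fun g hg => hx ⟨g, hg⟩

theorem AF_one : AF K 1 = 0 := by
  rw [AF, Lin.coe_one, sub_self, indFun_zero]

theorem AF_at_one (φ : Lin K) : AF K φ 1 = 0 := by simp [AF, indFun_one]

variable [Fintype K]

theorem inner_AF (hθ : IsClassFunction G θ) (φ : Lin K) :
    ⟪θ, AF K φ⟫ = ⟪fun x : K => θ x, ⇑(1 : Lin K)⟫ - ⟪fun x : K => θ x, ⇑φ⟫ := by
  rw [AF, classInner_indFun_right _ hθ, classInner_sub_right, Lin.coe_one]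

theorem val_K [IsMulCommutative K] (hθ : IsClassFunction G θ) (x : K) :
    θ x = ⟪fun x : K => θ x, ⇑(1 : Lin K)⟫ * ∑ φ : Lin K, φ x - ∑ φ : Lin K, ⟪θ, AF K φ⟫ * φ x := by
  simp only [inner_AF hθ, sub_mul, Finset.sum_sub_distrib, Finset.mul_sum, sub_sub_cancel]
  exact lin_expand (fun x : K => θ x) x

theorem val_ne [IsMulCommutative K] (hθ : IsClassFunction G θ) {x : G} (hx : x ∈ K) (h1 : x ≠ 1) :
    θ x = - ∑ φ : Lin K, ⟪θ, AF K φ⟫ * φ ⟨x, hx⟩ := by
  have := val_K hθ ⟨x, hx⟩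
  rwa [sum_lin (fun e => h1 (congrArg Subtype.val e)), mul_zero, zero_sub] at this

theorem val_one [IsMulCommutative K] (hθ : IsGeneralizedCharacter G θ) :
    ∃ m : ℤ, θ 1 = m * Nat.card K - ∑ φ : Lin K, ⟪θ, AF K φ⟫ := by
  obtain ⟨m, hm⟩ := (hθ.res K).exists_int_inner (1 : Lin K).isGen
  have := val_K hθ.isClassFunction (1 : K)
  rw [sum_lin_one, hm] at this
  exact ⟨m, by simpa using this⟩

theorem inner_one_AF {φ : Lin K} (h : φ ≠ 1) : ⟪fun _ => 1, AF K φ⟫ = 1 := by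
  rw [inner_AF (isClassFunction_const 1), ← Lin.coe_one, Lin.inner_eq, Lin.inner_eq, if_pos rfl,
    if_neg h.symm, sub_zero]

end Gen

namespace BSW
variable {G : Type*} [Group G] [Fintype G] {t s : G} {K : Subgroup G} [Fintype K] {η : G → ℂ}

omit [Fintype G] [Fintype K] in
theorem isComm (h : BSW t K s) : IsMulCommutative K :=
  ⟨⟨fun a b => Subtype.ext (h.dt.comm a a.2 b b.2)⟩⟩

omit [Fintype K] in
theorem cF_eq (h : BSW t K s) : cF G = ∑ χ : IrrCharacter G,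
    (((centralizer ({t} : Set G)).index : ℂ) ^ 2 / Nat.card G * ((χ : G → ℂ) t ^ 2 / (χ : G → ℂ) 1)) •
      (χ : G → ℂ) := by
  funext x
  have := congrArg conj (card_class_mul_eq_sum t t x)
  rw [h.card_pairs, card_class_eq_index, map_natCast] at this
  rw [cF, this, Finset.sum_apply, map_mul, map_sum, Finset.mul_sum]
  refine Finset.sum_congr rfl fun χ _ => ?_
  have h1 : conj ((χ : G → ℂ) t) = (χ : G → ℂ) t := by rw [← χ.2.apply_inv, inv_of_ord h.ht]
  have h2 : conj ((χ : G → ℂ) 1) = (χ : G → ℂ) 1 := by rw [← χ.2.apply_inv, inv_one]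
  simp only [map_div₀, map_mul, map_natCast, h1, h2, Complex.conj_conj, Pi.smul_apply, smul_eq_mul]
  ring

omit [Fintype K] in
theorem cF_class (h : BSW t K s) : IsClassFunction G (cF G) := h.cF_eq ▸ isClassFunction_sum_irr _

omit [Fintype K] in
theorem cF_inner (h : BSW t K s) (hη : IsSIrr G η) : ⟪cF G, η⟫ =
    ((centralizer ({t} : Set G)).index : ℂ) / (2 * Nat.card K) * (η t ^ 2 / η 1) := by
  have key : ∀ χ, IsIrrCharacter G χ → ⟪cF G, χ⟫ =
      ((centralizer ({t} : Set G)).index : ℂ) / (2 * Nat.card K) * (χ t ^ 2 / χ 1) := fun χ hχ => by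
    have := classInner_sum_irr (fun χ : IrrCharacter G => (((centralizer ({t} : Set G)).index : ℂ) ^ 2 /
      Nat.card G * ((χ : G → ℂ) t ^ 2 / (χ : G → ℂ) 1))) ⟨χ, hχ⟩
    rw [← h.cF_eq] at this
    rw [this, h.card_G]
    have : ((centralizer ({t} : Set G)).index : ℂ) ≠ 0 := Nat.cast_ne_zero.2 index_ne_zero_of_finite
    have : (Nat.card K : ℂ) ≠ 0 := card_ne_zero
    push_cast
    field_simp
  rcases hη with hη | hη
  · exact key η hη
  · have := key _ hη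
    rw [classInner_neg_right, neg_eq_iff_eq_neg] at this
    rw [this, Pi.neg_apply, Pi.neg_apply, neg_sq, div_neg, mul_neg, neg_neg]

omit [Fintype K] in
theorem AF_res (h : BSW t K s) (φ : Lin K) (x : K) : AF K φ x = 2 - φ x - φ⁻¹ x := by
  haveI := h.isComm
  by_cases h1 : x = 1
  · rw [h1, coe_one, AF_at_one]; simp; norm_num
  rw [AF, indFun_two (isClassFunction_of_comm _) h.dt.nm fun g hg => by
    rw [inv_of_ord h.dt.ord]; exact h.dt.ti x x.2 (fun e => h1 (Subtype.ext e)) g hg,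
    h.dt.inv x x.2, ← coe_inv, extendByZero_coe, extendByZero_coe]
  simp; ring

theorem gram (h : BSW t K s) {φ ψ : Lin K} (hφ : φ ≠ 1) (hψ : ψ ≠ 1) :
    ⟪AF K φ, AF K ψ⟫ = 2 + (if φ = ψ then 1 else 0) + if φ⁻¹ = ψ then 1 else 0 := by
  have : (fun x : K => AF K φ x) = (2 : ℂ) • ⇑(1 : Lin K) - ⇑φ - ⇑φ⁻¹ := funext fun x => by
    rw [h.AF_res]; simp
  rw [inner_AF (AF_gen φ).isClassFunction, this]
  simp only [classInner_sub_left, classInner_smul_left, Lin.inner_eq, if_pos, if_neg hφ, if_neg hψ.symm,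
    if_neg (inv_ne_one.2 hφ)]
  ring

theorem cF_AF (h : BSW t K s) {φ : Lin K} (hφ : φ ≠ 1) : ⟪cF G, AF K φ⟫ = Nat.card K := by
  have h1 := inner_one_AF hφ
  rw [AF, classInner_indFun_right _ (isClassFunction_const 1), classInner_def] at h1
  rw [AF, classInner_indFun_right _ h.cF_class, classInner_def,
    Finset.sum_congr rfl (g := fun x : K => Nat.card K * (1 * conj (((fun _ => 1) - ⇑φ : K → ℂ) x)))
      fun x _ => ?_, ← Finset.mul_sum, mul_left_comm, h1, mul_one]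
  by_cases e : x = 1
  · simp [e]
  · rw [cF, h.ncard_InvS_K x.2 fun e' => e (Subtype.ext e'), one_mul]

omit [Fintype G] in
theorem exists_omega (h : BSW t K s) : ∃ ω : Lin K, ω ≠ 1 ∧ ω⁻¹ = ω ∧
    ∀ φ : Lin K, φ⁻¹ = φ → φ = 1 ∨ φ = ω := by
  letI : CommGroup K := { (inferInstance : Group K) with
    mul_comm := fun a b => Subtype.ext (h.dt.comm a a.2 b b.2) }
  obtain ⟨e⟩ := CommGroup.monoidHom_mulEquiv_of_hasEnoughRootsOfUnity K ℂ
  let e' : Lin K ≃* K := e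
  refine ⟨e'.symm ⟨t, h.tK⟩, fun a => ne_one_of_ord h.ht (congrArg Subtype.val
    ((map_eq_one_iff _ e'.symm.injective).1 a)), ?_, fun φ hφ => ?_⟩
  · rw [← map_inv]; congr 1; exact Subtype.ext (inv_of_ord h.ht)
  · have : (e' φ : G) * e' φ = 1 := by
      rw [← coe_mul, ← map_mul, mul_eq_one_iff_eq_inv.2 hφ.symm, map_one, coe_one]
    refine (h.uniq _ (e' φ).2 this).imp (fun a => (map_eq_one_iff _ e'.injective).1 (Subtype.ext a))
      fun a => e'.eq_symm_apply.2 (Subtype.ext a)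

omit [Fintype G] [Fintype K] in
theorem lin_t (h : BSW t K s) (φ : Lin K) : φ ⟨t, h.tK⟩ = 1 ∨ φ ⟨t, h.tK⟩ = -1 := by
  rw [← mul_self_eq_one_iff, ← map_mul, show (⟨t, h.tK⟩ * ⟨t, h.tK⟩ : K) = 1 from
    Subtype.ext (mul_self_of_ord h.ht), map_one]

omit [Fintype K] in
theorem AF_t (h : BSW t K s) (φ : Lin K) : AF K φ t = 2 - 2 * φ ⟨t, h.tK⟩ := by
  have := h.AF_res φ ⟨t, h.tK⟩
  rw [this, Lin.inv_apply]
  rcases h.lin_t φ with e | e <;> rw [e] <;> norm_num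

omit [Fintype K] in
theorem odd_index (h : BSW t K s) : Odd (centralizer ({t} : Set G)).index := by
  have h1 := Equiv.Perm.card_fixedPoints_modEq (α := G) (f := fun x => x⁻¹) (p := 2) (n := 1)
    (funext fun x => inv_inv x)
  have h2 : Function.fixedPoints (fun x : G => x⁻¹) = insert 1 {x | IsConj t x} := by
    ext x
    constructor
    · intro hx
      by_cases e : x = 1
      · exact Or.inl e
      · exact Or.inr (h.conj x (ord_two e (mul_eq_one_iff_eq_inv.2 hx.symm)))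
    · rintro (rfl | hx)
      · exact inv_one
      · obtain ⟨g, rfl⟩ := isConj_iff.1 hx
        exact inv_of_ord ((ord_conj g t).trans h.ht)
  rw [← Nat.card_eq_fintype_card, ← Nat.card_eq_fintype_card, h.card_G] at h1
  change _ ≡ Nat.card (Function.fixedPoints (fun x : G => x⁻¹)) [MOD 2] at h1
  rw [h2, Nat.card_coe_set_eq, Set.ncard_insert_of_notMem (a := (1 : G)) (s := {x | IsConj t x})
    (fun e => ne_one_of_ord h.ht (isConj_one_left.1 e)), ← Nat.card_coe_set_eq] at h1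
  change _ ≡ Nat.card {x // IsConj t x} + 1 [MOD 2] at h1
  rw [card_class_eq_index, Nat.ModEq, mul_assoc] at h1
  rw [Nat.odd_iff]; omega

/-- the decomposition of `AF K φ - 1` -/
structure Dec (K : Subgroup G) (ω φ : Lin K) (S E : G → ℂ) : Prop where
  hS : IsSIrr G S
  hE : IsSIrr G E
  orth : ⟪S, E⟫ = 0
  eq : AF K φ = (fun _ => 1) + (S + E)
  Sω : ⟪S, AF K ω⟫ = 1
  Eω : ⟪E, AF K ω⟫ = 0
  S1 : ⟪S, fun _ => 1⟫ = 0
  E1 : ⟪E, fun _ => 1⟫ = 0

theorem B_inner (h : BSW t K s) {φ ψ : Lin K} (hφ : φ ≠ 1) (hψ : ψ ≠ 1) :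
    ⟪AF K φ - fun _ => 1, AF K ψ⟫ = 1 + (if φ = ψ then 1 else 0) + if φ⁻¹ = ψ then 1 else 0 := by
  rw [classInner_sub_left, h.gram hφ hψ, inner_one_AF hψ]; ring

theorem B_one {φ : Lin K} (hφ : φ ≠ 1) : ⟪AF K φ - fun _ => 1, fun _ => 1⟫ = 0 := by
  rw [classInner_sub_left, (AF_gen φ).inner_comm isGen_one, inner_one_AF hφ, sirr_one.inner_self,
    sub_self]

theorem B_self (h : BSW t K s) {φ : Lin K} (hφ : φ ≠ 1) :
    ⟪AF K φ - fun _ => 1, AF K φ - fun _ => 1⟫ = 2 + if φ⁻¹ = φ then 1 else 0 := by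
  rw [classInner_sub_right, h.B_inner hφ hφ, B_one hφ, if_pos rfl]; ring

theorem exists_dec (h : BSW t K s) {ω φ : Lin K} (hω : ω ≠ 1) (hω' : ω⁻¹ = ω) (hφ : φ⁻¹ ≠ φ) :
    ∃ S E, Dec K ω φ S E := by
  have h1 : φ ≠ 1 := fun e => hφ (by rw [e, inv_one])
  have h2 : φ ≠ ω := fun e => hφ (by rw [e, hω'])
  have h3 : φ⁻¹ ≠ ω := fun e => h2 (by rw [← inv_inv φ, e, hω'])
  obtain ⟨a, b, ha, hb, hab, e⟩ := ((AF_gen φ).sub isGen_one).exists_sirr_of_norm_two
    (by rw [h.B_self h1, if_neg hφ, add_zero])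
  have h4 := h.B_inner h1 hω
  have h5 := B_one h1
  rw [e] at h4 h5
  obtain ⟨a1, b1⟩ := sirr_orth ha sirr_one (classInner_eq_zero_comm.1 hab) h5
  rw [if_neg h2, if_neg h3, add_zero, add_zero, classInner_add_left] at h4
  have key : ∀ a, IsSIrr G a → ⟪a, fun _ => 1⟫ = 0 →
      ⟪a, AF K ω⟫ = 0 ∨ ⟪a, AF K ω⟫ = 1 ∨ ⟪a, AF K ω⟫ = -1 := fun a ha a1 => by
    have := sirr_inner_cases ((AF_gen ω).sub isGen_one) (by
      rw [h.B_self hω, if_pos hω']; norm_num) ha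
    rwa [classInner_sub_left, classInner_eq_zero_comm.1 a1, sub_zero,
      (AF_gen ω).inner_comm ha.isGen] at this
  have e' := sub_eq_iff_eq_add'.1 e
  rcases key a ha a1 with c | c | c <;> rw [c] at h4
  · exact ⟨b, a, hb, ha, classInner_eq_zero_comm.1 hab, add_comm a b ▸ e', by simpa using h4, c, b1, a1⟩
  · exact ⟨a, b, ha, hb, hab, e', c, by simpa using h4, a1, b1⟩
  · rcases key b hb b1 with d | d | d <;> rw [d] at h4 <;> norm_num at h4

variable {ω φ ψ : Lin K} {S E S' E' : G → ℂ}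

omit [Fintype K] in
theorem Dec.cross (d : Dec K ω φ S E) (d' : Dec K ω ψ S' E') : ⟪S, E'⟫ = 0 :=
  d.hS.inner_eq_zero d'.hE (fun e => by have := d.Sω; rw [e, d'.Eω] at this; simp at this)
    fun e => by have := d.Sω; rw [e, classInner_neg_left, d'.Eω] at this; simp at this

omit [Fintype K] in
theorem Dec.S_A (d : Dec K ω φ S E) (d' : Dec K ω ψ S' E') : ⟪S, AF K ψ⟫ = ⟪S, S'⟫ := by
  rw [d'.eq, classInner_add_right, classInner_add_right, d.S1, d.cross d']; ring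

omit [Fintype K] in
theorem Dec.E_A (d : Dec K ω φ S E) (d' : Dec K ω ψ S' E') : ⟪E, AF K ψ⟫ = ⟪E, E'⟫ := by
  rw [d'.eq, classInner_add_right, classInner_add_right, d.E1,
    classInner_eq_zero_comm.1 (d'.cross d)]; ring

theorem Dec.sum (h : BSW t K s) (d : Dec K ω φ S E) (hφ : φ ≠ 1) (hψ : ψ ≠ 1) :
    ⟪S, AF K ψ⟫ + ⟪E, AF K ψ⟫ = 1 + (if φ = ψ then 1 else 0) + if φ⁻¹ = ψ then 1 else 0 := by
  rw [← h.B_inner hφ hψ, d.eq, add_sub_cancel_left, classInner_add_left]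

theorem Dec.eq_of_ne (h : BSW t K s) (d : Dec K ω φ S E) (d' : Dec K ω ψ S' E') (hφ : φ ≠ 1)
    (hψ : ψ ≠ 1) (hne : S ≠ S') : E = E' ∧ φ ≠ ψ ∧ φ⁻¹ ≠ ψ := by
  have h1 := d.sum h hφ hψ
  rw [d.S_A d', d.E_A d', d.hS.inner_eq_zero d'.hS hne (fun e => by
    have := d.Sω; rw [e, classInner_neg_left, d'.Sω] at this; norm_num at this), zero_add,
    d.hE.inner_eq d'.hE] at h1
  split_ifs at h1 <;> norm_num at h1 <;> simp_all

theorem Dec.cF_eq (h : BSW t K s) (d : Dec K ω φ S E) (hφ : φ ≠ 1) :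
    ((centralizer ({t} : Set G)).index : ℂ) / (2 * Nat.card K) *
      (1 + (S t ^ 2 / S 1 + E t ^ 2 / E 1)) = Nat.card K := by
  have := h.cF_AF hφ
  rw [d.eq, classInner_add_right, classInner_add_right, h.cF_inner sirr_one,
    h.cF_inner d.hS, h.cF_inner d.hE] at this
  linear_combination this

omit [Fintype K] in
theorem Dec.deg (d : Dec K ω φ S E) : S 1 + E 1 = -1 := by
  have := congrFun d.eq 1
  rw [AF_at_one] at this
  simp only [Pi.add_apply] at this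
  linear_combination -this

omit [Fintype K] in
theorem Dec.val (h : BSW t K s) (d : Dec K ω φ S E) : S t + E t = 1 - 2 * φ ⟨t, h.tK⟩ := by
  have := congrFun d.eq t
  rw [h.AF_t] at this
  simp only [Pi.add_apply] at this
  linear_combination -this

theorem sum_split {A : Type*} [Group A] [Finite A] {ω : Lin A} (hω : ω ≠ 1) (hω' : ω⁻¹ = ω) 
    (hu : ∀ φ : Lin A, φ⁻¹ = φ → φ = 1 ∨ φ = ω) (f : Lin A → ℂ) : ∑ φ, f φ = f 1 + f ω + ∑ φ with φ⁻¹ ≠ φ, f φ := by
  rw [← Finset.sum_filter_not_add_sum_filter Finset.univ (fun φ : Lin A => φ⁻¹ ≠ φ),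
    ← Finset.sum_pair hω.symm]
  congr 2
  ext φ
  simp only [Finset.mem_filter, Finset.mem_univ, true_and, not_not, Finset.mem_insert,
    Finset.mem_singleton]
  exact ⟨hu φ, by rintro (rfl | rfl); exacts [inv_one, hω']⟩

theorem Dec.S_eq (h : BSW t K s) (hω : ω ≠ 1) (hω' : ω⁻¹ = ω)
    (hu : ∀ φ : Lin K, φ⁻¹ = φ → φ = 1 ∨ φ = ω) (d : Dec K ω φ S E) (d' : Dec K ω ψ S' E')
    (hφ : φ⁻¹ ≠ φ) (hψ : ψ⁻¹ ≠ ψ) : S = S' := by
  haveI := h.isComm
  by_contra hne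
  have n1 : ∀ {φ : Lin K}, φ⁻¹ ≠ φ → φ ≠ 1 := fun hφ e => hφ (by rw [e, inv_one])
  obtain ⟨e1, e2, e3⟩ := d.eq_of_ne h d' (n1 hφ) (n1 hψ) hne
  have all : ∀ χ : Lin K, χ⁻¹ ≠ χ → ∃ S, Dec K ω χ S E := fun χ hχ => by
    obtain ⟨S'', E'', d''⟩ := h.exists_dec hω hω' hχ
    by_cases a : S = S''
    · exact ⟨S'', (e1.trans (d'.eq_of_ne h d'' (n1 hψ) (n1 hχ) fun e => hne (a.trans e.symm)).1) ▸ d''⟩
    · exact ⟨S'', (d.eq_of_ne h d'' (n1 hφ) (n1 hχ) a).1 ▸ d''⟩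
  have s0 := sum_lin (A := K) (a := ⟨t, h.tK⟩) fun e => ne_one_of_ord h.ht (congrArg Subtype.val e)
  rw [sum_split hω hω' hu] at s0
  have hE : E t = 1 + ω ⟨t, h.tK⟩ := by
    rw [val_ne d.hE.isClassFunction h.tK (ne_one_of_ord h.ht), sum_split hω hω' hu, AF_one,
      classInner_zero_right, d.Eω, Finset.sum_congr rfl (g := fun χ : Lin K => χ ⟨t, h.tK⟩)
      fun χ hχ => by
        obtain ⟨S'', d''⟩ := all χ (Finset.mem_filter.1 hχ).2
        rw [d.E_A d'', d.hE.inner_self, one_mul]]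
    simp only [Lin.one_apply] at s0
    linear_combination -s0
  have hi : ((centralizer ({t} : Set G)).index : ℂ) / (2 * Nat.card K) ≠ 0 :=
    div_ne_zero (Nat.cast_ne_zero.2 index_ne_zero_of_finite) (mul_ne_zero two_ne_zero card_ne_zero)
  have same : ∀ χ : Lin K, χ⁻¹ ≠ χ → χ ⟨t, h.tK⟩ = φ ⟨t, h.tK⟩ := fun χ hχ => by
    obtain ⟨S'', d''⟩ := all χ hχ
    have a1 := mul_left_cancel₀ hi ((d.cF_eq h (n1 hφ)).trans (d''.cF_eq h (n1 hχ)).symm)
    rw [add_right_inj, add_left_inj, show S'' 1 = S 1 by linear_combination d''.deg - d.deg,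
      div_left_inj' d.hS.apply_one_ne_zero, eq_sub_of_add_eq (d.val h), eq_sub_of_add_eq (d''.val h),
      hE] at a1
    rcases h.lin_t χ with b | b <;> rcases h.lin_t φ with c | c <;> rcases h.lin_t ω with e | e <;>
      rw [b, c, e] at a1 <;> norm_num at a1 <;> rw [b, c]
  rw [Finset.sum_congr rfl fun χ hχ => same χ (Finset.mem_filter.1 hχ).2, Finset.sum_const,
    nsmul_eq_mul, Lin.one_apply] at s0
  have c3 : 3 ≤ (Finset.univ.filter fun φ : Lin K => φ⁻¹ ≠ φ).card := by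
    rw [← Finset.card_eq_three.2 ⟨φ, φ⁻¹, ψ, hφ.symm, e2, e3, rfl⟩]
    refine Finset.card_le_card fun χ hχ => Finset.mem_filter.2 ⟨Finset.mem_univ _, ?_⟩
    simp only [Finset.mem_insert, Finset.mem_singleton] at hχ
    rcases hχ with rfl | rfl | rfl
    exacts [hφ, by rw [inv_inv]; exact hφ.symm, hψ]
  generalize (Finset.univ.filter fun φ : Lin K => φ⁻¹ ≠ φ).card = N at s0 c3
  rcases h.lin_t φ with c | c <;> rcases h.lin_t ω with e | e <;> rw [c, e] at s0 <;>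
    norm_cast at s0 <;> omega

/-- the Steinberg-like signed character -/
structure Sig (K : Subgroup G) (σ : G → ℂ) : Prop where
  irr : IsSIrr G σ
  one : ⟪σ, fun _ => 1⟫ = 0
  A : ∀ φ : Lin K, φ ≠ 1 → ⟪σ, AF K φ⟫ = 1

variable {σ : G → ℂ}

theorem sum_ne_one {A : Type*} [Group A] [Finite A] (f g : Lin A → ℂ) (h1 : f 1 = 0)
    (h : ∀ φ, φ ≠ 1 → f φ = g φ) : ∑ φ, f φ = ∑ φ, g φ - g 1 := by
  rw [← Finset.add_sum_erase _ f (Finset.mem_univ 1), ← Finset.add_sum_erase _ g (Finset.mem_univ 1),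
    Finset.sum_congr rfl fun φ hφ => h φ (Finset.ne_of_mem_erase hφ), h1]
  ring

theorem Sig.val (h : BSW t K s) (S : Sig K σ) {x : G} (hx : x ∈ K) (h1 : x ≠ 1) : σ x = 1 := by
  haveI := h.isComm
  rw [val_ne S.irr.isClassFunction hx h1, sum_ne_one _ (fun φ => φ ⟨x, hx⟩) (by
    rw [AF_one, classInner_zero_right, zero_mul]) fun φ hφ => by rw [S.A φ hφ, one_mul],
    sum_lin fun e => h1 (congrArg Subtype.val e)]
  simp

theorem Sig.sum (h : BSW t K s) (S : Sig K σ) : ∑ φ : Lin K, ⟪σ, AF K φ⟫ = Nat.card K - 1 := by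
  haveI := h.isComm
  rw [sum_ne_one _ (fun _ => 1) (by rw [AF_one, classInner_zero_right]) S.A, Finset.sum_const,
    card_univ_lin, nsmul_eq_mul, mul_one]

theorem Sig.deg (h : BSW t K s) (S : Sig K σ) : ∃ μ : ℤ, σ 1 = 1 + μ * Nat.card K := by
  haveI := h.isComm
  obtain ⟨m, hm⟩ := val_one (K := K) S.irr.isGen
  exact ⟨m - 1, by rw [hm, S.sum h]; push_cast; ring⟩

theorem numer1 {i k μ : ℤ} (hi : Odd i) (e : i * μ ^ 2 = 2 * (1 + μ * k) * (2 + μ * k))
    (h0 : 2 + μ * k ≠ 0) (h1 : 1 + μ * k ≠ 0) :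
    ∃ ε : ℤ, (ε = 1 ∨ ε = -1) ∧ μ = 2 * ε ∧ i = (1 + 2 * ε * k) * (1 + ε * k) := by
  have he : Even μ := by
    have : Even (i * μ ^ 2) := e ▸ (even_two_mul _).mul_right _
    rcases Int.even_mul.1 this with a | a
    · exact absurd a (Int.not_even_iff_odd.2 hi)
    · exact (Int.even_pow.1 a).1
  obtain ⟨ν, rfl⟩ := he.two_dvd
  have e2 : i * ν ^ 2 = (1 + 2 * ν * k) * (1 + ν * k) := by linarith
  have : ν ∣ 1 := ⟨i * ν - 3 * k - 2 * ν * k * k, by linear_combination -e2⟩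
  have hν := Int.isUnit_iff.1 (isUnit_of_dvd_one this)
  refine ⟨ν, hν, rfl, ?_⟩
  rcases hν with rfl | rfl <;> linarith

theorem numer2 {i a b c : ℤ} (hi : 0 < i) (ha : (1 + 2 * a) ^ 2 ≤ 4 * i) (hb : (1 + 2 * b) ^ 2 ≤ 4 * i)
    (hc : (1 + 2 * c) ^ 2 ≤ 4 * i) (s : a + b + c = -2)
    (e : i * ((a + 1) * (b + 1) * (c + 1)) = (1 + 2 * a) * (1 + 2 * b) * (1 + 2 * c)) :
    ∃ ε : ℤ, (ε = 1 ∨ ε = -1) ∧ (a = 2 * ε ∨ b = 2 * ε ∨ c = 2 * ε) ∧
      i = (1 + 2 * ε * 2) * (1 + ε * 2) := by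
  have key : ∀ a : ℤ, |1 + 2 * a| ≤ 3 * |a + 1| ∨ a + 1 = 0 := fun a => by
    rcases abs_cases (1 + 2 * a) with h | h <;> rcases abs_cases (a + 1) with h' | h' <;> omega
  have h0 : (a + 1) * (b + 1) * (c + 1) ≠ 0 := fun h => by
    rw [h, mul_zero, eq_comm, mul_eq_zero, mul_eq_zero] at e; omega
  have h27 : i ≤ 27 := by
    simp only [mul_ne_zero_iff] at h0
    have e' := congrArg abs e
    simp only [abs_mul] at e'
    have a1 := (key a).resolve_right h0.1.1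
    have a2 := (key b).resolve_right h0.1.2
    have a3 := (key c).resolve_right h0.2
    have p1 := abs_pos.2 h0.1.1
    have p2 := abs_pos.2 h0.1.2
    have p3 := abs_pos.2 h0.2
    have : |1 + 2 * a| * |1 + 2 * b| * |1 + 2 * c| ≤ (3 * |a + 1|) * (3 * |b + 1|) * (3 * |c + 1|) := by
      gcongr
    rw [← e', abs_of_pos hi] at this
    have p4 : 0 < |a + 1| * |b + 1| * |c + 1| := by positivity
    nlinarith
  have ba : -5 ≤ a ∧ a ≤ 4 := by constructor <;> nlinarith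
  have bb : -5 ≤ b ∧ b ≤ 4 := by constructor <;> nlinarith
  obtain rfl : c = -2 - a - b := by omega
  obtain ⟨a1, a2⟩ := ba
  obtain ⟨b1, b2⟩ := bb
  suffices (i = 15 ∧ (a = 2 ∨ b = 2 ∨ -2 - a - b = 2)) ∨ (i = 3 ∧ (a = -2 ∨ b = -2 ∨ -2 - a - b = -2)) by
    rcases this with ⟨h1, h2⟩ | ⟨h1, h2⟩
    · exact ⟨1, Or.inl rfl, h2, h1⟩
    · exact ⟨-1, Or.inr rfl, h2, h1⟩
  interval_cases a <;> interval_cases b <;> omega

theorem exists_sig (h : BSW t K s) (hω : ω ≠ 1) (hω' : ω⁻¹ = ω)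
    (hu : ∀ φ : Lin K, φ⁻¹ = φ → φ = 1 ∨ φ = ω) : ∃ (σ : G → ℂ) (ε : ℤ), Sig K σ ∧ (ε = 1 ∨ ε = -1) ∧
      σ 1 = 1 + 2 * ε * Nat.card K ∧ ((centralizer ({t} : Set G)).index : ℤ) =
        (1 + 2 * ε * Nat.card K) * (1 + ε * Nat.card K) ∧
      ∀ φ S E, φ⁻¹ ≠ φ → Dec K ω φ S E → S = σ := by
  haveI := h.isComm
  have hk : (Nat.card K : ℂ) ≠ 0 := card_ne_zero
  have t1 := ne_one_of_ord h.ht
  by_cases hex : ∃ φ : Lin K, φ⁻¹ ≠ φ
  · obtain ⟨φ, hφ⟩ := hex
    obtain ⟨S, E, d⟩ := h.exists_dec hω hω' hφ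
    have hS : Sig K S := ⟨d.hS, d.S1, fun ψ hψ => by
      by_cases e : ψ⁻¹ = ψ
      · rw [(hu ψ e).resolve_left hψ, d.Sω]
      · obtain ⟨S', E', d'⟩ := h.exists_dec hω hω' e
        rw [d.S_A d', ← d.S_eq h hω hω' hu d' hφ e, d.hS.inner_self]⟩
    obtain ⟨μ, hμ⟩ := hS.deg h
    have e1 := d.cF_eq h fun e => hφ (by rw [e, inv_one])
    have e2 : E 1 = -(2 + μ * Nat.card K) := by linear_combination d.deg - hμ
    have e3 : E t ^ 2 = 4 := by
      have := d.val h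
      rw [hS.val h h.tK t1] at this
      rw [eq_sub_of_add_eq' this]
      rcases h.lin_t φ with c | c <;> rw [c] <;> norm_num
    have n1 := hμ ▸ d.hS.apply_one_ne_zero
    have n2 := neg_ne_zero.1 (e2 ▸ d.hE.apply_one_ne_zero)
    rw [e3, e2, hμ, hS.val h h.tK t1] at e1
    have n1' := n1
    have n2' := n2
    rw [mul_comm] at n1' n2'
    field_simp at e1
    obtain ⟨ε, h1, rfl, h2⟩ := numer1 (k := Nat.card K) (μ := μ) ((Int.odd_coe_nat _).2 h.odd_index) (by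
      have : (((centralizer ({t} : Set G)).index : ℂ) * μ ^ 2) =
          2 * (1 + μ * Nat.card K) * (2 + μ * Nat.card K) :=
        mul_left_cancel₀ (pow_ne_zero 2 hk) (by linear_combination e1)
      exact_mod_cast this) (by exact_mod_cast n2) (by exact_mod_cast n1)
    exact ⟨S, ε, hS, h1, by rw [hμ]; push_cast; ring, h2, fun ψ S' E' hψ d' =>
      d'.S_eq h hω hω' hu d hψ hφ⟩
  push Not at hex
  have k2 : Nat.card K = 2 := by
    rw [← card_lin, Nat.card_eq_two_iff]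
    exact ⟨1, ω, hω.symm, Set.eq_univ_of_forall fun φ => hu φ (hex φ)⟩
  obtain ⟨a, b, c, ha, hb, hc, hab, hac, hbc, e⟩ := ((AF_gen ω).sub isGen_one).exists_sirr_of_norm_three
    (by rw [h.B_self hω, if_pos hω']; norm_num)
  have hba := classInner_eq_zero_comm.1 hab
  have hca := classInner_eq_zero_comm.1 hac
  have hcb := classInner_eq_zero_comm.1 hbc
  have h5 := B_one hω
  rw [e, add_assoc] at h5
  obtain ⟨a1, h6⟩ := sirr_orth ha sirr_one (by rw [classInner_add_left, hba, hca, add_zero]) h5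
  obtain ⟨b1, c1⟩ := sirr_orth hb sirr_one hcb h6
  have e' := sub_eq_iff_eq_add'.1 e
  have mk : ∀ η, IsSIrr G η → ⟪η, fun _ => 1⟫ = 0 → ⟪η, a + b + c⟫ = 1 → Sig K η := fun η h1 h2 h3 =>
    ⟨h1, h2, fun φ hφ => by rw [(hu φ (hex φ)).resolve_left hφ, e', classInner_add_right, h2, h3, zero_add]⟩
  have sa := mk a ha a1 (by simp [classInner_add_right, ha.inner_self, hab, hac])
  have sb := mk b hb b1 (by simp [classInner_add_right, hb.inner_self, hba, hbc])
  have sc := mk c hc c1 (by simp [classInner_add_right, hc.inner_self, hca, hcb])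
  obtain ⟨x, hx⟩ := sa.deg h
  obtain ⟨y, hy⟩ := sb.deg h
  obtain ⟨z, hz⟩ := sc.deg h
  have e1 := h.cF_AF hω
  rw [e', classInner_add_right, classInner_add_right, classInner_add_right, h.cF_inner sirr_one,
    h.cF_inner ha, h.cF_inner hb, h.cF_inner hc, sa.val h h.tK t1, sb.val h h.tK t1, sc.val h h.tK t1,
    hx, hy, hz, k2] at e1
  have e2 := congrFun e' 1
  rw [AF_at_one, Pi.add_apply, Pi.add_apply, Pi.add_apply, hx, hy, hz, k2] at e2
  have n1 := hx ▸ ha.apply_one_ne_zero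
  have n2 := hy ▸ hb.apply_one_ne_zero
  have n3 := hz ▸ hc.apply_one_ne_zero
  have bd : ∀ {η : G → ℂ} {x : ℤ}, IsSIrr G η → η 1 = 1 + x * Nat.card K →
      (1 + 2 * x) ^ 2 ≤ 4 * ((centralizer ({t} : Set G)).index : ℤ) := fun {η x} h1 h2 => by
    have := sirr_sq_le h1 (n := 1 + 2 * x) (by rw [h2, k2]; push_cast; ring)
    rw [h.card_G, k2] at this
    exact_mod_cast this
  rw [k2] at n1 n2 n3
  push_cast at e1 e2 n1 n2 n3
  rw [mul_comm] at n1 n2 n3
  field_simp at e1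
  have e3 : (x : ℂ) + y + z = -2 := by linear_combination -e2 / 2
  obtain ⟨ε, h1, h2, h3⟩ := numer2 (by exact_mod_cast Nat.pos_of_ne_zero index_ne_zero_of_finite)
    (bd ha hx) (bd hb hy) (bd hc hz) (by exact_mod_cast e3) (by
      have : ((centralizer ({t} : Set G)).index : ℂ) * ((x + 1) * (y + 1) * (z + 1)) =
          (1 + 2 * x) * (1 + 2 * y) * (1 + 2 * z) := by
        linear_combination e1 / 8 + ((centralizer ({t} : Set G)).index : ℂ) / 4 * e3
      exact_mod_cast this)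
  have fin : ∀ η (x : ℤ), Sig K η → η 1 = 1 + x * Nat.card K → x = 2 * ε →
      ∃ (σ : G → ℂ) (ε : ℤ), Sig K σ ∧ (ε = 1 ∨ ε = -1) ∧
      σ 1 = 1 + 2 * ε * Nat.card K ∧ ((centralizer ({t} : Set G)).index : ℤ) =
        (1 + 2 * ε * Nat.card K) * (1 + ε * Nat.card K) ∧
      ∀ φ S E, φ⁻¹ ≠ φ → Dec K ω φ S E → S = σ := fun η x a b c =>
    ⟨η, ε, a, h1, by rw [b, c]; push_cast; ring, by rw [h3, k2]; rfl, fun φ _ _ hφ => absurd (hex φ) hφ⟩
  rcases h2 with h2 | h2 | h2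
  exacts [fin a x sa hx h2, fin b y sb hy h2, fin c z sc hz h2]

theorem main (h : BSW t K s) : ∃ (σ : G → ℂ) (ε : ℤ), IsSIrr G σ ∧ ⟪σ, fun _ => 1⟫ = 0 ∧
    (∀ x ∈ K, x ≠ 1 → σ x = 1) ∧ (ε = 1 ∨ ε = -1) ∧ σ 1 = 1 + 2 * ε * Nat.card K ∧
    ((centralizer ({t} : Set G)).index : ℤ) = (1 + 2 * ε * Nat.card K) * (1 + ε * Nat.card K) ∧
    ∀ x, ¬ KT K x → 2 * ((InvS x).ncard : ℂ) =
      (1 + 2 * ε * Nat.card K) * (1 + ε) + (1 - ε + 2 * ε * Nat.card K) * σ x := by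
  haveI := h.isComm
  obtain ⟨ω, hω, hω', hu⟩ := h.exists_omega
  obtain ⟨σ, ε, S, hε, d1, hi, hS⟩ := h.exists_sig hω hω' hu
  refine ⟨σ, ε, S.irr, S.one, fun x hx h1 => S.val h hx h1, hε, d1, hi, fun x hx => ?_⟩
  have hk : (Nat.card K : ℂ) ≠ 0 := card_ne_zero
  have t1 := ne_one_of_ord h.ht
  have hi' : ((centralizer ({t} : Set G)).index : ℂ) =
      (1 + 2 * ε * Nat.card K) * (1 + ε * Nat.card K) := by exact_mod_cast hi
  have n0 : ((centralizer ({t} : Set G)).index : ℂ) ≠ 0 := Nat.cast_ne_zero.2 index_ne_zero_of_finite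
  obtain ⟨n1, n2⟩ := mul_ne_zero_iff.1 (hi' ▸ n0)
  have e2 : (ε : ℂ) ^ 2 = 1 := by rcases hε with rfl | rfl <;> simp
  set k : ℂ := (Nat.card K : ℂ) with hkdef
  have m3 : 1 + 2 * k * ε ≠ 0 := by rwa [mul_right_comm]
  have m4 : 1 + k * ε ≠ 0 := by rwa [mul_comm]
  let P : (G → ℂ) → Prop := fun η => 2 * k * ⟪cF G, η⟫ = k * ((1 + 2 * ε * k) * (1 + ε)) *
    ⟪η, fun _ => 1⟫ + k * (1 - ε + 2 * ε * k) * ⟪η, σ⟫ - (1 + 2 * ε * k) * ∑ φ : Lin K, ⟪η, AF K φ⟫
  have Pneg : ∀ η, P η → P (-η) := fun η hη => by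
    simp only [P, classInner_neg_left, classInner_neg_right, Finset.sum_neg_distrib] at hη ⊢
    linear_combination -hη
  have Pof : ∀ η χ, IsSIrr G η → IsSIrr G χ → P η → ⟪χ, η⟫ ≠ 0 → P χ := fun η χ h1 h2 h3 h4 =>
    (h2.eq_or_eq_neg h1 h4).elim (fun e => e ▸ h3) fun e => e ▸ Pneg η h3
  have P1 : P fun _ => 1 := by
    simp only [P]
    rw [h.cF_inner sirr_one, sirr_one.inner_self, classInner_eq_zero_comm.1 S.one, sum_ne_one _ (fun _ => 1)
      (by rw [AF_one, classInner_zero_right]) fun φ hφ => inner_one_AF hφ, Finset.sum_const,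
      card_univ_lin, hi', nsmul_eq_mul, ← hkdef]
    field_simp; ring
  have Pσ : P σ := by
    simp only [P]
    rw [h.cF_inner S.irr, S.one, S.irr.inner_self, S.sum h, S.val h h.tK t1, d1, hi', ← hkdef]
    field_simp; ring
  have n1' : ∀ {φ : Lin K}, φ⁻¹ ≠ φ → φ ≠ 1 := fun hφ e => hφ (by rw [e, inv_one])
  have PE : ∀ φ E, φ⁻¹ ≠ φ → Dec K ω φ σ E → P E := fun φ E hφ d => by
    have a1 : ∑ ψ : Lin K, ⟪E, AF K ψ⟫ = 2 := by
      rw [sum_ne_one _ (fun ψ => (if φ = ψ then 1 else 0) + if φ⁻¹ = ψ then 1 else 0)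
        (by rw [AF_one, classInner_zero_right]) fun ψ hψ => by
          linear_combination d.sum h (n1' hφ) hψ - S.A ψ hψ]
      simp [Finset.sum_add_distrib, n1' hφ]; norm_num
    have a2 : E 1 = -(2 * (1 + ε * k)) := by linear_combination d.deg - d1
    have a3 : E t ^ 2 = 4 := by
      have := d.val h
      rw [S.val h h.tK t1] at this
      rw [eq_sub_of_add_eq' this]
      rcases h.lin_t φ with c | c <;> rw [c] <;> norm_num
    simp only [P]
    rw [h.cF_inner d.hE, d.E1, classInner_eq_zero_comm.1 d.orth, a1, a2, a3, hi', ← hkdef]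
    field_simp; ring
  have b1 := B_one hω
  have b2 : ⟪AF K ω - fun _ => 1, σ⟫ = 1 := by
    rw [classInner_sub_left, classInner_eq_zero_comm.1 S.one, (AF_gen ω).inner_comm S.irr.isGen,
      S.A ω hω, sub_zero]
  have g1 := (AF_gen ω).sub isGen_one
  obtain ⟨a, b, ha, hb, hab, e⟩ := (g1.sub S.irr.isGen).exists_sirr_of_norm_two (by
    rw [classInner_sub_left, classInner_sub_right, classInner_sub_right σ, h.B_self hω, if_pos hω', b2,
      S.irr.isGen.inner_comm g1, b2, S.irr.inner_self]; norm_num)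
  have hba := classInner_eq_zero_comm.1 hab
  obtain ⟨a1, b1⟩ := sirr_orth ha sirr_one hba (by rw [← e, classInner_sub_left, b1, S.one, sub_self])
  obtain ⟨a2, b2⟩ := sirr_orth ha S.irr hba (by
    rw [← e, classInner_sub_left, b2, S.irr.inner_self, sub_self])
  have e' : AF K ω = (fun _ => 1) + (σ + (a + b)) := by rw [← e]; abel
  have key : ∀ η, IsSIrr G η → ⟪η, fun _ => 1⟫ = 0 → ⟪η, σ⟫ = 0 → ⟪η, a + b⟫ = 1 →
      ∑ ψ : Lin K, ⟪η, AF K ψ⟫ = 1 ∧ η t ^ 2 = 1 := fun η h1 h2 h3 h4 => by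
    have c1 : ⟪η, AF K ω⟫ = 1 := by rw [e', classInner_add_right, classInner_add_right, h2, h3, h4]; ring
    have c2 : ∀ ψ : Lin K, ψ⁻¹ ≠ ψ → ⟪η, AF K ψ⟫ = 0 := fun ψ hψ => by
      obtain ⟨S', E', d⟩ := h.exists_dec hω hω' hψ
      rw [hS ψ S' E' hψ d] at d
      rw [d.eq, classInner_add_right, classInner_add_right, h2, h3, h1.inner_eq_zero d.hE
        (fun e => by rw [e, d.Eω] at c1; simp at c1)
        (fun e => by rw [e, classInner_neg_left, d.Eω] at c1; simp at c1)]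
      ring
    constructor
    · rw [sum_split hω hω' hu, AF_one, classInner_zero_right, c1,
        Finset.sum_eq_zero fun ψ hψ => c2 ψ (Finset.mem_filter.1 hψ).2]; ring
    · rw [val_ne h1.isClassFunction h.tK t1, sum_split hω hω' hu, AF_one, classInner_zero_right, c1,
        Finset.sum_eq_zero fun ψ hψ => by rw [c2 ψ (Finset.mem_filter.1 hψ).2, zero_mul]]
      rcases h.lin_t ω with c | c <;> rw [c] <;> norm_num
  obtain ⟨a3, a4⟩ := key a ha a1 a2 (by rw [classInner_add_right, ha.inner_self, hab, add_zero])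
  obtain ⟨b3, b4⟩ := key b hb b1 b2 (by rw [classInner_add_right, hb.inner_self, hba, zero_add])
  have c1 : b 1 = -(2 * (1 + ε * k)) - a 1 := by
    have := congrFun e' 1
    rw [AF_at_one] at this
    simp only [Pi.add_apply] at this
    linear_combination -this - d1
  have c2 := h.cF_AF hω
  rw [e', classInner_add_right, classInner_add_right, classInner_add_right, h.cF_inner sirr_one,
    h.cF_inner ha, h.cF_inner hb, h.cF_inner S.irr, S.val h h.tK t1, a4, b4, d1, hi', ← hkdef] at c2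
  have c3 : a 1 = -(1 + ε * k) := by
    have m1 := ha.apply_one_ne_zero
    have m2 := hb.apply_one_ne_zero
    field_simp at c2
    rw [c1] at c2
    have : (1 + 2 * ε * k) * (2 * (a 1 + (1 + ε * k)) ^ 2) = 0 := by
      linear_combination -c2 + (2 * k ^ 2 * a 1 * (-(2 * (1 + ε * k)) - a 1)) * e2
    exact eq_neg_of_add_eq_zero_left (pow_eq_zero_iff two_ne_zero |>.1
      ((mul_eq_zero.1 ((mul_eq_zero.1 this).resolve_left n1)).resolve_left two_ne_zero))
  have c4 : b 1 = -(1 + ε * k) := by rw [c1, c3]; ring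
  have Pa : P a := by
    simp only [P]
    rw [h.cF_inner ha, a1, a2, a3, a4, c3, hi', ← hkdef]
    field_simp; ring
  have Pb : P b := by
    simp only [P]
    rw [h.cF_inner hb, b1, b2, b3, b4, c4, hi', ← hkdef]
    field_simp; ring
  have all : ∀ χ, IsSIrr G χ → P χ := fun χ hχ => by
    by_contra hP
    have z1 : ⟪χ, fun _ => 1⟫ = 0 := by_contra fun z => hP (Pof _ _ sirr_one hχ P1 z)
    have z2 : ⟪χ, σ⟫ = 0 := by_contra fun z => hP (Pof _ _ S.irr hχ Pσ z)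
    have z3 : ⟪χ, a⟫ = 0 := by_contra fun z => hP (Pof _ _ ha hχ Pa z)
    have z4 : ⟪χ, b⟫ = 0 := by_contra fun z => hP (Pof _ _ hb hχ Pb z)
    have z5 : ∀ ψ : Lin K, ⟪χ, AF K ψ⟫ = 0 := fun ψ => by
      by_cases hψ : ψ⁻¹ = ψ
      · rcases hu ψ hψ with rfl | rfl
        · rw [AF_one, classInner_zero_right]
        · simp [e', classInner_add_right, z1, z2, z3, z4]
      obtain ⟨S', E', d⟩ := h.exists_dec hω hω' hψ
      rw [hS ψ S' E' hψ d] at d
      have z : ⟪χ, E'⟫ = 0 := by_contra fun z => hP (Pof _ _ d.hE hχ (PE ψ E' hψ d) z)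
      simp [d.eq, classInner_add_right, z1, z2, z]
    apply hP
    simp only [P]
    rw [h.cF_inner hχ, val_ne hχ.isClassFunction h.tK t1]
    simp [z1, z2, z5]
  have fin : (2 * k) • cF G = (k * ((1 + 2 * ε * k) * (1 + ε))) • (fun _ => 1) +
      (k * (1 - ε + 2 * ε * k)) • σ - (1 + 2 * ε * k) • ∑ φ : Lin K, AF K φ :=
    (h.cF_class.smul _).ext_inner ((((isClassFunction_const 1).smul _).add
      (S.irr.isClassFunction.smul _)).sub ((isClassFunction_sum _ _ fun φ _ =>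
        (AF_gen φ).isClassFunction).smul _)) fun χ hχ => by
      rw [classInner_sub_left, classInner_add_left, classInner_smul_left, classInner_smul_left,
        classInner_smul_left, classInner_smul_left, classInner_sum_left, isGen_one.inner_comm hχ.isGen,
        S.irr.isGen.inner_comm hχ.isGen, Finset.sum_congr rfl fun φ _ => (AF_gen φ).inner_comm hχ.isGen]
      exact all χ hχ.isSIrr
  have := congrFun fin x
  simp only [Pi.sub_apply, Pi.add_apply, Pi.smul_apply, smul_eq_mul, Finset.sum_apply,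
    AF_off _ hx, Finset.sum_const_zero, cF] at this
  exact mul_left_cancel₀ hk (by linear_combination this)

end BSW

end Cfsg.Agent.H7
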