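import Mathlib
import Cfsg.Agent.H7.BSW2

/-! Brauer-Suzuki-Wall theorem III: counting. -/

namespace Cfsg.Agent.H7
open Cfsg Subgroup H3 H2
open scoped ComplexConjugate Classical

theorem numer3 {k a e n p : ℕ} (hk : 2 ≤ k) (h1 : a ≡ 1 [MOD k]) (ho : Odd a) (he : e ∣ k)
    (h : a * e * n = 2 * k * ((1 + 2 * k) * (1 + k))) (hn : a ∣ n - 1) (hp : p.Prime) (hpa : p ∣ a)
    (hpk : p ∣ 1 + 2 * k) : a = 1 + 2 * k ∧ e = k := by
  have c1 : a.Coprime (2 * k) := Nat.Coprime.mul_right ho.coprime_two_right (by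
    rw [Nat.Coprime, h1.gcd_eq]; simp)
  obtain ⟨b, hb⟩ : a ∣ (1 + 2 * k) * (1 + k) := c1.dvd_of_dvd_mul_left ⟨e * n, by rw [← h]; ring⟩
  have a0 : 0 < a := ho.pos
  have b0 : 0 < b := Nat.pos_of_ne_zero (by rintro rfl; simp at hb)
  have n0 : 0 < n := Nat.pos_of_ne_zero (by rintro rfl; simp at h; omega)
  have hek := Nat.le_of_dvd (by omega) he
  have h2 : b ≡ 1 [MOD k] := by
    have : a * b ≡ 1 * b [MOD k] := h1.mul_right b
    rw [one_mul, ← hb] at this
    refine this.symm.trans ?_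
    rw [show (1 + 2 * k) * (1 + k) = 1 + k * (3 + 2 * k) by ring]
    exact Nat.add_mul_mod_self_left _ _ _
  obtain ⟨x, hx⟩ := (Nat.modEq_iff_dvd' a0).1 h1.symm
  obtain ⟨y, hy⟩ := (Nat.modEq_iff_dvd' b0).1 h2.symm
  obtain rfl : a = 1 + k * x := by omega
  obtain rfl : b = 1 + k * y := by omega
  have h3 : x + y + k * (x * y) = 2 * k + 3 :=
    Nat.eq_of_mul_eq_mul_left (show 0 < k by omega) (by nlinarith)
  have h4 : e * n = 2 * k * (1 + k * y) := Nat.eq_of_mul_eq_mul_left a0 (by rw [← mul_assoc, h, hb]; ring)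
  obtain ⟨j, hj⟩ := hn
  obtain rfl : n = 1 + (1 + k * x) * j := by omega
  have x0 : x ≠ 0 := by rintro rfl; exact hp.one_lt.ne' (by simpa using hpa)
  rcases Nat.eq_zero_or_pos y with rfl | y0
  · obtain rfl : x = 2 * k + 3 := by omega
    have e0 : 0 < e := Nat.pos_of_ne_zero (by rintro rfl; omega)
    rcases Nat.eq_zero_or_pos j with rfl | j0
    · omega
    · have : 1 * (1 + (1 + k * (2 * k + 3)) * 1) ≤ e * (1 + (1 + k * (2 * k + 3)) * j) := by
        gcongr <;> omega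
      nlinarith
  have h5 : x * y ≤ 2 := by
    by_contra h5
    have : k * 3 ≤ k * (x * y) := by gcongr; omega
    omega
  have x2 : x ≤ 2 := by nlinarith
  have y2 : y ≤ 2 := by nlinarith [Nat.pos_of_ne_zero x0]
  have x1 := Nat.pos_of_ne_zero x0
  interval_cases x <;> interval_cases y
  · omega
  · refine absurd (Nat.dvd_one.1 ((Nat.dvd_add_right hpk).1 ?_)) hp.one_lt.ne'
    rw [show 1 + 2 * k + 1 = 2 * (1 + k * 1) by ring]
    exact hpa.mul_left 2
  · refine ⟨by ring, ?_⟩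
    have : (1 + 2 * k : ℤ) ∣ 2 * e + 1 := ⟨1 + 2 * k - 2 * e * j, by
      zify at h4; linear_combination 2 * h4⟩
    have := Int.le_of_dvd (by omega) this
    omega
  · omega

theorem numer4 {m e n : ℕ} (h : e * n = 2 * (m + 1) * (2 * m + 1)) (hn : m ∣ n - 1)
    (he : e ≤ m + 1) (h2 : 2 ≤ e) : e = 2 := by
  have n0 : 0 < n := Nat.pos_of_ne_zero (by rintro rfl; simp at h)
  obtain ⟨j, hj⟩ := hn
  obtain rfl : n = 1 + m * j := by omega
  obtain ⟨f, rfl⟩ := Nat.exists_eq_add_of_le h2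
  have : (m : ℤ) ∣ f := ⟨4 * m + 6 - (2 + f) * j, by zify at h; linear_combination h⟩
  rcases Nat.eq_zero_or_pos f with rfl | f0
  · rfl
  · have := Int.le_of_dvd (by omega) this
    omega

theorem lin_map_inv {A : Type*} [Group A] (φ : Lin A) (x : A) : φ x⁻¹ = (φ x)⁻¹ :=
  eq_inv_of_mul_eq_one_left (by rw [← map_mul, inv_mul_cancel, map_one])

variable {G : Type*} [Group G]

theorem InvS_conj {x : G} (h : (InvS x).Nonempty) (g : G) : (InvS (g * x * g⁻¹)).Nonempty := by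
  obtain ⟨u, h1, h2, h3⟩ := h
  refine ⟨g * u * g⁻¹, (ord_conj g u).trans h1, ?_, fun e => h3 (by simpa using e)⟩
  calc g * u * g⁻¹ * (g * x * g⁻¹) * (g * u * g⁻¹)⁻¹ = g * (u * x * u⁻¹) * g⁻¹ := by group
    _ = _ := by rw [h2]; group

theorem DT.InvS {B : Subgroup G} {u x : G} (h : DT B u) (hx : x ∈ B) : (InvS x).Nonempty :=
  ⟨u, h.ord, h.inv x hx, fun e => h.nm (e ▸ hx)⟩

/-- the conclusion of the Brauer-Suzuki-Wall theorem -/
structure BSWC (Q D : Subgroup G) : Prop where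
  card : 2 * Nat.card G = Nat.card Q * (Nat.card Q + 1) * (Nat.card Q - 1)
  sc : SC Q
  cardD : 2 * Nat.card D + 1 = Nat.card Q
  inf : Q ⊓ D = ⊥
  norm : normalizer (Q : Set G) = Q ⊔ D
  dt : D = ⊥ ∨ ∃ u, DT D u

namespace BSW
variable {t s x y : G} {K : Subgroup G}

theorem two_le [Finite G] (h : BSW t K s) : 2 ≤ Nat.card K := Nat.le_of_dvd Nat.card_pos h.even_K.two_dvd

theorem pos_case [Finite G] (h : BSW t K s)
    (hi : (centralizer ({t} : Set G)).index = (1 + 2 * Nat.card K) * (1 + Nat.card K))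
    (hc : ∀ x, ¬ KT K x → (InvS x).ncard ≡ 1 [MOD Nat.card K]) :
    ∃ Q, BSWC Q K ∧ Nat.card Q = 1 + 2 * Nat.card K := by
  have hk := h.two_le
  obtain ⟨p, hp, hpd⟩ := Nat.exists_prime_and_dvd (show 1 + 2 * Nat.card K ≠ 1 by omega)
  haveI := Fact.mk hp
  obtain ⟨x, hx⟩ := exists_prime_orderOf_dvd_card' (G := G) p (by
    rw [h.card_G, hi]; exact (hpd.mul_right _).mul_left _)
  have n1 : ¬ KT K x := fun e => hp.one_lt.ne' (Nat.dvd_one.1
    ((Nat.dvd_add_left ((hx ▸ e.orderOf_dvd).mul_left 2)).1 hpd))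
  obtain ⟨g, hg⟩ := h.exists_conj_inv (x := x) (Set.nonempty_of_ncard_ne_zero fun e => by
    have := hc x n1
    rw [e, Nat.ModEq, Nat.zero_mod, Nat.one_mod_eq_one.2 (by omega)] at this
    omega)
  rw [← KT.conj_iff g] at n1
  rw [← ord_conj g] at hx
  generalize g * x * g⁻¹ = y at hg n1 hx
  have sc := h.sc n1 h.ht hg
  have e1 := (normalizer (centralizer ({y} : Set G) : Set G)).card_mul_index
  rw [h.card_norm n1 hg, h.card_G, hi] at e1
  obtain ⟨e2, e3⟩ := numer3 hk (h.ncard_InvS n1 h.ht hg ▸ hc y n1) (h.odd_cent n1)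
    (card_dvd_of_le inf_le_right) e1 sc.dvd_index hp
    (hx ▸ orderOf_dvd_natCard _ (mem_centralizer_singleton_iff.2 rfl)) hpd
  have e4 := eq_of_le_of_card_ge inf_le_right e3.ge
  refine ⟨_, ⟨?_, sc, by omega, h.cent_inf n1, by rw [h.norm_eq n1 hg, e4], Or.inr ⟨s, h.dt⟩⟩, e2⟩
  rw [h.card_G, hi, e2, Nat.add_sub_cancel_left]; ring

theorem card_KT [Fintype G] (h : BSW t K s) : (Finset.univ.filter fun x => KT K x ∧ x ≠ 1).card =
    (centralizer ({t} : Set G)).index * (Nat.card K - 1) := by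
  letI := Fintype.ofFinite K
  haveI := h.isComm
  have h1 : ∀ x, ∑ φ : Lin K, AF K φ x = if KT K x ∧ x ≠ 1 then 2 * (Nat.card K : ℂ) else 0 := fun x => by
    split_ifs with a
    · obtain ⟨⟨g, hg⟩, x1⟩ := a
      have y1 : (⟨_, hg⟩ : K) ≠ 1 := fun e => conj_ne_one x1 (congrArg Subtype.val e)
      rw [Finset.sum_congr rfl fun φ _ => ((AF_gen φ).isClassFunction.conj_apply x g).symm.trans
        ((h.AF_res φ ⟨_, hg⟩).trans (by rw [Lin.inv_apply, ← lin_map_inv])), Finset.sum_sub_distrib,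
        Finset.sum_sub_distrib, sum_lin y1, sum_lin (inv_ne_one.2 y1), Finset.sum_const, card_univ_lin]
      simp; ring
    · refine Finset.sum_eq_zero fun φ _ => ?_
      by_cases e : x = 1
      · rw [e, AF_at_one]
      · exact AF_off φ fun b => a ⟨b, e⟩
  have h2 : ⟪∑ φ : Lin K, AF K φ, fun _ => 1⟫ = Nat.card K - 1 := by
    rw [classInner_sum_left, sum_ne_one _ (fun _ => 1) (by rw [AF_one, classInner_zero_left])
      fun φ hφ => by rw [(AF_gen φ).inner_comm isGen_one, inner_one_AF hφ], Finset.sum_const,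
      card_univ_lin, nsmul_eq_mul, mul_one]
  have h3 := card_mul_classInner (∑ φ : Lin K, AF K φ) fun _ => 1
  simp only [h2, Finset.sum_apply, h1, map_one, mul_one, ← Finset.sum_filter, Finset.sum_const,
    nsmul_eq_mul, h.card_G] at h3
  have hk : (2 * Nat.card K : ℂ) ≠ 0 := mul_ne_zero two_ne_zero card_ne_zero
  have : ((Finset.univ.filter fun x => KT K x ∧ x ≠ 1).card : ℂ) =
      ((centralizer ({t} : Set G)).index * (Nat.card K - 1) : ℕ) := by
    rw [Nat.cast_mul, Nat.cast_sub Nat.card_pos]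
    push_cast at h3 ⊢
    exact mul_left_cancel₀ hk (by linear_combination -h3)
  exact_mod_cast this

theorem sum_split3 [Fintype G] (K : Subgroup G) {M : Type*} [AddCommMonoid M] (f : G → M) :
    ∑ x, f x = f 1 + ∑ x with KT K x ∧ x ≠ 1, f x + ∑ x with ¬ KT K x, f x := by
  rw [← Finset.sum_filter_add_sum_filter_not Finset.univ (KT K),
    ← Finset.add_sum_erase _ _ (Finset.mem_filter.2 ⟨Finset.mem_univ 1, KT.of_mem K.one_mem⟩)]
  congr 3
  ext x; simp [and_comm]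

theorem neg_count [Fintype G] (h : BSW t K s) {m : ℕ} (hm : Nat.card K = m + 1)
    (hi : (centralizer ({t} : Set G)).index = (2 * m + 1) * m) {σ : G → ℂ} (hσ : IsSIrr G σ)
    (h1 : ⟪σ, fun _ => 1⟫ = 0) (hK : ∀ x ∈ K, x ≠ 1 → σ x = 1) (hd : σ 1 = -(2 * m + 1))
    (hc : ∀ x, ¬ KT K x → ((InvS x).ncard : ℂ) = -(m * σ x)) :
    (∀ x, ¬ KT K x → (InvS x).Nonempty → (InvS x).ncard = m) ∧
      {x | ¬ KT K x ∧ ¬ (InvS x).Nonempty}.ncard = 4 * (m + 1) * m ∧
      (m ≠ 1 → ∃ x, ¬ KT K x ∧ (InvS x).Nonempty) := by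
  have m0 : m ≠ 0 := by have := h.two_le; omega
  have m0' : (m : ℂ) ≠ 0 := Nat.cast_ne_zero.2 m0
  have hex : ∀ x, ∃ n : ℕ, ¬ KT K x → (InvS x).ncard = m * n ∧ σ x = -n := fun x => by
    by_cases hx : KT K x
    · exact ⟨0, fun a => absurd hx a⟩
    have e : ((InvS x).ncard : ℂ) / m = -σ x := by rw [hc x hx]; field_simp
    obtain ⟨n, hn⟩ := nat_dvd_of_isIntegral_div m0 (e ▸ (hσ.isGen.isIntegral x).neg)
    refine ⟨n, fun _ => ⟨hn, ?_⟩⟩
    rw [hn, Nat.cast_mul, mul_div_cancel_left₀ _ m0'] at e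
    rw [e, neg_neg]
  choose n hn using hex
  have hW : ∀ x ∈ Finset.univ.filter fun x => KT K x ∧ x ≠ 1, σ x = 1 := fun x hx => by
    obtain ⟨⟨g, hg⟩, x1⟩ := (Finset.mem_filter.1 hx).2
    rw [← hσ.isClassFunction.conj_apply x g, hK _ hg (conj_ne_one x1)]
  have cW := h.card_KT
  rw [hi, hm, Nat.add_sub_cancel] at cW
  have cG := h.card_G
  rw [hi, hm] at cG
  set T := Finset.univ.filter fun x => ¬ KT K x with hT
  have s1 := card_mul_classInner σ fun _ => 1
  simp only [h1, map_one, mul_one, mul_zero] at s1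
  rw [sum_split3 K, hd, Finset.sum_congr rfl hW, Finset.sum_congr rfl fun x hx =>
    (hn x (Finset.mem_filter.1 hx).2).2, Finset.sum_const, cW, Finset.sum_neg_distrib] at s1
  have s2 := card_mul_classInner σ σ
  have a1 : ∑ x with KT K x ∧ x ≠ 1, σ x * conj (σ x) = ∑ x with KT K x ∧ x ≠ 1, 1 :=
    Finset.sum_congr rfl fun x hx => by rw [hW x hx]; simp
  have a2 : ∑ x with ¬ KT K x, σ x * conj (σ x) = ∑ x ∈ T, (n x : ℂ) ^ 2 :=
    Finset.sum_congr rfl fun x hx => by rw [(hn x (Finset.mem_filter.1 hx).2).2]; simp [sq]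
  rw [hσ.inner_self, sum_split3 K, hd, a1, a2, Finset.sum_const, cW, cG] at s2
  simp only [map_neg, map_add, map_mul, map_natCast, map_one, map_ofNat, nsmul_eq_mul] at s1 s2
  have s3 : ∑ x ∈ T, (n x : ℤ) = (2 * m + 1) * (m * m - 1) := by
    have : ∑ x ∈ T, (n x : ℂ) = (2 * m + 1) * (m * m - 1) := by push_cast at s1; linear_combination s1
    exact_mod_cast this
  have s4 : ∑ x ∈ T, ((n x : ℤ) ^ 2 - n x) = 0 := by
    have : ∑ x ∈ T, (n x : ℂ) ^ 2 = (2 * m + 1) * (m * m - 1) := by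
      push_cast at s2; linear_combination -s2
    rw [Finset.sum_sub_distrib, s3, sub_eq_zero]
    exact_mod_cast this
  have s5 : ∀ x, ¬ KT K x → n x = 0 ∨ n x = 1 := fun x hx => by
    have := (Finset.sum_eq_zero_iff_of_nonneg fun x _ => by nlinarith [Int.le_self_sq (n x : ℤ)]).1 s4 x
      (Finset.mem_filter.2 ⟨Finset.mem_univ _, hx⟩)
    have : (n x : ℤ) * (n x - 1) = 0 := by linear_combination this
    rcases mul_eq_zero.1 this with a | a <;> omega
  have s6 : ∀ x, ¬ KT K x → ((InvS x).Nonempty ↔ n x = 1) := fun x hx => by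
    rw [← Set.ncard_pos, (hn x hx).1]
    rcases s5 x hx with a | a <;> simp [a, Nat.pos_of_ne_zero m0]
  refine ⟨fun x hx e => by rw [(hn x hx).1, (s6 x hx).1 e, mul_one], ?_, fun m1 => ?_⟩
  · have s7 := sum_split3 K (fun _ : G => (1 : ℤ))
    simp only [Finset.sum_const, Finset.card_univ, ← Nat.card_eq_fintype_card, cG, cW, nsmul_eq_mul,
      mul_one] at s7
    have s8 : ∑ x ∈ T, (1 - n x : ℤ) = 4 * (m + 1) * m := by
      rw [Finset.sum_sub_distrib, s3, Finset.sum_const, nsmul_eq_mul, mul_one]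
      push_cast at s7; linear_combination -s7
    rw [Finset.sum_congr rfl (g := fun x => if ¬ (InvS x).Nonempty then 1 else 0) fun x hx => by
      have hx' := (Finset.mem_filter.1 hx).2
      rw [s6 x hx']
      rcases s5 x hx' with a | a <;> simp [a], ← Finset.sum_filter, Finset.sum_const, nsmul_eq_mul,
      mul_one, hT, Finset.filter_filter] at s8
    rw [← Set.ncard_coe_finset, Finset.coe_filter_univ] at s8
    exact_mod_cast s8
  · by_contra hc
    push Not at hc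
    rw [Finset.sum_eq_zero fun x hx => by
      have hx' := (Finset.mem_filter.1 hx).2
      have := (s5 x hx').resolve_right fun e => ((s6 x hx').2 e).ne_empty (hc x hx')
      exact_mod_cast this] at s3
    have : (2 : ℤ) ≤ m := by omega
    nlinarith

theorem exists_D [Finite G] (h : BSW t K s) {m : ℕ} (hm : Nat.card K = m + 1)
    (hi : (centralizer ({t} : Set G)).index = (2 * m + 1) * m)
    (ha : ∀ x, ¬ KT K x → (InvS x).Nonempty → (InvS x).ncard = m)
    (hc : m ≠ 1 → ∃ x, ¬ KT K x ∧ (InvS x).Nonempty) :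
    ∃ D : Subgroup G, Nat.card D = m ∧ (D = ⊥ ∨ DT D t) := by
  by_cases m1 : m = 1
  · exact ⟨⊥, by rw [m1, card_bot], Or.inl rfl⟩
  obtain ⟨x, n1, hx⟩ := hc m1
  obtain ⟨g, hg⟩ := h.exists_conj_inv hx
  have hx' := InvS_conj hx g
  rw [← KT.conj_iff g] at n1
  generalize g * x * g⁻¹ = y at hg n1 hx'
  have sc := h.sc n1 h.ht hg
  have c1 := (h.ncard_InvS n1 h.ht hg).symm.trans (ha y n1 hx')
  have e1 := (normalizer (centralizer ({y} : Set G) : Set G)).card_mul_index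
  have m0 : 0 < m := c1 ▸ Nat.card_pos
  rw [h.card_norm n1 hg, h.card_G, hi, c1, hm, mul_assoc] at e1
  have e2 := numer4 (Nat.eq_of_mul_eq_mul_left m0 (e1.trans (by ring))) (c1 ▸ sc.dvd_index)
    (hm ▸ card_le_of_le inf_le_right) (Nat.le_of_dvd Nat.card_pos (h.ht ▸ orderOf_dvd_natCard _
      (mem_inf.2 ⟨mem_norm_cent hg, h.tK⟩)))
  refine ⟨_, c1, Or.inr ⟨h.ht, fun e => ne_one_of_ord h.ht (h.eq_one n1
    (mem_centralizer_singleton_iff.1 e).symm h.ht rfl), h.inverts n1 h.ht (mem_norm_cent hg),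
    fun z hz z1 g hg' => ?_⟩⟩
  have hn := sc.mem_normalizer hz z1 hg'
  obtain ⟨a, ha, e⟩ := h.norm_decomp n1 hg hn
  have e3 : (a⁻¹ * g) ^ 2 = 1 := orderOf_dvd_iff_pow_eq_one.1 (e2 ▸ orderOf_dvd_natCard _
    (mem_inf.2 ⟨mul_mem (inv_mem (le_normalizer ha)) hn, e⟩))
  refine (h.uniq _ e (by rwa [← sq])).imp (fun e' => ?_) fun e' => ?_
  · rwa [← inv_mul_eq_one.1 e']
  · rwa [inv_mul_eq_iff_eq_mul.1 e', mul_assoc, mul_self_of_ord h.ht, mul_one]

theorem U_of_comm [Finite G] (h : BSW t K s) (hx : ¬ KT K x ∧ ¬ (InvS x).Nonempty) (h1 : y ≠ 1)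
    (e : x * y = y * x) : ¬ KT K y ∧ ¬ (InvS y).Nonempty := by
  have a : ¬ KT K y := fun a => hx.1 (h.KT_of_comm a h1 e)
  refine ⟨a, fun ⟨u, u1, u2, _⟩ => hx.2 ⟨u, u1, h.inverts a u1 (mem_norm_cent u2) x
    (mem_centralizer_singleton_iff.2 e), fun e' => hx.1 (e' ▸ h.KT_inv u1)⟩⟩

theorem U_conj (hx : ¬ KT K x ∧ ¬ (InvS x).Nonempty) (e : IsConj x y) :
    ¬ KT K y ∧ ¬ (InvS y).Nonempty := by
  obtain ⟨g, rfl⟩ := isConj_iff.1 e
  exact ⟨fun a => hx.1 ((KT.conj_iff g).1 a), fun a => hx.2 (by simpa [mul_assoc] using InvS_conj a g⁻¹)⟩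

theorem not_conj_inv [Finite G] (h : BSW t K s) (hx : ¬ KT K x ∧ ¬ (InvS x).Nonempty) :
    ¬ IsConj x x⁻¹ := fun e => by
  obtain ⟨g, hg⟩ := isConj_iff.1 e
  have ho := h.odd_cent hx.1
  have c2 : g * g ∈ centralizer ({x} : Set G) := by
    rw [mem_centralizer_singleton_iff, ← mul_inv_eq_iff_eq_mul]
    calc g * g * x * (g * g)⁻¹ = g * (g * x * g⁻¹) * g⁻¹ := by group
      _ = g * x⁻¹ * g⁻¹ := by rw [hg]
      _ = (g * x * g⁻¹)⁻¹ := by group
      _ = x := by rw [hg, inv_inv]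
  obtain ⟨j, hj⟩ := ho.of_dvd_nat (orderOf_dvd_natCard _ c2)
  have c3 : (g * g) ^ j * g * x * ((g * g) ^ j * g)⁻¹ = x⁻¹ := by
    have : Commute ((g * g) ^ j) x := mem_centralizer_singleton_iff.1 (pow_mem c2 j)
    calc _ = (g * g) ^ j * (g * x * g⁻¹) * ((g * g) ^ j)⁻¹ := by group
      _ = _ := by rw [hg, this.inv_right.eq]; group
  have x1 : x ≠ x⁻¹ := fun e' => hx.1 (by
    by_cases e1 : x = 1
    · exact e1 ▸ KT.of_mem K.one_mem
    · exact h.KT_inv (ord_two e1 (mul_eq_one_iff_eq_inv.2 e')))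
  have c4 : orderOf ((g * g) ^ j * g) = 2 := ord_two (fun e' => x1 (by rw [← c3, e']; simp)) (by
    rw [← pow_orderOf_eq_one (g * g), hj, ← sq g, ← pow_mul, ← pow_succ, ← pow_add, ← pow_mul]
    congr 1; ring)
  exact hx.2 ⟨_, c4, c3, fun e' => hx.1 (e' ▸ h.KT_inv c4)⟩

theorem neg_case [Finite G] (h : BSW t K s) {m : ℕ} (hm : Nat.card K = m + 1)
    (hi : (centralizer ({t} : Set G)).index = (2 * m + 1) * m)
    (hb : {x | ¬ KT K x ∧ ¬ (InvS x).Nonempty}.ncard = 4 * (m + 1) * m)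
    {D : Subgroup G} (hD : Nat.card D = m) (hd : D = ⊥ ∨ DT D t) :
    ∃ Q D : Subgroup G, BSWC Q D ∧ Nat.card Q = 2 * m + 1 := by
  have m0 : 0 < m := hD ▸ Nat.card_pos
  have mo : Odd m := by have := h.even_K; rw [hm] at this; exact Nat.odd_iff.2 (by grind)
  have cG : Nat.card G = (2 * m + 1) * (2 * (m + 1) * m) := by rw [h.card_G, hi, hm]; ring
  have iK : K.index = 2 * ((2 * m + 1) * m) := by rw [h.index_K, hi]
  have iD : D.index = 2 * (m + 1) * (2 * m + 1) := by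
    have := D.card_mul_index
    rw [hD, cG] at this
    exact Nat.eq_of_mul_eq_mul_left m0 (this.trans (by ring))
  have co1 : (m + 1).Coprime ((2 * m + 1) * m) := Nat.Coprime.mul_right (by
    rw [show 2 * m + 1 = m + (m + 1) by ring]; simp) (by simp)
  have co2 : m.Coprime (2 * (m + 1) * (2 * m + 1)) :=
    (mo.coprime_two_right.mul_right (by simp)).mul_right (by simp)
  have hB : ∀ r : ℕ, r.Prime → r ≠ 2 → r ∣ 2 * (m + 1) * m →
      ¬ r ∣ K.index ∨ DT D t ∧ ¬ r ∣ D.index := fun r hr r2 hd' => by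
    have n2 : ¬ r ∣ 2 := fun e => r2 ((Nat.prime_dvd_prime_iff_eq hr Nat.prime_two).1 e)
    rcases hr.dvd_mul.1 hd' with a | a
    · refine Or.inl fun b => ?_
      rw [iK, hr.dvd_mul] at b
      exact hr.one_lt.ne' (Nat.eq_one_of_dvd_coprimes co1 ((hr.dvd_mul.1 a).resolve_left n2)
        (b.resolve_left n2))
    · refine Or.inr ⟨hd.resolve_left fun e => hr.one_lt.ne' (Nat.dvd_one.1 ?_), fun b =>
        hr.one_lt.ne' (Nat.eq_one_of_dvd_coprimes co2 a (iD ▸ b))⟩
      rwa [← hD, e, card_bot] at a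
  have U2 : ∀ x, ¬ KT K x ∧ ¬ (InvS x).Nonempty → Nat.card (centralizer ({x} : Set G)) ∣ 2 * m + 1 :=
    fun x hx => by
      refine Nat.Coprime.dvd_of_dvd_mul_right (Nat.coprime_of_dvd fun r hr h1 h2 => ?_)
        (cG ▸ card_subgroup_dvd_card _)
      haveI := Fact.mk hr
      obtain ⟨⟨y, hy⟩, ho⟩ := exists_prime_orderOf_dvd_card' r h1
      rw [← orderOf_coe] at ho
      change orderOf y = r at ho
      have hU := h.U_of_comm hx (fun e => hr.one_lt.ne' (by rw [← ho, e, orderOf_one]))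
        (mem_centralizer_singleton_iff.1 hy).symm
      rcases hB r hr (fun e => hU.1 (h.KT_inv (ho.trans e))) h2 with a | ⟨a, b⟩
      · exact hU.1 (KT.of_index hr a ho)
      · obtain ⟨g, hg⟩ := KT.of_index hr b ho
        exact (U_conj hU (isConj_iff.2 ⟨g, rfl⟩)).2 (a.InvS hg)
  have U3 : ∀ x, ¬ KT K x ∧ ¬ (InvS x).Nonempty → Nat.card (centralizer ({x} : Set G)) = 2 * m + 1 ∧
      ∀ y, ¬ KT K y ∧ ¬ (InvS y).Nonempty → orderOf y = orderOf x := fun x hx => by
    have hx' : ¬ KT K x⁻¹ ∧ ¬ (InvS x⁻¹).Nonempty := h.U_of_comm hx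
      (fun e => hx.1 (inv_eq_one.1 e ▸ KT.of_mem K.one_mem)) (by simp)
    have key : ∀ x, ¬ KT K x ∧ ¬ (InvS x).Nonempty → 2 * (m + 1) * m ≤ {y | IsConj x y}.ncard ∧
        ({y | IsConj x y}.ncard = 2 * (m + 1) * m →
          Nat.card (centralizer ({x} : Set G)) = 2 * m + 1) := fun x hx => by
      have e1 := card_class_mul x
      change {y | IsConj x y}.ncard * _ = _ at e1
      rw [cG] at e1
      refine ⟨Nat.le_of_mul_le_mul_right (e1.ge.trans' (by rw [mul_comm]) |>.trans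
        (Nat.mul_le_mul_left _ (Nat.le_of_dvd (by omega) (U2 x hx)))) (by omega), fun e => ?_⟩
      rw [e, mul_comm] at e1
      exact Nat.eq_of_mul_eq_mul_right (by positivity) e1
    have sub : {y | IsConj x y} ∪ {y | IsConj x⁻¹ y} ⊆ {x | ¬ KT K x ∧ ¬ (InvS x).Nonempty} :=
      Set.union_subset (fun y hy => U_conj hx hy) fun y hy => U_conj hx' hy
    have e2 := Set.ncard_union_eq (s := {y | IsConj x y}) (t := {y | IsConj x⁻¹ y})
      (Set.disjoint_left.2 fun y a b => h.not_conj_inv hx (IsConj.trans a (IsConj.symm b)))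
    have e3 := Set.ncard_le_ncard sub
    have k1 := key x hx
    have k2 := (key _ hx').1
    have e4 : 4 * (m + 1) * m = 2 * (m + 1) * m + 2 * (m + 1) * m := by ring
    refine ⟨k1.2 (by omega), fun y hy => ?_⟩
    rcases (Set.eq_of_subset_of_ncard_le sub (by omega)).ge hy with a | a
    · obtain ⟨g, rfl⟩ := isConj_iff.1 a; exact ord_conj g x
    · obtain ⟨g, rfl⟩ := isConj_iff.1 a; rw [ord_conj, orderOf_inv]
  obtain ⟨x, hx⟩ : {x | ¬ KT K x ∧ ¬ (InvS x).Nonempty}.Nonempty :=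
    Set.nonempty_of_ncard_ne_zero (by rw [hb]; positivity)
  obtain ⟨p, hp, hpd⟩ := Nat.exists_prime_and_dvd (show 2 * m + 1 ≠ 1 by omega)
  haveI := Fact.mk hp
  obtain ⟨⟨y, hy⟩, ho⟩ := exists_prime_orderOf_dvd_card' p ((U3 x hx).1 ▸ hpd)
  rw [← orderOf_coe] at ho
  change orderOf y = p at ho
  have y1 : y ≠ 1 := fun e => hp.one_lt.ne' (by rw [← ho, e, orderOf_one])
  have hy' := h.U_of_comm hx y1 (mem_centralizer_singleton_iff.1 hy).symm
  have np : ¬ p ∣ 2 * (m + 1) * m := fun e => hp.one_lt.ne' (Nat.eq_one_of_dvd_coprimes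
    (show (2 * m + 1).Coprime (2 * (m + 1) * m) from
      ((by simp : (2 * m + 1).Coprime 2).mul_right co1.coprime_mul_right_right.symm).mul_right (by simp))
    hpd e)
  have syl : ∀ z, ¬ KT K z ∧ ¬ (InvS z).Nonempty → ∃ P : Sylow p G,
      (P : Subgroup G) = centralizer ({z} : Set G) := fun z hz => by
    have a : IsPGroup p (centralizer ({z} : Set G)) := isPGroup_iff_forall.2 fun w hw => ⟨1, by
      by_cases e : w = 1
      · simp [e]
      · rw [pow_one, ← ho, ← (U3 y hy').2 w (h.U_of_comm hz e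
          (mem_centralizer_singleton_iff.1 hw).symm), pow_orderOf_eq_one]⟩
    refine ⟨a.toSylow fun b => np ?_, rfl⟩
    have := (centralizer ({z} : Set G)).card_mul_index
    rw [(U3 z hz).1, cG] at this
    rwa [← Nat.eq_of_mul_eq_mul_left (by omega) this]
  obtain ⟨P, hP⟩ := syl y hy'
  have cP : Nat.card (P : Subgroup G) = 2 * m + 1 := by rw [hP, (U3 y hy').1]
  have U4 : ∀ T : Subgroup G, IsPGroup p T → ∀ z ∈ T, z ≠ 1 → ¬ KT K z ∧ ¬ (InvS z).Nonempty :=
    fun T hT z hz z1 => by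
      obtain ⟨g, hg⟩ := exists_cj_le_sylow P hT
      have := hg (conj_mem_cj g hz)
      rw [hP] at this
      exact U_conj (h.U_of_comm hy' (conj_ne_one z1) (mem_centralizer_singleton_iff.1 this).symm)
        (isConj_iff.2 ⟨g, rfl⟩).symm
  have odd : ∀ T : Subgroup G, T ≠ ⊥ → IsPGroup p T → Odd (Nat.card (normalizer (T : Set G))) :=
    fun T T1 hT => by
      rw [← Nat.not_even_iff_odd]
      intro he
      obtain ⟨⟨u, hu⟩, uo⟩ := exists_prime_orderOf_dvd_card' 2 he.two_dvd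
      rw [← orderOf_coe] at uo
      change orderOf u = 2 at uo
      obtain ⟨⟨z, hz⟩, z1⟩ := ne_bot_iff_exists_ne_one.1 T1
      have hU := U4 T hT z hz fun e => z1 (Subtype.ext e)
      refine hU.2 ⟨u, uo, (L.inverts_of_involution (mul_self_of_ord uo) hu (eq_bot_iff.2 fun w hw => ?_)).1
        z hz, fun e => hU.1 (e ▸ h.KT_inv uo)⟩
      by_contra w1
      exact (U4 T hT w hw.1 w1).1 (h.KT_of_comm (h.KT_inv uo) (ne_one_of_ord uo)
        (mem_centralizer_singleton_iff.1 hw.2))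
  have ti := sylow_eq_of_closed (G := G) (p := p) fun T T1 hT => sylow_normal_of_burnside
    fun r hr rp R g hg => by
      haveI := Fact.mk hr
      have go : Odd (orderOf (g : G)) := (odd T T1 hT).of_dvd_nat (orderOf_dvd_natCard _ g.2)
      by_cases R1 : (R : Subgroup (normalizer (T : Set G))) = ⊥
      · intro w hw; rw [R1] at hw; rw [mem_bot.1 hw]; simp
      have d1 : r ∣ Nat.card (normalizer (T : Set G)) :=
        ((R.isPGroup'.card_eq_or_dvd).resolve_left (card_eq_one.not.2 R1)).trans (card_subgroup_dvd_card _)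
      have d2 : r ∣ 2 * (m + 1) * m := by
        refine (hr.dvd_mul.1 (cG ▸ d1.trans (card_subgroup_dvd_card _))).resolve_left fun e => rp ?_
        obtain ⟨j, hj⟩ := IsPGroup.iff_card.1 P.isPGroup'
        rw [← cP, hj] at e
        exact (Nat.prime_dvd_prime_iff_eq hr hp).1 (hr.dvd_of_dvd_pow e)
      obtain ⟨B, u, hB1, hB2⟩ : ∃ B u, DT B u ∧ ¬ r ∣ B.index := by
        rcases hB r hr (fun e => Nat.not_even_iff_odd.2 (odd T T1 hT) (even_iff_two_dvd.2 (e ▸ d1))) d2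
          with a | a
        exacts [⟨K, s, h.dt, a⟩, ⟨D, t, a⟩]
      obtain ⟨c, hc⟩ := exists_cj_le_of_index hB2 (R.isPGroup'.map (normalizer (T : Set G)).subtype)
      have := (hB1.cj c).cent_of_odd hc (le_normalizer_map _ ⟨g, hg, rfl⟩) go
      exact fun w hw => Subtype.ext (this w ⟨w, hw, rfl⟩)
  have sc : SC (P : Subgroup G) := fun z hz z1 => by
    obtain ⟨P', hP'⟩ := syl z (U4 _ P.isPGroup' z hz z1)
    rw [← hP', ti (zpowers y) (zpowers_ne_bot.2 y1) P' P (zpowers_le_of_mem (hP' ▸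
      mem_centralizer_singleton_iff.2 (mem_centralizer_singleton_iff.1 (hP ▸ hz)).symm))
      (zpowers_le_of_mem (hP ▸ mem_centralizer_singleton_iff.2 rfl))]
  have P1 : (P : Subgroup G) ≠ ⊥ := fun e => by rw [e, card_bot] at cP; omega
  have e1 := card_sylow_mul_card_normalizer P
  obtain ⟨c, hc⟩ := card_dvd_of_le (le_normalizer (H := (P : Subgroup G)))
  have hn : Nat.card (Sylow p G) = 2 * m + 1 + 1 := by
    obtain ⟨j, hj⟩ := cP ▸ sc.dvd_card_sylow
    have n0 : 0 < Nat.card (Sylow p G) := Nat.card_pos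
    have e2 : Nat.card (Sylow p G) = 1 + (2 * m + 1) * j := by omega
    have e3 := odd _ P1 P.isPGroup'
    rw [hc, cP, cG, e2] at e1
    have e4 : (1 + (2 * m + 1) * j) * c = 2 * (m + 1) * m :=
      Nat.eq_of_mul_eq_mul_left (show 0 < 2 * m + 1 by omega) (by rw [← e1]; ring)
    have e5 : (2 * m + 1 : ℤ) ∣ 2 * c + 1 := ⟨2 * m + 1 - 2 * j * c, by zify at e4; linear_combination 2 * e4⟩
    have e6 := Int.le_of_dvd (by omega) e5
    rcases Nat.lt_trichotomy j 1 with a | a | a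
    · obtain rfl : j = 0 := by omega
      rw [hc] at e3
      have := (Nat.odd_mul.1 e3).2
      rw [show c = 2 * ((m + 1) * m) by linarith] at this
      exact absurd (even_two_mul _) (Nat.not_even_iff_odd.2 this)
    · rw [e2, a]; ring
    · have : (1 + (2 * m + 1) * 2) * m ≤ (1 + (2 * m + 1) * j) * c := by gcongr <;> omega
      nlinarith
  have cN : Nat.card (normalizer ((P : Subgroup G) : Set G)) = m * (2 * m + 1) := by
    rw [hn, cG] at e1
    exact Nat.eq_of_mul_eq_mul_left (show 0 < 2 * m + 1 + 1 by omega) (e1.trans (by ring))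
  obtain ⟨D', c1, c2, c3⟩ : ∃ D' : Subgroup G, Nat.card D' = m ∧ (D' = ⊥ ∨ ∃ u, DT D' u) ∧
      D' ≤ normalizer ((P : Subgroup G) : Set G) := by
    by_cases m1 : m = 1
    · exact ⟨⊥, by rw [m1, card_bot], Or.inl rfl, bot_le⟩
    have hd' := hd.resolve_left fun e => m1 (by rw [← hD, e, card_bot])
    obtain ⟨r, hr, hrd⟩ := Nat.exists_prime_and_dvd m1
    haveI := Fact.mk hr
    obtain ⟨⟨w, hw⟩, wo⟩ := exists_prime_orderOf_dvd_card' r (cN ▸ hrd.mul_right _)
    rw [← orderOf_coe] at wo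
    change orderOf w = r at wo
    obtain ⟨g, hg⟩ := KT.of_index hr (K := D) (fun b => hr.one_lt.ne'
      (Nat.eq_one_of_dvd_coprimes co2 hrd (iD ▸ b))) wo
    have hw' : w ∈ cj g⁻¹ D := by rwa [mem_cj, inv_inv]
    have dt := hd'.cj g⁻¹
    refine ⟨_, (card_cj _ _).trans hD, Or.inr ⟨_, dt⟩, fun d hd => ?_⟩
    have z := sc.z3 (cP ▸ hn)
    have f0 := Sylow.smul_eq_iff_mem_normalizer.2 hw
    have f1 : ∀ d ∈ cj g⁻¹ D, w • d • P = d • P := fun d hd => by
      rw [← mul_smul, dt.comm w hw' d hd, mul_smul, f0]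
    by_contra hne
    have ne1 : d • P ≠ P := fun e => hne (Sylow.smul_eq_iff_mem_normalizer.1 e)
    refine hr.one_lt.ne' (wo ▸ orderOf_eq_one_iff.2 (z.three w P (d • P) ((d ^ 2) • P) ne1.symm
      (fun e => ne1 ?_) (fun e => hne ?_) f0 (f1 d hd) (f1 _ (pow_mem hd 2))))
    · rw [sq, mul_smul, smul_left_cancel_iff] at e; exact e.symm
    · exact zpowers_le_of_mem (Sylow.smul_eq_iff_mem_normalizer.1 e.symm) (mem_zpowers_sq_of_odd
        (mo.of_dvd_nat (((card_cj _ _).trans hD) ▸ orderOf_dvd_natCard _ hd)))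
  have inf : D' ⊓ P = ⊥ := inf_eq_bot_of_coprime (by rw [c1, cP]; simp)
  refine ⟨P, D', ⟨by rw [cG, cP, Nat.add_sub_cancel]; ring, sc, by omega, by rwa [inf_comm],
    (eq_of_le_of_card_ge (sup_le le_normalizer c3) ?_).symm, c2⟩, cP⟩
  rw [cN, sup_comm, H1.card_sup_of_disjoint c3 inf, c1, cP]

/-- The Brauer-Suzuki-Wall theorem. -/
theorem exists_BSWC [Finite G] (h : BSW t K s) : ∃ Q D : Subgroup G, BSWC Q D ∧
    (Nat.card Q = 2 * Nat.card K + 1 ∨ Nat.card Q + 1 = 2 * Nat.card K) := by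
  letI := Fintype.ofFinite G
  letI := Fintype.ofFinite K
  obtain ⟨σ, ε, h1, h2, h3, hε, h4, h5, h6⟩ := h.main
  have hk : (Nat.card K : ℂ) ≠ 0 := card_ne_zero
  rcases hε with rfl | rfl
  · obtain ⟨Q, a, b⟩ := h.pos_case (by zify; linear_combination h5) fun x hx => by
      have e : (((InvS x).ncard - 1 - 2 * Nat.card K : ℤ) : ℂ) / (Nat.card K : ℤ) = σ x := by
        have := h6 x hx
        push_cast at this ⊢
        field_simp
        linear_combination this / 2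
      obtain ⟨c, hc⟩ := int_dvd_of_isIntegral_div (by exact_mod_cast Nat.card_pos.ne')
        (e ▸ h1.isGen.isIntegral x)
      exact (Nat.modEq_iff_dvd.2 ⟨c + 2, by push_cast; linear_combination hc⟩).symm
    exact ⟨Q, K, a, Or.inl (by omega)⟩
  · obtain ⟨m, hm⟩ : ∃ m, Nat.card K = m + 1 := ⟨_, (Nat.succ_pred_eq_of_pos Nat.card_pos).symm⟩
    have hi : (centralizer ({t} : Set G)).index = (2 * m + 1) * m := by
      rw [hm] at h5; zify; push_cast at h5; linear_combination h5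
    obtain ⟨a, b, c⟩ := h.neg_count hm hi h1 h2 h3 (by rw [h4, hm]; push_cast; ring) fun x hx => by
      have := h6 x hx
      rw [hm] at this
      push_cast at this
      linear_combination this / 2
    obtain ⟨D, d1, d2⟩ := h.exists_D hm hi a c
    obtain ⟨Q, D', e1, e2⟩ := h.neg_case hm hi b d1 d2
    exact ⟨Q, D', e1, Or.inr (by omega)⟩

end BSW

end Cfsg.Agent.H7
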