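import Mathlib
import Cfsg.Agent.H7.BSW3
import Cfsg.Agent.H7.Zass6
import Cfsg.Agent.H2.MCF

/-! Brauer-Suzuki-Wall theorem IV: recognition and applications. -/

namespace Cfsg.Agent.H7
open Cfsg Subgroup H2
open scoped MatrixGroups

variable {G : Type*} [Group G] [Finite G]

namespace BSWC
variable {Q D : Subgroup G}

theorem three_le (c : BSWC Q D) : 3 ≤ Nat.card Q := by
  have := c.cardD; have : 0 < Nat.card D := Nat.card_pos; omega

theorem le_norm (c : BSWC Q D) : D ≤ normalizer (Q : Set G) := c.norm ▸ le_sup_right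

theorem fpf (c : BSWC Q D) : L.FPF Q D := L.FPF.of_forall fun x hx x1 y hy e => by
  by_contra y1
  exact x1 (mem_bot.1 (c.inf.le ⟨c.sc.mem hy y1 e, hx⟩))

theorem exists_sylow (c : BSWC Q D) : ∃ (p : ℕ) (_ : Fact p.Prime) (P : Sylow p G),
    (P : Subgroup G) = Q ∧ Nat.card (Sylow p G) = Nat.card Q + 1 := by
  have h3 := c.three_le
  have hD := c.cardD
  obtain ⟨p, hp, hpd⟩ := Nat.exists_prime_and_dvd (show Nat.card Q ≠ 1 by omega)
  haveI := Fact.mk hp
  obtain ⟨R, hR⟩ := exists_sylIn p Q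
  have hn : D ≤ normalizer (R : Set G) := fun d hd => by
    obtain ⟨g, hg, e⟩ := hR.exists_cj_eq (hR.cj_of_mem_normalizer (c.le_norm hd))
    rw [mem_normalizer_iff_cj, ← e]
    exact cj_eq_of_mem_normalizer (centralizer_le_normalizer _ fun x hx => c.sc.comm (hR.le hx) hg)
  have R1 : R ≠ ⊥ := fun e => hR.not_dvd_relIndex (by rwa [e, relIndex_bot_left])
  have h1 := (c.fpf.mono hR.le le_rfl).card_lt hn R1
  obtain ⟨j, hj⟩ := card_dvd_of_le hR.le
  have e : R = Q := eq_of_le_of_card_ge hR.le (by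
    rcases Nat.lt_trichotomy j 1 with a | a | a
    · obtain rfl : j = 0 := by omega
      omega
    · rw [hj, a, mul_one]
    · nlinarith)
  have cN : Nat.card (normalizer (Q : Set G)) = Nat.card D * Nat.card Q := by
    rw [c.norm, sup_comm, H1.card_sup_of_disjoint c.le_norm (by rw [inf_comm, c.inf])]
  have cG : Nat.card G = (Nat.card Q + 1) * (Nat.card D * Nat.card Q) := by
    have := c.card
    rw [show Nat.card Q - 1 = 2 * Nat.card D by omega] at this
    linarith
  have hi : ¬ p ∣ Q.index := fun a => by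
    have := Q.card_mul_index
    rw [cG] at this
    rw [Nat.eq_of_mul_eq_mul_left (m := Q.index) (k := (Nat.card Q + 1) * Nat.card D) (by omega)
      (this.trans (by ring)), hp.dvd_mul] at a
    refine hp.one_lt.ne' (Nat.dvd_one.1 ?_)
    rcases a with a | a
    · exact (Nat.dvd_add_right hpd).1 a
    · exact (Nat.dvd_add_right (a.mul_left 2)).1 (hD ▸ hpd)
  refine ⟨p, inferInstance, (e ▸ hR.pgrp).toSylow hi, rfl, ?_⟩
  have := card_sylow_mul_card_normalizer ((e ▸ hR.pgrp : IsPGroup p Q).toSylow hi)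
  change _ * Nat.card (normalizer (Q : Set G)) = _ at this
  rw [cN, cG] at this
  exact Nat.eq_of_mul_eq_mul_right (Nat.mul_pos Nat.card_pos Nat.card_pos) this

theorem psl (c : BSWC Q D) (hG : commutator G = ⊤) (F : Type*) [Field F] [Fintype F]
    (hF : Fintype.card F = Nat.card Q) : Nonempty (G ≃* PSL(2, F)) := by
  obtain ⟨p, _, P, rfl, hn⟩ := c.exists_sylow
  exact c.sc.psl hG hn F hF (by rw [c.card, hF, mul_assoc, ← Nat.sq_sub_sq, one_pow])

theorem exists_field (c : BSWC Q D) : ∃ (F : Type) (_ : Field F) (_ : Fintype F),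
    Fintype.card F = Nat.card Q := by
  obtain ⟨p, hp, P, rfl, -⟩ := c.exists_sylow
  obtain ⟨n, hn⟩ := IsPGroup.iff_card.1 P.isPGroup'
  obtain ⟨F, _, _, h, -⟩ := exists_field_card hp.out (f := n) (Nat.pos_of_ne_zero (by
    rintro rfl; have := c.three_le; rw [hn] at this; simp at this))
  exact ⟨F, inferInstance, inferInstance, h.trans hn.symm⟩

theorem eq_top (c : BSWC Q D) (hD : D ≠ ⊥) (N : Subgroup G) [hN : N.Normal]
    (h : ∀ u, orderOf u = 2 → u ∈ N) : N = ⊤ := by
  obtain ⟨u, d⟩ := c.dt.resolve_left hD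
  have h1 : D ≤ N := fun x hx => by
    have := N.mul_mem (h _ (d.ord_of (g := x * u) (by
      rwa [mul_assoc, mul_self_of_ord d.ord, mul_one]))) (N.inv_mem (h u d.ord))
    rwa [mul_inv_cancel_right] at this
  obtain ⟨⟨x, hx⟩, x1⟩ := ne_bot_iff_exists_ne_one.1 hD
  have h2 : Q ≤ N := fun y hy => by
    obtain ⟨k, hk⟩ := (L.bijective_commutator_of_centralizer (c.le_norm hx)
      (c.fpf x hx fun e => x1 (Subtype.ext e))).2 ⟨y, hy⟩
    have := N.mul_mem (hN.conj_mem x (h1 hx) k) (N.inv_mem (h1 hx))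
    rw [← show _ = y from congrArg Subtype.val hk]
    convert this using 1; group
  obtain ⟨p, _, P, rfl, -⟩ := c.exists_sylow
  rw [← Sylow.normalizer_sup_eq_top' P h2, eq_comm, sup_eq_right]
  exact c.norm.le.trans (sup_le h2 h1)

end BSWC

namespace BSW
variable {t s : G} {K : Subgroup G}

omit [Finite G] in
theorem mem_commutator (h : BSW t K s) (u : G) (hu : orderOf u = 2) : u ∈ commutator G := by
  have key : ∀ u, orderOf u = 2 → Abelianization.of u = Abelianization.of t := fun u hu => by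
    obtain ⟨g, rfl⟩ := isConj_iff.1 (h.conj u hu); simp
  have h1 := key (t * s) (h.dt.ord_of (by
    rw [mul_assoc, mul_self_of_ord h.dt.ord, mul_one]; exact h.tK))
  rw [map_mul, key s h.dt.ord, mul_eq_left] at h1
  exact (QuotientGroup.eq_one_iff u).1 ((key u hu).trans h1)

theorem exists_psl (h : BSW t K s) (hk : 2 < Nat.card K ∨ commutator G = ⊤) :
    ∃ q : ℕ, (q = 2 * Nat.card K + 1 ∨ q + 1 = 2 * Nat.card K) ∧ 2 * Nat.card G = q * (q + 1) * (q - 1) ∧
      (∃ (F : Type) (_ : Field F) (_ : Fintype F), Fintype.card F = q) ∧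
      ∀ (F : Type) [Field F] [Fintype F], Fintype.card F = q → Nonempty (G ≃* PSL(2, F)) := by
  obtain ⟨Q, D, c, hq⟩ := h.exists_BSWC
  refine ⟨_, hq, c.card, c.exists_field, fun F _ _ hF => c.psl (hk.elim (fun hk => c.eq_top (fun e => ?_) _
    h.mem_commutator) id) F hF⟩
  have := c.cardD
  rw [e, card_bot] at this
  omega

theorem of (ht : orderOf t = 2) (tK : t ∈ K) (hs : orderOf s = 2) (nm : s ∉ K)
    (inv : ∀ x ∈ K, s * x * s⁻¹ = x⁻¹) (uniq : ∀ x ∈ K, x * x = 1 → x = 1 ∨ x = t)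
    (hH : ∀ g, g * t = t * g → g ∈ K ∨ g * s ∈ K)
    (hodd : ∀ x ∈ K, x ≠ 1 → Odd (orderOf x) → ∀ g, g * x = x * g → g * t = t * g)
    (conj : ∀ x, orderOf x = 2 → IsConj t x) : BSW t K s := by
  refine ⟨⟨hs, nm, inv, fun x hx x1 g hg => hH g ?_⟩, ht, tK, uniq, conj⟩
  have u' : ∀ x ∈ K, orderOf x = 2 → x = t := fun x hx h =>
    (uniq x hx (mul_self_of_ord h)).resolve_left (ne_one_of_ord h)
  rcases Nat.even_or_odd (orderOf x) with he | ho
  · have h1 := orderOf_pow_orderOf_div (orderOf_pos x).ne' he.two_dvd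
    have h2 := u' _ (K.pow_mem hx _) h1
    have h3 := u' _ (K.pow_mem hg (orderOf x / 2)) (by rw [conj_pow, ord_conj, h1])
    rwa [conj_pow, h2, mul_inv_eq_iff_eq_mul] at h3
  · have cm := comm_of_inverted inv
    have h1 : g⁻¹ * t * g * x = x * (g⁻¹ * t * g) := by
      calc g⁻¹ * t * g * x = g⁻¹ * (t * (g * x * g⁻¹)) * g := by group
        _ = _ := by rw [cm t tK _ hg]; group
    have h2 : orderOf (g⁻¹ * t * g) = 2 := by simpa [ht] using ord_conj g⁻¹ t
    rcases hH _ (hodd x hx x1 ho _ h1) with a | a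
    · have := u' _ a h2
      rw [mul_assoc, inv_mul_eq_iff_eq_mul] at this
      exact this.symm
    · have h3 := cm _ a x hx
      rw [mul_assoc _ s, ← mul_assoc x, ← h1, mul_assoc _ x, mul_left_cancel_iff] at h3
      have h4 := inv x hx
      rw [h3, mul_inv_cancel_right] at h4
      rw [ord_two x1 (mul_eq_one_iff_eq_inv.2 h4)] at ho
      exact absurd ho (by decide)

end BSW

/-- a dihedral group `S` with central involution `t` -/
structure DS (S : Subgroup G) (t : G) (K : Subgroup G) (s : G) : Prop where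
  le : K ≤ S
  sS : s ∈ S
  ord : orderOf s = 2
  nm : s ∉ K
  inv : ∀ x ∈ K, s * x * s⁻¹ = x⁻¹
  tK : t ∈ K
  uniq : ∀ x ∈ K, x * x = 1 → x = 1 ∨ x = t
  mem : ∀ g ∈ S, g ∈ K ∨ g * s ∈ K
  idx : K.relIndex S = 2

theorem _root_.Cfsg.Agent.H2.MC.ds {S : Subgroup G} {k : ℕ} {x y : G} (h : MC S k x y 1)
    (hy : y * y = 1) : DS S (x ^ (2 * k)) (zpowers x) y :=
  have o : orderOf y = 2 := ord_two (fun e => h.nmem (e ▸ one_mem _)) hy
  ⟨h.A_le, h.y_mem, o, h.nmem, fun a ha => by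
    simpa using h.conj_A' ha, MC.z_mem_A, fun _ => h.eq_z, fun g hg => by
      by_cases a : g ∈ zpowers x
      exacts [Or.inl a, Or.inr (h.ix2 g hg y h.y_mem a h.nmem)],
    h.ix2.relIndex fun e => h.nmem (e h.y_mem)⟩

theorem exists_DS {S : Subgroup G} (hS : IsPGroup 2 S) {n : ℕ} (hn : 2 ≤ n) (e : S ≃* DihedralGroup n)
    {t : G} (ht : orderOf t = 2) (tS : t ∈ S) (tZ : ∀ s ∈ S, s * t = t * s) : ∃ K s, DS S t K s := by
  rcases hn.eq_or_lt with rfl | hn
  · haveI : IsKleinFour S := ⟨by rw [Nat.card_congr e.toEquiv, DihedralGroup.nat_card],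
      by rw [Monoid.exponent_eq_of_mulEquiv e, DihedralGroup.exponent]; rfl⟩
    obtain ⟨b, k⟩ := exists_k4_of_mem this tS (ne_one_of_ord ht)
    have hz : ∀ x, x ∈ zpowers t ↔ x = 1 ∨ x = t := fun x => ⟨fun hx => by
      obtain ⟨i, rfl⟩ := hx
      obtain ⟨j, rfl | rfl⟩ := Int.even_or_odd' i
      · left; simp only; rw [zpow_mul, zpow_two, k.a2, one_zpow]
      · right; simp only; rw [zpow_add_one, zpow_mul, zpow_two, k.a2, one_zpow, one_mul], by rintro (rfl | rfl); exacts [one_mem _, mem_zpowers _]⟩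
    have nm : b ∉ zpowers t := fun a => ((hz b).1 a).elim k.b1 k.ne.symm
    refine ⟨zpowers t, b, zpowers_le_of_mem tS, k.b_mem, ord_two k.b1 k.b2, nm, fun x hx => ?_,
      mem_zpowers t, fun x hx _ => (hz x).1 hx, fun g hg => ?_, k.ix2.relIndex fun a => nm (a k.b_mem)⟩
    · rcases (hz x).1 hx with rfl | rfl
      · simp
      · rw [← k.comm, k.a_inv, mul_inv_cancel_right]
    · by_cases a : g ∈ zpowers t
      exacts [Or.inl a, Or.inr (k.ix2 g hg b k.b_mem a nm)]
  · obtain ⟨k, x, y, h, hy, -⟩ := exists_mc_of_dihedral hS e hn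
    have : t ∈ zpowers (x ^ (2 * k)) := h.center_eq ▸ mem_inf.2 ⟨tS, tZ⟩
    rw [(h.mem_Z.1 this).resolve_left (ne_one_of_ord ht)]
    exact ⟨_, _, h.ds hy⟩

theorem DS.conj {S : Sylow 2 G} {K : Subgroup G} {t s : G} (d : DS (S : Subgroup G) t K s)
    (hG : ∀ H : Subgroup G, H.index ≠ 2) (x : G) (hx : orderOf x = 2) : IsConj t x := by
  obtain ⟨g, hg⟩ := exists_conj_mem_sylow S (k := 1) (x := x) (by rw [hx, pow_one])
  obtain ⟨g', hg'⟩ := exists_conj_mem_of_no_index_two hG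
    (Nat.not_even_iff_odd.1 fun e => S.not_dvd_index e.two_dvd) d.idx ((ord_conj g x).trans hx) hg
  have o := (ord_conj g' _).trans ((ord_conj g x).trans hx)
  rw [← (d.uniq _ hg' (mul_self_of_ord o)).resolve_left (ne_one_of_ord o)]
  exact ((isConj_iff.2 ⟨g, rfl⟩).trans (isConj_iff.2 ⟨g', rfl⟩)).symm

theorem DS.bsw {S K : Subgroup G} {t s : G} (d : DS S t K s) (ht : orderOf t = 2) (hS : IsPGroup 2 S)
    (hC : centralizer ({t} : Set G) ≤ S) (conj : ∀ x, orderOf x = 2 → IsConj t x) : BSW t K s :=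
  BSW.of ht d.tK d.ord d.nm d.inv d.uniq
    (fun g hg => d.mem g (hC (mem_centralizer_singleton_iff.2 hg)))
    (fun _ hx x1 ho => absurd (eq_one_of_mem_pgroup_of_coprime hS (d.le hx) ho.coprime_two_right) x1) conj

/-- the centraliser of an involution is dihedral of order eight -/
theorem d8_setup {z : G} (hz : orderOf z = 2) (e : centralizer ({z} : Set G) ≃* DihedralGroup 4) :
    ∃ x y, MC (centralizer ({z} : Set G)) 1 x y 1 ∧ y * y = 1 ∧ z = x ^ (2 * 1) ∧
      SylIn 2 (centralizer ({z} : Set G)) ⊤ := by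
  have hS : IsPGroup 2 (centralizer ({z} : Set G)) := IsPGroup.of_card (n := 3) (by
    rw [Nat.card_congr e.toEquiv, DihedralGroup.nat_card]; rfl)
  obtain ⟨k, x, y, h, hy, hk⟩ := exists_mc_of_dihedral hS e (by norm_num)
  obtain rfl : k = 1 := by omega
  have key : ∀ t ∈ centralizer ({z} : Set G), orderOf t = 2 →
      (∀ s ∈ centralizer ({z} : Set G), s * t = t * s) → t = x ^ (2 * 1) := fun t tS ht tZ =>
    (h.mem_Z.1 (h.center_eq ▸ mem_inf.2 ⟨tS, tZ⟩)).resolve_left (ne_one_of_ord ht)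
  have zS : z ∈ centralizer ({z} : Set G) := mem_centralizer_singleton_iff.2 rfl
  have e1 := key z zS hz fun s hs => mem_centralizer_singleton_iff.1 hs
  refine ⟨x, y, h, hy, e1, sylIn_of_sylIn_normalizer ⟨le_inf le_top le_normalizer, hS,
    fun R hR _ hle => le_antisymm (fun g hg => ?_) hle⟩⟩
  have hn := (hR hg).2
  rw [mem_centralizer_singleton_iff, ← mul_inv_eq_iff_eq_mul]
  refine (key _ ((mem_normalizer_iff.1 hn z).1 zS) ((ord_conj g z).trans hz) fun s hs => ?_).trans e1.symm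
  have := mem_centralizer_singleton_iff.1 ((mem_normalizer_iff''.1 hn s).1 hs)
  calc s * (g * z * g⁻¹) = g * (g⁻¹ * s * g * z) * g⁻¹ := by group
    _ = _ := by rw [this]; group

theorem d8_psl {z : G} (hz : orderOf z = 2) (e : centralizer ({z} : Set G) ≃* DihedralGroup 4)
    (hG : ∀ H : Subgroup G, H.index ≠ 2) : ∃ q : ℕ, (q = 9 ∨ q = 7) ∧
      2 * Nat.card G = q * (q + 1) * (q - 1) ∧
      ∀ (F : Type) [Field F] [Fintype F], Fintype.card F = q → Nonempty (G ≃* PSL(2, F)) := by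
  obtain ⟨x, y, h, hy, e1, hS⟩ := d8_setup hz e
  have d := h.ds hy
  rw [← e1] at d
  obtain ⟨S, hS'⟩ := hS.exists_sylow_top
  have c : Nat.card (zpowers x) = 4 := by rw [Nat.card_zpowers, h.ord]
  obtain ⟨q, h1, h2, -, h3⟩ := (d.bsw hz hS.pgrp le_rfl (DS.conj (hS' ▸ d) hG)).exists_psl
    (Or.inl (by omega))
  exact ⟨q, by omega, h2, h3⟩

theorem equiv_perm_of_index {H : Subgroup G} {n : ℕ} (hi : H.index = n) (hc : H.normalCore = ⊥)
    (hG : Nat.card G = n.factorial) : Nonempty (G ≃* Equiv.Perm (Fin n)) := by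
  have e : (G ⧸ H) ≃ Fin n := Finite.equivFinOfCardEq hi
  have hinj : Function.Injective (MulAction.toPermHom G (G ⧸ H)) := by
    rw [← MonoidHom.ker_eq_bot_iff, ← normalCore_eq_ker, hc]
  exact ⟨(MulEquiv.ofBijective _ (hinj.bijective_of_nat_card_le (by
    rw [Nat.card_perm, hG, ← hi]; rfl))).trans e.permCongrHom⟩

end Cfsg.Agent.H7
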