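import Mathlib
import Cfsg.Agent.H7.Count
import Cfsg.Agent.H7.Normal
import Cfsg.Agent.H7.MultiTrans
import Cfsg.Agent.H2.Rep
import Cfsg.Agent.L.Fitting

/-! Extremely primitive groups: Manning's theorem. -/

namespace Cfsg.Agent.H7

open MulAction Subgroup
open scoped Pointwise

variable {G Ω : Type*} [Group G] [MulAction G Ω]

theorem orbit_stab_smul (c : G) (a x : Ω) :
    orbit (stabilizer G (c • a)) (c • x) = c • orbit (stabilizer G a) x := by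
  ext y
  constructor
  · rintro ⟨g, rfl⟩
    exact ⟨_, ⟨⟨_, (mem_stabilizer_smul_iff c g a).1 g.2⟩, rfl⟩, by simp [mul_smul, Subgroup.smul_def]⟩
  · rintro ⟨_, ⟨g, rfl⟩, rfl⟩
    exact ⟨⟨c * g * c⁻¹, (mem_stabilizer_smul_iff c _ a).2 (by simp [mul_assoc])⟩,
      by simp [mul_smul, Subgroup.smul_def]⟩

theorem card_orbit_stab_comm [Finite G] [IsPretransitive G Ω] (a b : Ω) :
    Nat.card (orbit (stabilizer G a) b) = Nat.card (orbit (stabilizer G b) a) := by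
  have h1 := card_orbit_mul_card_stabilizer (G := stabilizer G a) b
  have h2 := card_orbit_mul_card_stabilizer (G := stabilizer G b) a
  have h3 : Nat.card (stabilizer (stabilizer G a) b) = Nat.card (stabilizer (stabilizer G b) a) :=
    Nat.card_congr ⟨fun g => ⟨⟨g.1, g.2⟩, g.1.2⟩, fun g => ⟨⟨g.1, g.2⟩, g.1.2⟩, fun _ => rfl, fun _ => rfl⟩
  rw [card_stabilizer_eq_of_transitive a b, ← h2, h3] at h1
  exact Nat.eq_of_mul_eq_mul_right Nat.card_pos h1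

theorem orbit_stab_ne [FaithfulSMul G Ω] [IsPreprimitive G Ω] (hH : ∀ a : Ω, stabilizer G a ≠ ⊥) {a b x : Ω}
    (hab : a ≠ b) (hx : x ≠ a) : orbit (stabilizer G a) x ≠ orbit (stabilizer G b) x := fun e => by
  have : Nontrivial Ω := ⟨_, _, hab⟩
  have h1 : ∀ c : Ω, stabilizer G c ≤ stabilizer G (orbit (stabilizer G c) x) := fun c g hg =>
    smul_orbit (⟨g, hg⟩ : stabilizer G c) x
  have h2 := (IsPreprimitive.isCoatom_stabilizer_of_isPreprimitive G a).2 (stabilizer G a ⊔ stabilizer G b)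
    (left_lt_sup.2 fun h => hH b (stabilizer_eq_bot_of_le hab.symm h))
  obtain ⟨g, hg⟩ := exists_smul_eq G x a
  have h3 : g • orbit (stabilizer G a) x = orbit (stabilizer G a) x :=
    (sup_le (h1 a) (e ▸ h1 b)) (h2 ▸ mem_top g)
  obtain ⟨k, hk⟩ : a ∈ orbit (stabilizer G a) x := h3 ▸ ⟨x, mem_orbit_self x, hg⟩
  exact hx ((smul_left_cancel_iff k).1 (hk.trans k.2.symm))

variable (G Ω) in
/-- point stabilizers are primitive on their orbits -/
abbrev EP : Prop := ∀ a x : Ω, IsPreprimitive (stabilizer G a) (orbit (stabilizer G a) x)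

theorem EP.trans (h : EP G Ω) {a x : Ω} {N : Subgroup G} (hN : N ≤ stabilizer G a)
    (hn : ∀ g : G, g • a = a → ∀ n ∈ N, g * n * g⁻¹ ∈ N) {n : G} (hnN : n ∈ N) (hx : n • x ≠ x) :
    orbit N x = orbit (stabilizer G a) x := by
  have := h a x
  refine Set.Subset.antisymm (by rintro _ ⟨g, rfl⟩; exact ⟨⟨g, hN g.2⟩, rfl⟩) fun y hy => ?_
  rcases prim_block (G := stabilizer G a) {y : orbit (stabilizer G a) x | y.1 ∈ orbit N x} (by
    rintro g y ⟨m, hm⟩ ⟨m', hm'⟩ z ⟨k, hk⟩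
    refine ⟨⟨g * (k * m⁻¹) * g⁻¹ * m', mul_mem (hn g g.2 _ (mul_mem k.2 (inv_mem m.2))) m'.2⟩, ?_⟩
    change (m : G) • x = y at hm
    change (m' : G) • x = (g : G) • (y : Ω) at hm'
    change (k : G) • x = z at hk
    change (_ : G) • x = (g : G) • (z : Ω)
    simp [mul_smul, hm', ← hm, ← hk]) with h1 | h1
  · exact absurd (congrArg Subtype.val (h1 (x := ⟨_, ⟨n, hN hnN⟩, rfl⟩) ⟨⟨n, hnN⟩, rfl⟩
      (y := ⟨x, mem_orbit_self x⟩) (mem_orbit_self x))) hx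
  · exact h1.ge (Set.mem_univ ⟨y, hy⟩)

theorem conj_mem_fix {a : Ω} {S : Set Ω} (hS : ∀ g : G, g • a = a → ∀ y ∈ S, g • y ∈ S) (g : G)
    (hg : g • a = a) (n : G) (hn : n ∈ stabilizer G a ⊓ fixingSubgroup G S) :
    g * n * g⁻¹ ∈ stabilizer G a ⊓ fixingSubgroup G S :=
  ⟨(stabilizer G a).mul_mem (mul_mem hg hn.1) (inv_mem hg), (mem_fixingSubgroup_iff _).2 fun y hy => by
    rw [mul_smul, mul_smul, (mem_fixingSubgroup_iff _).1 hn.2 _ (hS _ (inv_smul_eq_iff.2 hg.symm) y hy),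
      smul_inv_smul]⟩

variable [Finite G] [Finite Ω] [FaithfulSMul G Ω] [IsPreprimitive G Ω]

theorem EP.manning (h : EP G Ω) (hH : ∀ a : Ω, stabilizer G a ≠ ⊥) {a x : Ω} (hx : x ≠ a) {g : G}
    (hg : g • a = a) (hfix : ∀ y ∈ orbit (stabilizer G a) x, g • y = y) : g = 1 := by
  let d : Ω → Ω → ℕ := fun a x => Nat.card (orbit (stabilizer G a) x)
  have hd : ∀ (c : G) a x, d (c • a) (c • x) = d a x := fun c a x => by
    simp only [d, orbit_stab_smul, Set.natCard_smul_set]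
  let U : Ω → Set Ω := fun a => {x | ∀ a' x', d a' x' ≤ d a x}
  have hU : ∀ (c : G) a x, x ∈ U a → c • x ∈ U (c • a) := fun c a x hx a' x' => (hd c a x).symm ▸ hx a' x'
  have hU' : ∀ a (c : G), c • a = a → ∀ x ∈ U a, c • x ∈ U a := fun a c hc x hx => by
    simpa only [hc] using hU c a x hx
  have hA : ∀ a (S : Set Ω), (∀ g : G, g • a = a → ∀ y ∈ S, g • y ∈ S) → ∀ y ∈ S, y ≠ a →
      stabilizer G a ⊓ fixingSubgroup G S ≤ stabilizer G a ⊓ fixingSubgroup G (U a) := by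
    refine fun a S hS y hy hya n hn => ⟨hn.1, (mem_fixingSubgroup_iff _).2 fun x hx => by_contra fun e => ?_⟩
    refine orbit_stab_ne hH hya.symm (x := x) (fun e' => e (e' ▸ hn.1))
      (Set.eq_of_subset_of_ncard_le ?_ (hx y x) (Set.toFinite _))
    rw [← h.trans inf_le_left (conj_mem_fix hS) hn e]
    rintro _ ⟨k, rfl⟩
    exact ⟨⟨k, (mem_fixingSubgroup_iff _).1 k.2.2 y hy⟩, rfl⟩
  have : Nonempty (Ω × Ω) := ⟨(a, a)⟩
  obtain ⟨⟨a0, x0⟩, h0⟩ := Finite.exists_max fun q : Ω × Ω => d q.1 q.2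
  obtain ⟨c, rfl⟩ := exists_smul_eq G a0 a
  have hb : c • x0 ∈ U (c • a0) := hU _ _ _ fun a' x' => h0 (a', x')
  generalize c • a0 = a at *
  generalize c • x0 = b at *
  have ha : a ∈ U b := fun a' x' => (hb a' x').trans (card_orbit_stab_comm a b).le
  refine eq_one_of_fix (α := Ω) fun y => by_contra fun hy => ?_
  have hab : a ≠ b := by
    rintro rfl
    have h1 : d a a = 1 := Nat.card_eq_one_iff_unique.2 ⟨⟨by
      rintro ⟨_, k, rfl⟩ ⟨_, k', rfl⟩; exact Subtype.ext (k.2.trans k'.2.symm)⟩, ⟨a, mem_orbit_self a⟩⟩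
    exact hy (congrArg Subtype.val ((Finite.card_le_one_iff_subsingleton.1 (h1 ▸ ha a y)).elim
      ⟨_, ⟨g, hg⟩, rfl⟩ ⟨y, mem_orbit_self y⟩))
  have h1 := hA a _ (fun k hk z hz => mem_orbit_of_mem_orbit (⟨k, hk⟩ : stabilizer G a) hz) x
    (mem_orbit_self x) hx (x := g) ⟨hg, (mem_fixingSubgroup_iff _).2 hfix⟩
  obtain ⟨e, he⟩ := exists_smul_eq G a b
  have h2 : e * g * e⁻¹ ∈ stabilizer G b ⊓ fixingSubgroup G (U b) :=
    ⟨he ▸ (mem_stabilizer_smul_iff e _ a).2 (by simpa [mul_assoc] using hg), (mem_fixingSubgroup_iff _).2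
      fun z hz => by
        rw [mul_smul, mul_smul, (mem_fixingSubgroup_iff _).1 h1.2 _ (by simpa [← he] using hU e⁻¹ b z hz),
          smul_inv_smul]⟩
  have h3 : ∀ z : Ω, (∃ k ∈ stabilizer G b ⊓ fixingSubgroup G (U b), k • z ≠ z) → g • z = z := by
    refine fun z ⟨k, hk, hz⟩ => by_contra fun e => orbit_stab_ne hH hab (x := z) (fun e' => e (e'.symm ▸ hg))
      (Set.Subset.antisymm ?_ ?_)
    · rw [← h.trans inf_le_left (conj_mem_fix (hU' a)) h1 e]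
      rintro _ ⟨k, rfl⟩
      exact ⟨⟨k, (mem_fixingSubgroup_iff _).1 k.2.2 b hb⟩, rfl⟩
    · rw [← h.trans inf_le_left (conj_mem_fix (hU' b)) hk hz]
      rintro _ ⟨k, rfl⟩
      exact ⟨⟨k, (mem_fixingSubgroup_iff _).1 k.2.2 a ha⟩, rfl⟩
  have h4 : (e * g * e⁻¹) • e • y ≠ e • y := by simpa [mul_smul] using hy
  exact hy (h3 y ⟨g, hA b {z | ∃ k ∈ stabilizer G b ⊓ fixingSubgroup G (U b), k • z ≠ z}
    (fun u hu z ⟨k, hk, hz⟩ => ⟨_, conj_mem_fix (hU' b) u hu k hk, by simpa [mul_smul] using hz⟩) (e • y)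
    ⟨_, h2, h4⟩ (fun e' => h4 (e' ▸ h2.1)) ⟨(mem_fixingSubgroup_iff _).1 h1.2 b hb,
      (mem_fixingSubgroup_iff _).2 h3⟩, hy⟩)

theorem EP.faithful (h : EP G Ω) (hH : ∀ a : Ω, stabilizer G a ≠ ⊥) {a x : Ω} (hx : x ≠ a) :
    FaithfulSMul (stabilizer G a) (orbit (stabilizer G a) x) :=
  ⟨fun {g k} e => mul_inv_eq_one.1 (Subtype.ext (h.manning hH hx (g * k⁻¹).2 fun y hy =>
    congrArg Subtype.val (show (g * k⁻¹) • (⟨y, hy⟩ : orbit (stabilizer G a) x) = ⟨y, hy⟩ by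
      rw [mul_smul, e, smul_inv_smul])))⟩

theorem EP.orbit_eq (h : EP G Ω) (hH : ∀ a : Ω, stabilizer G a ≠ ⊥) {a : Ω} {M : Subgroup G} (hM : M ≠ ⊥)
    (hle : M ≤ stabilizer G a) (hn : stabilizer G a ≤ normalizer (M : Set G)) (x : Ω) :
    orbit M x = orbit (stabilizer G a) x := by
  have h1 : ∀ g : G, g • a = a → ∀ n ∈ M, g * n * g⁻¹ ∈ M := fun g hg n => (hn hg n).1
  by_cases hx : x = a
  · subst hx
    exact Set.Subset.antisymm (by rintro _ ⟨g, rfl⟩; exact ⟨⟨g, hle g.2⟩, rfl⟩)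
      (by rintro _ ⟨g, rfl⟩; exact ⟨1, (one_smul _ _).trans g.2.symm⟩)
  obtain ⟨⟨m, hm⟩, h2⟩ := ne_bot_iff_exists_ne_one.1 hM
  obtain ⟨_, ⟨k, rfl⟩, hy⟩ : ∃ y ∈ orbit (stabilizer G a) x, m • y ≠ y := by
    by_contra! e
    exact h2 (Subtype.ext (h.manning hH hx (hle hm) e))
  exact h.trans hle h1 (h1 _ k⁻¹.2 m hm) (by simpa [mul_smul, inv_smul_eq_iff, Subgroup.smul_def] using hy)

theorem EP.irr (h : EP G Ω) (hH : ∀ a : Ω, stabilizer G a ≠ ⊥) {a : Ω} {M N : Subgroup G} (hM : M ≠ ⊥)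
    (hle : M ≤ stabilizer G a) (hn : stabilizer G a ≤ normalizer (M : Set G)) (hN : stabilizer N a = ⊥)
    (L : Subgroup G) (hL : L ≤ N) (hML : M ≤ normalizer (L : Set G)) : L = ⊥ ∨ L = N := by
  have h1 : ∀ g : G, g • a = a → ∀ x ∈ orbit L a, g • x ∈ orbit L a := by
    rintro g hg _ ⟨l, rfl⟩
    obtain ⟨m, hm⟩ := (h.orbit_eq hH hM hle hn (l • a)).ge ⟨⟨g, hg⟩, rfl⟩
    refine ⟨⟨_, (hML m.2 l).1 l.2⟩, Eq.trans ?_ hm⟩
    change ((m : G) * l * (m : G)⁻¹) • a = (m : G) • (l : G) • a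
    rw [mul_smul, mul_smul, inv_smul_eq_iff.2 (hle m.2).symm]
  refine (prim_block (G := G) (orbit L a) ?_).imp (fun e => eq_bot_iff.2 fun l hl => ?_) fun e =>
    le_antisymm hL fun n hn => ?_
  · rintro g _ ⟨l, rfl⟩ ⟨l', hl'⟩ y hy
    have := mem_orbit_of_mem_orbit l' (h1 ((l' : G)⁻¹ * g * l) (by
      rw [mul_smul, mul_smul, inv_smul_eq_iff]; exact hl'.symm) _ (mem_orbit_of_mem_orbit l⁻¹ hy))
    simpa [mul_smul, Subgroup.smul_def] using this
  · exact eq_of_smul_eq_of_reg hN (hL hl) (one_mem _) (e ⟨⟨l, hl⟩, rfl⟩ ⟨1, rfl⟩)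
  · obtain ⟨l, hl⟩ := e.ge (Set.mem_univ (n • a))
    exact eq_of_smul_eq_of_reg hN (hL l.2) hn hl ▸ l.2

omit [Finite Ω] in
/-- A nilpotent normal subgroup of a primitive group is elementary abelian, regular, self-centralizing. -/
theorem prim_nil (N : Subgroup G) [N.Normal] [Group.IsNilpotent N] (hN : N ≠ ⊥) :
    IsPretransitive N Ω ∧ centralizer (N : Set G) = N ∧ ∃ p : ℕ, p.Prime ∧ ∀ n ∈ N, n ^ p = 1 := by
  obtain ⟨M, h1, h2, h3, h4⟩ := exists_min_normal (N ⊓ centralizer (N : Set G))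
    (L.inf_centralizer_ne_bot_of_isNilpotent le_rfl le_normalizer hN)
  have h5 := normal_trans (α := Ω) M h2
  have h6 : ∀ m ∈ M, ∀ n ∈ M, m * n = n * m := fun m hm n hn => (h3 hn).2 m (h3 hm).1
  obtain rfl : N = M := le_antisymm (fun n hn => mem_of_comm h6 h5 h5 fun m hm => ((h3 hm).2 n hn).symm)
    (h3.trans inf_le_left)
  exact ⟨h5, le_antisymm (fun g hg => mem_of_comm h6 h5 h5 hg) fun n hn m hm => h6 m hm n hn,
    exists_prime_pow_eq_one_of_min N h2 h4 h6⟩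

theorem exists_GL_add {H A : Type*} [Group H] [AddCommGroup A] [Finite A] {p : ℕ} [Fact p.Prime]
    [Module (ZMod p) A] (ψ : H →* AddMonoid.End A) : ∃ e, Nat.card A = p ^ e ∧
      ∃ φ : H →* GL (Fin e) (ZMod p), ∀ g, g ∈ φ.ker ↔ ∀ v, ψ g v = v := by
  have : Module.Finite (ZMod p) A := Module.Finite.of_finite
  refine ⟨_, (Module.natCard_eq_pow_finrank (K := ZMod p) (V := A)).trans (by rw [Nat.card_zmod]),
    (((LinearMap.toMatrixAlgEquiv (Module.finBasis (ZMod p) A)).toMulEquiv.toMonoidHom).comp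
      (H2.zmodRep p ψ)).toHomUnits, fun g => ?_⟩
  rw [MonoidHom.mem_ker, Units.ext_iff, MonoidHom.coe_toHomUnits, MonoidHom.comp_apply, MulEquiv.coe_toMonoidHom,
    Units.val_one, MulEquiv.map_eq_one_iff, LinearMap.ext_iff]
  rfl

open scoped IsMulCommutative in
theorem exists_GL {H : Type*} [Group H] [Finite H] (V : Subgroup H) [V.Normal] [IsMulCommutative V] {p : ℕ}
    [Fact p.Prime] (hV : ∀ v ∈ V, v ^ p = 1) : ∃ e, Nat.card V = p ^ e ∧
      ∃ φ : H →* GL (Fin e) (ZMod p), φ.ker = centralizer (V : Set H) := by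
  letI : Module (ZMod p) (Additive V) := AddCommGroup.zmodModule fun x =>
    Additive.toMul.injective (Subtype.ext (hV _ x.toMul.2))
  obtain ⟨e, h1, φ, h2⟩ := exists_GL_add (p := p) ((H1.conjEnd V).comp ((MonoidHom.id H).codRestrict _
    fun g => normalizer_eq_top V ▸ mem_top g))
  refine ⟨e, h1, φ, Subgroup.ext fun g => (h2 g).trans ?_⟩
  exact ⟨fun h v hv => (mul_inv_eq_iff_eq_mul.1 (congrArg (fun x : Additive V => (x.toMul : H))
    (h (Additive.ofMul ⟨v, hv⟩)))).symm, fun h v => Additive.toMul.injective (Subtype.ext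
      (mul_inv_eq_iff_eq_mul.2 (h _ v.toMul.2).symm))⟩

end Cfsg.Agent.H7
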