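import Mathlib
import Cfsg.Prelude.Def_ParabolicCharacters
import Cfsg.Agent.H3.CTI0
import Cfsg.Agent.H3.Mackey
import Cfsg.Agent.H3.Normal
import Cfsg.Agent.H4.Dick9

/-! Characters of `GL₂(q)`: the principal series. -/

set_option autoImplicit false
set_option linter.unusedSectionVars false

namespace Cfsg.Agent.H7

open Cfsg Cfsg.Agent.H3 Cfsg.Agent.H4 Finset Matrix
open scoped ComplexConjugate MatrixGroups

section general
variable {G : Type*} [Group G] [Fintype G] {H : Subgroup G} {θ : H → ℂ}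

theorem indFun_eq_sum_reps {ι : Type*} [Fintype ι] (r : ι → G) (hs : ∀ g, ∃ i, (r i)⁻¹ * g ∈ H)
    (hi : ∀ i j, (r i)⁻¹ * r j ∈ H → i = j) (hθ : IsClassFunction H θ) (g : G) :
    indFun H θ g = ∑ i, extendByZero H θ ((r i)⁻¹ * g * r i) := by
  classical
  let e : ι × H ≃ G := Equiv.ofBijective (fun x => r x.1 * x.2) ⟨by
    rintro ⟨i, h⟩ ⟨j, k⟩ e
    simp only at e
    have : i = j := hi i j (by
      rw [show (r i)⁻¹ * r j = (h : G) * (k : G)⁻¹ by
        rw [inv_mul_eq_iff_eq_mul, ← mul_assoc, e, mul_inv_cancel_right]]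
      exact H.mul_mem h.2 (H.inv_mem k.2))
    subst this
    exact Prod.ext rfl (Subtype.ext (mul_left_cancel e)), fun g => by
    obtain ⟨i, h⟩ := hs g
    exact ⟨(i, ⟨_, h⟩), by simp⟩⟩
  rw [indFun_apply, ← e.sum_comp, Fintype.sum_prod_type]
  have : ∀ (i : ι) (h : H), extendByZero H θ ((e (i, h))⁻¹ * g * e (i, h)) =
      extendByZero H θ ((r i)⁻¹ * g * r i) := fun i h => by
    rw [← hθ.extendByZero_conj_mem h.2]
    congr 1
    rw [show e (i, h) = r i * h from rfl]; group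
  simp only [this, sum_const, card_univ, nsmul_eq_mul]
  rw [← mul_sum, ← Nat.card_eq_fintype_card, inv_mul_cancel_left₀ card_ne_zero]

theorem indFun_comap_of {G' : Type*} [Group G'] [Fintype G'] (f : G' →* G)
    (hf : ∀ g, ∃ g', (f g')⁻¹ * g ∈ H) (hθ : IsClassFunction H θ) (g : G') :
    indFun (H.comap f) (fun x => θ ⟨f x, x.2⟩) g = indFun H θ (f g) := by
  classical
  have h1 : IsClassFunction (H.comap f) (fun x => θ ⟨f x, x.2⟩) :=
    hθ.comp (f.subgroupComap H)
  rw [indFun_eq_sum_reps (fun q : G' ⧸ H.comap f => q.out) (fun g => ⟨(g : G' ⧸ H.comap f), by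
      rw [← QuotientGroup.eq]; simp⟩) (fun i j h => by
      rw [← QuotientGroup.eq] at h; simpa using h) h1,
    indFun_eq_sum_reps (fun q : G' ⧸ H.comap f => f q.out) (fun g => by
      obtain ⟨g', h⟩ := hf g
      refine ⟨(g' : G' ⧸ H.comap f), ?_⟩
      have : (Quotient.out (g' : G' ⧸ H.comap f))⁻¹ * g' ∈ H.comap f := by
        rw [← QuotientGroup.eq]; simp
      have := H.mul_mem this h
      simpa [mul_assoc] using this) (fun i j h => by
      have : (Quotient.out i)⁻¹ * Quotient.out j ∈ H.comap f := by simpa using h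
      rw [← QuotientGroup.eq] at this; simpa using this) hθ]
  refine sum_congr rfl fun q _ => ?_
  by_cases h : (Quotient.out q)⁻¹ * g * Quotient.out q ∈ H.comap f
  · rw [extendByZero_of_mem _ h, extendByZero_of_mem _ (by simpa using h)]
    simp
  · rw [extendByZero_of_not_mem _ h, extendByZero_of_not_mem _ (by simpa using h)]

end general

variable {F : Type*} [Field F]

section mc
variable [Fintype F] [DecidableEq F]

noncomputable instance instFintypeMC : Fintype (MulChar F ℂ) := Fintype.ofFinite _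

noncomputable instance instDecEqMC : DecidableEq (MulChar F ℂ) := Classical.decEq _

theorem mc_conj (α : MulChar F ℂ) (a : F) : conj (α a) = α⁻¹ a := MulChar.star_apply' α a

theorem cast_card_units : (Fintype.card Fˣ : ℂ) = Fintype.card F - 1 := by
  rw [Fintype.card_units, Nat.cast_sub Fintype.card_pos, Nat.cast_one]

theorem sum_units_mc (α : MulChar F ℂ) :
    ∑ a : Fˣ, α a = if α = 1 then (Fintype.card F - 1 : ℂ) else 0 := by
  split_ifs with h
  · subst h; simp [cast_card_units]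
  · have h1 := (Lin.mk α.toUnitHom).inner_eq 1
    rw [if_neg (fun e => h (MulChar.ext fun a => by
      simpa using congrArg (fun i : Lin Fˣ => i a) e)), classInner_def] at h1
    simpa [card_ne_zero] using h1

theorem sum_units_mc_conj (α β : MulChar F ℂ) :
    ∑ a : Fˣ, α a * conj (β a) = if α = β then (Fintype.card F - 1 : ℂ) else 0 := by
  simp only [mc_conj, ← MulChar.mul_apply, sum_units_mc, mul_inv_eq_one]

theorem card_mc : Fintype.card (MulChar F ℂ) = Fintype.card F - 1 := by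
  rw [← Nat.card_eq_fintype_card, MulChar.card_eq_card_units_of_hasEnoughRootsOfUnity,
    card_units_field]

theorem sum_mc (a : F) :
    ∑ α : MulChar F ℂ, α a = if a = 1 then (Fintype.card F - 1 : ℂ) else 0 := by
  split_ifs with h
  · subst h; simp [card_mc, Nat.cast_sub Fintype.card_pos]
  · obtain ⟨β, hβ⟩ := MulChar.exists_apply_ne_one_of_hasEnoughRootsOfUnity F ℂ h
    have : β a * ∑ α : MulChar F ℂ, α a = ∑ α : MulChar F ℂ, α a := by
      rw [mul_sum, ← Equiv.sum_comp (Equiv.mulLeft β) (fun α : MulChar F ℂ => α a)]; rfl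
    rw [← sub_eq_zero, ← sub_one_mul, mul_eq_zero, sub_eq_zero] at this
    exact this.resolve_left hβ

theorem mc_ne_zero (α : MulChar F ℂ) {a : F} (h : a ≠ 0) : α a ≠ 0 :=
  (IsUnit.map α (Ne.isUnit h)).ne_zero

theorem mc_one {a : F} (h : a ≠ 0) : (1 : MulChar F ℂ) a = 1 := MulChar.one_apply (Ne.isUnit h)

theorem q_ne_zero : (Fintype.card F : ℂ) ≠ 0 := Nat.cast_ne_zero.2 Fintype.card_ne_zero

theorem q_sub_ne_zero : (Fintype.card F : ℂ) - 1 ≠ 0 := by
  rw [← cast_card_units]; exact Nat.cast_ne_zero.2 Fintype.card_ne_zero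

theorem q_add_ne_zero : (Fintype.card F : ℂ) + 1 ≠ 0 := Nat.cast_add_one_ne_zero _

end mc

/-- the Borel subgroup -/
abbrev Bo (F : Type*) [Field F] : Subgroup (GL (Fin 2) F) := upperTriangularGL 2 F

theorem mem_Bo {g : GL (Fin 2) F} : g ∈ Bo F ↔ g 1 0 = 0 := by
  change (g : Matrix (Fin 2) (Fin 2) F).BlockTriangular id ↔ _
  constructor
  · intro h; exact h (show id (0 : Fin 2) < id 1 by decide)
  · intro h i j hij
    fin_cases i <;> fin_cases j <;> simp_all

theorem gm_mem_Bo {a b c d : F} {h : a * d - b * c ≠ 0} : gm a b c d h ∈ Bo F ↔ c = 0 := mem_Bo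

/-- upper triangular matrices -/
noncomputable def ut (a : Fˣ) (x : F) (d : Fˣ) : GL (Fin 2) F := gm a x 0 d (by simp)

theorem ut_mem (a : Fˣ) (x : F) (d : Fˣ) : ut a x d ∈ Bo F := gm_mem_Bo.2 rfl

@[simp] theorem gm00 {a b c d : F} {h : a * d - b * c ≠ 0} : gm a b c d h 0 0 = a := rfl
@[simp] theorem gm01 {a b c d : F} {h : a * d - b * c ≠ 0} : gm a b c d h 0 1 = b := rfl
@[simp] theorem gm10 {a b c d : F} {h : a * d - b * c ≠ 0} : gm a b c d h 1 0 = c := rfl
@[simp] theorem gm11 {a b c d : F} {h : a * d - b * c ≠ 0} : gm a b c d h 1 1 = d := rfl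
@[simp] theorem ut00 {a d : Fˣ} {x : F} : ut a x d 0 0 = a := rfl
@[simp] theorem ut01 {a d : Fˣ} {x : F} : ut a x d 0 1 = x := rfl
@[simp] theorem ut10 {a d : Fˣ} {x : F} : ut a x d 1 0 = 0 := rfl
@[simp] theorem ut11 {a d : Fˣ} {x : F} : ut a x d 1 1 = d := rfl

theorem gl_ext {g h : GL (Fin 2) F} (h1 : g 0 0 = h 0 0) (h2 : g 0 1 = h 0 1) (h3 : g 1 0 = h 1 0)
    (h4 : g 1 1 = h 1 1) : g = h := by
  rw [gm_eta g, gm_eta h, gm_inj]; exact ⟨h1, h2, h3, h4⟩

theorem exists_ut {g : GL (Fin 2) F} (h : g 1 0 = 0) : ∃ a x d, g = ut a x d := by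
  have := gl_det_ne g
  rw [h, mul_zero, sub_zero] at this
  exact ⟨Units.mk0 _ (left_ne_zero_of_mul this), g 0 1, Units.mk0 _ (right_ne_zero_of_mul this),
    gl_ext rfl rfl h rfl⟩

theorem ut_inj {a d a' d' : Fˣ} {x x' : F} : ut a x d = ut a' x' d' ↔ a = a' ∧ x = x' ∧ d = d' := by
  rw [ut, ut, gm_inj]; simp [Units.ext_iff]

theorem ut_one : ut (1 : Fˣ) 0 1 = 1 := gm_one

theorem ut_eq_one {a d : Fˣ} {x : F} : ut a x d = 1 ↔ a = 1 ∧ x = 0 ∧ d = 1 := by
  rw [← ut_one, ut_inj]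

theorem det_ut (a d : Fˣ) (x : F) : GeneralLinearGroup.det (ut a x d) = a * d := by
  ext; rw [ut, det_gm]; simp

theorem gl_mul_apply (g h : GL (Fin 2) F) (i j : Fin 2) :
    (g * h) i j = g i 0 * h 0 j + g i 1 * h 1 j := by
  simp [Matrix.mul_apply, Fin.sum_univ_two]

theorem gl_det (g : GL (Fin 2) F) :
    ((GeneralLinearGroup.det g : Fˣ) : F) = g 0 0 * g 1 1 - g 0 1 * g 1 0 := by
  conv_lhs => rw [gm_eta g, det_gm]

/-- coordinates on the Borel subgroup -/
noncomputable def boEquiv : Fˣ × Fˣ × F ≃ Bo F :=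
  Equiv.ofBijective (fun x => ⟨ut x.1 x.2.2 x.2.1, ut_mem _ _ _⟩) ⟨by
    rintro ⟨a, d, x⟩ ⟨a', d', x'⟩ e
    obtain ⟨rfl, rfl, rfl⟩ := ut_inj.1 (congrArg Subtype.val e); rfl, by
    rintro ⟨g, hg⟩
    obtain ⟨a, x, d, rfl⟩ := exists_ut (mem_Bo.1 hg)
    exact ⟨(a, d, x), rfl⟩⟩

/-- elements without eigenvectors -/
def Ell (g : GL (Fin 2) F) : Prop := ∀ t : F, (g 0 0 - t) * (g 1 1 - t) ≠ g 0 1 * g 1 0

theorem ell_iff {g : GL (Fin 2) F} : Ell g ↔
    ∀ (c : F) (v : Fin 2 → F), v ≠ 0 → (g : Matrix (Fin 2) (Fin 2) F).mulVec v ≠ c • v := by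
  constructor
  · intro h c v hv e
    have e0 := congrFun e 0
    have e1 := congrFun e 1
    simp only [mulVec, dotProduct, Fin.sum_univ_two, Pi.smul_apply, smul_eq_mul] at e0 e1
    have h0 := sub_ne_zero.2 (h c)
    apply hv
    ext i
    fin_cases i
    · apply mul_left_cancel₀ h0
      simp only [Fin.zero_eta, Pi.zero_apply]
      linear_combination (g 1 1 - c) * e0 - g 0 1 * e1
    · apply mul_left_cancel₀ h0
      simp only [Fin.mk_one, Pi.zero_apply]
      linear_combination (g 0 0 - c) * e1 - g 1 0 * e0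
  · intro h t e
    by_cases h1 : g 1 0 = 0
    · refine h (g 0 0) ![1, 0] (by simp) ?_
      ext i; fin_cases i <;> simp [mulVec, dotProduct, Fin.sum_univ_two, h1]
    · refine h t ![t - g 1 1, g 1 0] (by simp [h1]) ?_
      ext i; fin_cases i <;> simp [mulVec, dotProduct, Fin.sum_univ_two]
      · linear_combination -e
      · ring

theorem Ell.ne {g : GL (Fin 2) F} (h : Ell g) : g 1 0 ≠ 0 := fun e => h (g 0 0) (by simp [e])

theorem Ell.ne' {g : GL (Fin 2) F} (h : Ell g) : g 0 1 ≠ 0 := fun e => h (g 0 0) (by simp [e])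

theorem Ell.ne_one {g : GL (Fin 2) F} (h : Ell g) : g ≠ 1 := fun e => h.ne (by simp [e])

theorem tr_det_of_isConj {g h : GL (Fin 2) F} (e : IsConj g h) :
    g 0 0 + g 1 1 = h 0 0 + h 1 1 ∧ g 0 0 * g 1 1 - g 0 1 * g 1 0 = h 0 0 * h 1 1 - h 0 1 * h 1 0 := by
  rw [gm_eta g, gm_eta h] at e; exact inv_of_isConj_gm e

theorem Ell.of_tr_det {g h : GL (Fin 2) F} (hg : Ell g) (h1 : g 0 0 + g 1 1 = h 0 0 + h 1 1)
    (h2 : g 0 0 * g 1 1 - g 0 1 * g 1 0 = h 0 0 * h 1 1 - h 0 1 * h 1 0) : Ell h := fun t e =>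
  hg t (by linear_combination e + h2 - t * h1)

theorem Ell.conj {g h : GL (Fin 2) F} (hg : Ell g) (e : IsConj g h) : Ell h :=
  hg.of_tr_det (tr_det_of_isConj e).1 (tr_det_of_isConj e).2

/-- coset representatives of the Borel subgroup -/
def xr : Option F → SL(2, F)
  | none => 1
  | some t => sm t (-1) 1 0 (by simp)

theorem xr_conj (t : F) (g : GL (Fin 2) F) :
    (SpecialLinearGroup.toGL (xr (some t)))⁻¹ * g * SpecialLinearGroup.toGL (xr (some t)) =
      gm (g 1 0 * t + g 1 1) (-g 1 0) (t * (g 1 0 * t + g 1 1) - (g 0 0 * t + g 0 1)) (g 0 0 - t * g 1 0)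
        (by convert gl_det_ne g using 1; ring) := by
  rw [← map_inv, xr, sm_inv, toGL_sm, toGL_sm]
  conv_lhs => rw [gm_eta g]
  rw [gm_mul, gm_mul, gm_inj]
  refine ⟨?_, ?_, ?_, ?_⟩ <;> ring

theorem xr_surj (g : GL (Fin 2) F) : ∃ i, (SpecialLinearGroup.toGL (xr i))⁻¹ * g ∈ Bo F := by
  by_cases h : g 1 0 = 0
  · exact ⟨none, by simpa [xr, mem_Bo] using h⟩
  · refine ⟨some (g 0 0 / g 1 0), ?_⟩
    rw [← map_inv, xr, sm_inv, toGL_sm, mem_Bo, gl_mul_apply]
    simp [h]

theorem xr_inj (i j : Option F)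
    (h : (SpecialLinearGroup.toGL (xr i))⁻¹ * SpecialLinearGroup.toGL (xr j) ∈ Bo F) : i = j := by
  rcases i with _ | s <;> rcases j with _ | t
  · rfl
  · simp [xr, toGL_sm, gm_mem_Bo] at h
  · rw [← map_inv] at h; simp [xr, toGL_sm, gm_mem_Bo, sm_inv] at h
  · rw [← map_inv, xr, xr, sm_inv, toGL_sm, toGL_sm, gm_mul, gm_mem_Bo] at h
    congr 1; linear_combination h

theorem exists_conj_ut {g : GL (Fin 2) F} (h : ¬ Ell g) : ∃ (s : SL(2, F)) (a : Fˣ) (x : F) (d : Fˣ),
    (SpecialLinearGroup.toGL s)⁻¹ * g * SpecialLinearGroup.toGL s = ut a x d := by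
  by_cases h1 : g 1 0 = 0
  · obtain ⟨a, x, d, e⟩ := exists_ut h1
    exact ⟨1, a, x, d, by simpa using e⟩
  · simp only [Ell, not_forall, not_not] at h
    obtain ⟨t, ht⟩ := h
    refine ⟨xr (some ((t - g 1 1) / g 1 0)), exists_ut ?_⟩
    rw [xr_conj, gm10]
    field_simp
    linear_combination ht

theorem gl_class_ext {φ ψ : GL (Fin 2) F → ℂ} (h1 : IsClassFunction _ φ) (h2 : IsClassFunction _ ψ)
    (hB : ∀ a x d, φ (ut a x d) = ψ (ut a x d)) (hE : ∀ g, Ell g → φ g = ψ g) : φ = ψ := by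
  funext g
  by_cases h : Ell g
  · exact hE g h
  · obtain ⟨s, a, x, d, e⟩ := exists_conj_ut h
    rw [← h1.conj_apply' g, ← h2.conj_apply' g, e, hB]

theorem not_ell_ut (a d : Fˣ) (x : F) : ¬ Ell (ut a x d) := fun h => h.ne rfl

/-- the linear characters of the Borel subgroup -/
noncomputable def bl (α β : MulChar F ℂ) : Bo F →* ℂ where
  toFun b := α ((b : GL (Fin 2) F) 0 0) * β ((b : GL (Fin 2) F) 1 1)
  map_one' := by simp
  map_mul' b c := by
    simp only [Subgroup.coe_mul, gl_mul_apply, mem_Bo.1 b.2, mem_Bo.1 c.2, mul_zero, add_zero, zero_mul,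
      zero_add, map_mul]
    ring

variable [Fintype F] [DecidableEq F]

/-- the principal series -/
noncomputable def PS (α β : MulChar F ℂ) : GL (Fin 2) F → ℂ :=
  indFun (Bo F) (fun b => α ((b : GL (Fin 2) F) 0 0) * β ((b : GL (Fin 2) F) 1 1))

theorem isChar_bl (α β : MulChar F ℂ) :
    IsCharacter (Bo F) (fun b => α ((b : GL (Fin 2) F) 0 0) * β ((b : GL (Fin 2) F) 1 1)) :=
  isCharacter_linear (bl α β).toHomUnits

theorem isChar_PS (α β : MulChar F ℂ) : IsCharacter _ (PS α β) := (isChar_bl α β).ind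

theorem isClass_PS (α β : MulChar F ℂ) : IsClassFunction _ (PS α β) := (isChar_PS α β).isClassFunction

theorem PS_apply (α β : MulChar F ℂ) (g : GL (Fin 2) F) : PS α β g =
    (if g 1 0 = 0 then α (g 0 0) * β (g 1 1) else 0) + ∑ t : F,
      if t * (g 1 0 * t + g 1 1) = g 0 0 * t + g 0 1 then α (g 1 0 * t + g 1 1) * β (g 0 0 - t * g 1 0)
        else 0 := by
  classical
  rw [PS, indFun_eq_sum_reps (fun i => SpecialLinearGroup.toGL (xr i)) xr_surj xr_inj
    (isChar_bl α β).isClassFunction, Fintype.sum_option]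
  congr 1
  · simp [xr, extendByZero_apply, mem_Bo]
  · refine sum_congr rfl fun t _ => ?_
    rw [xr_conj, extendByZero_apply]
    simp [gm_mem_Bo, sub_eq_zero]

theorem PS_ell (α β : MulChar F ℂ) {g : GL (Fin 2) F} (h : Ell g) : PS α β g = 0 := by
  rw [PS_apply, if_neg h.ne, zero_add]
  refine sum_eq_zero fun t _ => if_neg fun e => h (g 1 0 * t + g 1 1) ?_
  linear_combination g 1 0 * e

/-- number of finite fixed points -/
noncomputable def nn (a : Fˣ) (x : F) (d : Fˣ) : ℂ :=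
  if a = d then (if x = 0 then Fintype.card F else 0) else 1

theorem PS_ut (α β : MulChar F ℂ) (a d : Fˣ) (x : F) :
    PS α β (ut a x d) = α a * β d + nn a x d * (α d * β a) := by
  rw [PS_apply, nn]
  simp only [ut00, ut01, ut10, ut11, if_true, zero_mul, zero_add, mul_zero, sub_zero]
  congr 1
  rw [← sum_filter, sum_const, nsmul_eq_mul]
  congr 1
  split_ifs with h1 h2
  · subst h1 h2; simp [mul_comm]
  · subst h1
    simp [mul_comm, h2]
  · have : (d : F) - a ≠ 0 := sub_ne_zero.2 fun e => h1 (Units.ext e.symm)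
    rw [Nat.cast_eq_one, card_eq_one]
    refine ⟨x / (d - a), ?_⟩
    ext t
    simp only [mem_filter, mem_univ, true_and, mem_singleton, eq_div_iff this]
    constructor <;> intro e <;> linear_combination e

theorem sum_nn (a d : Fˣ) : ∑ x : F, nn a x d = Fintype.card F := by
  unfold nn; split_ifs <;> simp

theorem conj_nn (a d : Fˣ) (x : F) : conj (nn a x d) = nn a x d := by
  unfold nn; split_ifs <;> simp

theorem nn_comm (a d : Fˣ) (x : F) : nn a x d = nn d x a := by
  unfold nn; simp only [eq_comm (a := a)]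

theorem PS_one (α β : MulChar F ℂ) : PS α β 1 = Fintype.card F + 1 := by
  rw [← ut_one, PS_ut]; simp [nn, add_comm]

theorem card_Bo : (Nat.card (Bo F) : ℂ) = (Fintype.card F - 1) ^ 2 * Fintype.card F := by
  rw [← Nat.card_congr boEquiv]
  simp [cast_card_units]; ring

theorem inner_indBo (θ : Bo F → ℂ) {ψ : GL (Fin 2) F → ℂ} (h : IsClassFunction _ ψ) :
    classInner (indFun (Bo F) θ) ψ = ((Fintype.card F - 1 : ℂ) ^ 2 * Fintype.card F)⁻¹ *
      ∑ a : Fˣ, ∑ d : Fˣ, ∑ x : F, θ ⟨ut a x d, ut_mem _ _ _⟩ * conj (ψ (ut a x d)) := by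
  classical
  rw [classInner_indFun_left _ h, classInner_def, card_Bo, ← boEquiv.sum_comp]
  simp only [Fintype.sum_prod_type]
  rfl

theorem inner_PS (α β α' β' : MulChar F ℂ) : classInner (PS α β) (PS α' β') =
    (if α = α' ∧ β = β' then 1 else 0) + (if α = β' ∧ β = α' then 1 else 0) := by
  rw [PS, inner_indBo _ (isClass_PS _ _)]
  simp only [ut00, ut11, PS_ut, map_add, map_mul, conj_nn]
  have : ∀ a d : Fˣ, ∑ x : F, α a * β d * (conj (α' a) * conj (β' d) + nn a x d * (conj (α' d) * conj (β' a)))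
      = Fintype.card F * ((α a * conj (α' a)) * (β d * conj (β' d)) +
        (α a * conj (β' a)) * (β d * conj (α' d))) := fun a d => by
    rw [← mul_sum, sum_add_distrib, ← sum_mul univ (fun x => nn a x d), sum_nn]; simp; ring
  simp only [this, ← mul_sum, sum_add_distrib, ← sum_mul, sum_units_mc_conj]
  have h1 := q_ne_zero (F := F)
  have h2 := q_sub_ne_zero (F := F)
  simp only [ite_and]
  split_ifs <;> field_simp <;> ring

theorem irr_PS {α β : MulChar F ℂ} (h : α ≠ β) : IsIrrCharacter _ (PS α β) :=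
  (isChar_PS α β).irr_of_inner_self (by rw [inner_PS]; simp [h])

theorem PS_comm (α β : MulChar F ℂ) : PS α β = PS β α := by
  refine gl_class_ext (isClass_PS _ _) (isClass_PS _ _) (fun a x d => ?_) fun g h => by
    rw [PS_ell _ _ h, PS_ell _ _ h]
  rw [PS_ut, PS_ut, nn]
  split_ifs with h1 h2
  · subst h1; ring
  · subst h1; ring
  · ring

theorem PS_eq_iff {α β α' β' : MulChar F ℂ} :
    PS α β = PS α' β' ↔ (α = α' ∧ β = β') ∨ (α = β' ∧ β = α') := by
  constructor
  · intro h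
    by_contra h1
    rw [not_or] at h1
    have := inner_PS α β α' β'
    rw [if_neg h1.1, if_neg h1.2, add_zero, ← h, classInner_self_eq_zero] at this
    have h2 := PS_one α β
    rw [this] at h2
    exact q_add_ne_zero h2.symm
  · rintro (⟨rfl, rfl⟩ | ⟨rfl, rfl⟩)
    · rfl
    · exact PS_comm _ _

/-- the linear characters -/
noncomputable def Lm (α : MulChar F ℂ) : GL (Fin 2) F → ℂ :=
  fun g => α (GeneralLinearGroup.det g : Fˣ)

theorem irr_Lm (α : MulChar F ℂ) : IsIrrCharacter _ (Lm α) :=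
  isIrrCharacter_linear (α.toUnitHom.comp GeneralLinearGroup.det)

theorem Lm_ut (α : MulChar F ℂ) (a d : Fˣ) (x : F) : Lm α (ut a x d) = α a * α d := by
  simp [Lm, det_ut]

theorem Lm_one (α : MulChar F ℂ) : Lm α 1 = 1 := by simp [Lm]

theorem Lm_one_apply (g : GL (Fin 2) F) : Lm (1 : MulChar F ℂ) g = 1 := MulChar.one_apply_coe _

theorem norm_Lm (α : MulChar F ℂ) (g : GL (Fin 2) F) : ‖Lm α g‖ = 1 :=
  norm_linear (α.toUnitHom.comp GeneralLinearGroup.det) g

theorem Lm_ne_zero (α : MulChar F ℂ) (g : GL (Fin 2) F) : Lm α g ≠ 0 := by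
  rw [← norm_ne_zero_iff, norm_Lm]; exact one_ne_zero

theorem Lm_inj {α β : MulChar F ℂ} (h : Lm α = Lm β) : α = β :=
  MulChar.ext fun a => by simpa [Lm_ut] using congrFun h (ut a 0 1)

theorem PS_mul_Lm (α β γ : MulChar F ℂ) : PS α β * Lm γ = PS (α * γ) (β * γ) := by
  refine gl_class_ext ((isClass_PS _ _).mul (irr_Lm _).isClassFunction) (isClass_PS _ _)
    (fun a x d => ?_) fun g h => by simp [PS_ell _ _ h]
  simp only [Pi.mul_apply, PS_ut, Lm_ut, MulChar.mul_apply]; ring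

/-- twists of the Steinberg character -/
noncomputable def Stb (α : MulChar F ℂ) : GL (Fin 2) F → ℂ := PS α α - Lm α

theorem inner_PS_Lm (α β γ : MulChar F ℂ) :
    classInner (PS α β) (Lm γ) = if α = γ ∧ β = γ then 1 else 0 := by
  rw [PS, inner_indBo _ (irr_Lm _).isClassFunction]
  simp only [ut00, ut11, Lm_ut, map_mul]
  have : ∀ a d : Fˣ, ∑ x : F, α a * β d * (conj (γ a) * conj (γ d))
      = Fintype.card F * ((α a * conj (γ a)) * (β d * conj (γ d))) := fun a d => by
    simp; ring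
  simp only [this, ← mul_sum, ← sum_mul, sum_units_mc_conj]
  have h1 := q_ne_zero (F := F)
  have h2 := q_sub_ne_zero (F := F)
  simp only [ite_and]
  split_ifs <;> field_simp <;> ring

theorem Stb_one (α : MulChar F ℂ) : Stb α 1 = Fintype.card F := by simp [Stb, PS_one, Lm_one]

theorem isGen_Stb (α : MulChar F ℂ) : IsGeneralizedCharacter _ (Stb α) :=
  (isChar_PS _ _).isGen.sub (irr_Lm _).isGen

theorem irr_Stb (α : MulChar F ℂ) : IsIrrCharacter _ (Stb α) := by
  refine (isGen_Stb α).irr_of_re_pos ?_ (by simp [Stb_one])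
  rw [Stb, classInner_sub_left, classInner_sub_right, classInner_sub_right, inner_PS,
    (irr_Lm α).isGen.inner_comm (isChar_PS _ _).isGen, inner_PS_Lm, (irr_Lm α).inner_self]
  simp

theorem Stb_ut (α : MulChar F ℂ) (a d : Fˣ) (x : F) : Stb α (ut a x d) = nn a x d * (α a * α d) := by
  simp [Stb, PS_ut, Lm_ut, mul_comm]

theorem Stb_ell (α : MulChar F ℂ) {g : GL (Fin 2) F} (h : Ell g) : Stb α g = -Lm α g := by
  simp [Stb, PS_ell _ _ h]

theorem Stb_inj {α β : MulChar F ℂ} (h : Stb α = Stb β) : α = β := by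
  refine MulChar.ext fun a => ?_
  by_cases e : a = 1
  · simp [e]
  · simpa [Stb_ut, nn, e] using congrFun h (ut a 0 1)

theorem PS_self (α : MulChar F ℂ) : PS α α = Lm α + Stb α := by simp [Stb]

end Cfsg.Agent.H7
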