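import Cfsg.Agent.H7.GL2a
import Cfsg.Agent.H3.Orth

/-! Characters of `GL₂(q)`: the discrete series and the classification. -/

set_option autoImplicit false
set_option linter.unusedSectionVars false

namespace Cfsg.Agent.H7

open Cfsg Cfsg.Agent.H3 Cfsg.Agent.H4 Finset Matrix
open scoped ComplexConjugate MatrixGroups

theorem indFun_two {G : Type*} [Group G] [Fintype G] {H : Subgroup G} (θ : H → ℂ) {c c' : H}
    (h : Subgroup.centralizer {(c : G)} = H) (h1 : c' ≠ c) (h2 : IsConj (c : G) c')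
    (h3 : ∀ k : H, IsConj (c : G) k → k = c ∨ k = c') : indFun H θ c = θ c + θ c' := by
  classical
  rw [indFun_apply', sum_conj_eq, h, nsmul_eq_mul, inv_mul_cancel_left₀ card_ne_zero,
    ← extendByZero_coe θ c, ← extendByZero_coe θ c', ← sum_pair (fun e => h1 (Subtype.ext e.symm))]
  symm
  refine sum_subset (fun y hy => ?_) fun y hy hy' => extendByZero_of_not_mem _ fun e => hy' ?_
  · simp only [mem_insert, mem_singleton] at hy
    rcases hy with rfl | rfl
    · exact mem_filter.2 ⟨mem_univ _, IsConj.refl _⟩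
    · exact mem_filter.2 ⟨mem_univ _, h2⟩
  · rcases h3 ⟨y, e⟩ (mem_filter.1 hy).2 with e1 | e1
    · exact mem_insert.2 (Or.inl (congrArg Subtype.val e1))
    · exact mem_insert.2 (Or.inr (mem_singleton.2 (congrArg Subtype.val e1)))

variable {F : Type*} [Field F]

/-- the adjugate -/
noncomputable def adj (g : GL (Fin 2) F) : GL (Fin 2) F :=
  gm (g 1 1) (-g 0 1) (-g 1 0) (g 0 0) (by convert gl_det_ne g using 1; ring)

@[simp] theorem adj00 (g : GL (Fin 2) F) : adj g 0 0 = g 1 1 := rfl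
@[simp] theorem adj01 (g : GL (Fin 2) F) : adj g 0 1 = -g 0 1 := rfl
@[simp] theorem adj10 (g : GL (Fin 2) F) : adj g 1 0 = -g 1 0 := rfl
@[simp] theorem adj11 (g : GL (Fin 2) F) : adj g 1 1 = g 0 0 := rfl

theorem adj_mul (g h : GL (Fin 2) F) : adj (g * h) = adj h * adj g := by
  apply gl_ext <;> simp only [gl_mul_apply, adj00, adj01, adj10, adj11] <;> ring

theorem adj_adj (g : GL (Fin 2) F) : adj (adj g) = g := by apply gl_ext <;> simp

theorem adj_one : adj (1 : GL (Fin 2) F) = 1 := by apply gl_ext <;> simp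

theorem det_adj (g : GL (Fin 2) F) : GeneralLinearGroup.det (adj g) = GeneralLinearGroup.det g := by
  ext; rw [gl_det, gl_det]; simp; ring

theorem adj_eq_inv {g : GL (Fin 2) F} (h : GeneralLinearGroup.det g = 1) : adj g = g⁻¹ := by
  have := gl_det g
  rw [h, Units.val_one] at this
  rw [eq_inv_iff_mul_eq_one]
  apply gl_ext <;> simp only [gl_mul_apply, adj00, adj01, adj10, adj11] <;> simp <;>
    first | linear_combination -this | ring

theorem isConj_gl {g h : GL (Fin 2) F} (h1 : g 1 0 ≠ 0) (h2 : h 1 0 ≠ 0)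
    (ht : g 0 0 + g 1 1 = h 0 0 + h 1 1)
    (hd : g 0 0 * g 1 1 - g 0 1 * g 1 0 = h 0 0 * h 1 1 - h 0 1 * h 1 0) : IsConj g h := by
  rw [gm_eta g, gm_eta h]
  exact isConj_gm (fun e => h1 e.2.1) (fun e => h2 e.2.1) ht hd

theorem ut_scalar_comm (a : Fˣ) (g : GL (Fin 2) F) : g * ut a 0 a = ut a 0 a * g := by
  apply gl_ext <;> simp [gl_mul_apply, mul_comm]

theorem ut_mul (a d a' d' : Fˣ) (x x' : F) :
    ut a x d * ut a' x' d' = ut (a * a') (a * x' + x * d') (d * d') := by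
  apply gl_ext <;> simp [gl_mul_apply]

/-- the non-split torus -/
abbrev Tor (g0 : GL (Fin 2) F) : Subgroup (GL (Fin 2) F) := Subgroup.centralizer {g0}

theorem mem_Tor' {g0 c : GL (Fin 2) F} (h0 : g0 1 0 ≠ 0) : c ∈ Tor g0 ↔
    c 0 1 * g0 1 0 = g0 0 1 * c 1 0 ∧ (c 0 0 - c 1 1) * g0 1 0 = (g0 0 0 - g0 1 1) * c 1 0 := by
  rw [Subgroup.mem_centralizer_singleton_iff]
  constructor
  · intro e
    have e1 : (c * g0) 0 0 = (g0 * c) 0 0 := by rw [e]
    have e2 : (c * g0) 1 0 = (g0 * c) 1 0 := by rw [e]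
    simp only [gl_mul_apply] at e1 e2
    exact ⟨by linear_combination e1, by linear_combination -e2⟩
  · rintro ⟨e1, e2⟩
    apply gl_ext <;> simp only [gl_mul_apply]
    · linear_combination e1
    · apply mul_left_cancel₀ h0
      linear_combination g0 0 1 * e2 - (g0 0 0 - g0 1 1) * e1
    · linear_combination -e2
    · linear_combination -e1

/-- scalars in the torus -/
noncomputable def sc (g0 : GL (Fin 2) F) : Fˣ →* Tor g0 where
  toFun a := ⟨ut a 0 a, Subgroup.mem_centralizer_singleton_iff.2 (ut_scalar_comm a g0).symm⟩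
  map_one' := Subtype.ext ut_one
  map_mul' a b := Subtype.ext (by simp [ut_mul])

theorem sc_coe (g0 : GL (Fin 2) F) (a : Fˣ) : (sc g0 a : GL (Fin 2) F) = ut a 0 a := rfl

theorem sc_injective (g0 : GL (Fin 2) F) : Function.Injective (sc g0) := fun _ _ e =>
  (ut_inj.1 (congrArg Subtype.val e)).1

/-- the determinant on the torus -/
noncomputable def dT (g0 : GL (Fin 2) F) : Tor g0 →* Fˣ := GeneralLinearGroup.det.comp (Tor g0).subtype

theorem dT_apply (g0 : GL (Fin 2) F) (c : Tor g0) : dT g0 c = GeneralLinearGroup.det (c : GL (Fin 2) F) := rfl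

variable {g0 : GL (Fin 2) F} [h0 : Fact (Ell g0)]

theorem mem_Tor {c : GL (Fin 2) F} : c ∈ Tor g0 ↔
    c 0 1 * g0 1 0 = g0 0 1 * c 1 0 ∧ (c 0 0 - c 1 1) * g0 1 0 = (g0 0 0 - g0 1 1) * c 1 0 :=
  mem_Tor' h0.out.ne

theorem te_det {x y : F} (h : ¬ (x = 0 ∧ y = 0)) :
    (x + y * g0 0 0) * (x + y * g0 1 1) - y * g0 0 1 * (y * g0 1 0) ≠ 0 := by
  by_cases hy : y = 0
  · subst hy; simpa using h
  · intro e
    apply h0.out (-x / y)
    field_simp
    linear_combination e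

/-- elements of the torus -/
noncomputable def te (g0 : GL (Fin 2) F) [Fact (Ell g0)] (x y : F) (h : ¬ (x = 0 ∧ y = 0)) : Tor g0 :=
  ⟨gm (x + y * g0 0 0) (y * g0 0 1) (y * g0 1 0) (x + y * g0 1 1) (te_det h),
    mem_Tor.2 ⟨by simp; ring, by simp; ring⟩⟩

@[simp] theorem te00 {x y : F} {h : ¬ (x = 0 ∧ y = 0)} :
    (te g0 x y h : GL (Fin 2) F) 0 0 = x + y * g0 0 0 := rfl
@[simp] theorem te01 {x y : F} {h : ¬ (x = 0 ∧ y = 0)} :
    (te g0 x y h : GL (Fin 2) F) 0 1 = y * g0 0 1 := rfl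
@[simp] theorem te10 {x y : F} {h : ¬ (x = 0 ∧ y = 0)} :
    (te g0 x y h : GL (Fin 2) F) 1 0 = y * g0 1 0 := rfl
@[simp] theorem te11 {x y : F} {h : ¬ (x = 0 ∧ y = 0)} :
    (te g0 x y h : GL (Fin 2) F) 1 1 = x + y * g0 1 1 := rfl

theorem te_surj (c : Tor g0) : ∃ x y h, c = te g0 x y h := by
  obtain ⟨c, hc⟩ := c
  obtain ⟨e1, e2⟩ := mem_Tor.1 hc
  have h1 := h0.out.ne
  have e3 : c 0 1 = c 1 0 / g0 1 0 * g0 0 1 := by field_simp; linear_combination e1
  have e4 : c 1 1 = (c 0 0 - c 1 0 / g0 1 0 * g0 0 0) + c 1 0 / g0 1 0 * g0 1 1 := by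
    field_simp; linear_combination -e2
  refine ⟨c 0 0 - c 1 0 / g0 1 0 * g0 0 0, c 1 0 / g0 1 0, fun e => gl_det_ne c ?_,
    Subtype.ext (gl_ext (by simp) e3 (by simp [h1]) e4)⟩
  rw [e3, e4, e.1, e.2]; simp

theorem te_inj {x y x' y' : F} {h : ¬ (x = 0 ∧ y = 0)} {h' : ¬ (x' = 0 ∧ y' = 0)} :
    te g0 x y h = te g0 x' y' h' ↔ x = x' ∧ y = y' := by
  constructor
  · intro e
    have e1 := congrArg (fun c : Tor g0 => (c : GL (Fin 2) F) 0 0) e
    have e2 := congrArg (fun c : Tor g0 => (c : GL (Fin 2) F) 1 0) e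
    simp only [te00, te10] at e1 e2
    have := mul_right_cancel₀ h0.out.ne e2
    subst this
    exact ⟨add_right_cancel e1, rfl⟩
  · rintro ⟨rfl, rfl⟩; rfl

theorem tor_comm (a b : Tor g0) : a * b = b * a := by
  obtain ⟨x, y, h, rfl⟩ := te_surj a
  obtain ⟨x', y', h', rfl⟩ := te_surj b
  apply Subtype.ext
  apply gl_ext <;> simp only [Subgroup.coe_mul, gl_mul_apply, te00, te01, te10, te11] <;> ring

instance instCommTor : IsMulCommutative (Tor g0) := ⟨⟨tor_comm⟩⟩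

theorem tor_ell {c : Tor g0} (h : (c : GL (Fin 2) F) 1 0 ≠ 0) : Ell (c : GL (Fin 2) F) := by
  obtain ⟨x, y, h', rfl⟩ := te_surj c
  have hy : y ≠ 0 := left_ne_zero_of_mul h
  intro t e
  apply h0.out ((t - x) / y)
  simp only [te00, te01, te10, te11] at e
  field_simp
  linear_combination e

theorem tor_scalar {c : Tor g0} (h : (c : GL (Fin 2) F) 1 0 = 0) : ∃ a, c = sc g0 a := by
  obtain ⟨x, y, h', rfl⟩ := te_surj c
  have hy : y = 0 := (mul_eq_zero.1 h).resolve_right h0.out.ne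
  subst hy
  exact ⟨Units.mk0 x (by simpa using h'), Subtype.ext (by apply gl_ext <;> simp [sc_coe])⟩

theorem centralizer_tor {c : Tor g0} (h : (c : GL (Fin 2) F) 1 0 ≠ 0) : Tor (c : GL (Fin 2) F) = Tor g0 := by
  obtain ⟨x, y, h', rfl⟩ := te_surj c
  have hy : y ≠ 0 := left_ne_zero_of_mul h
  ext k
  rw [mem_Tor' h, mem_Tor]
  simp only [te00, te01, te10, te11]
  constructor
  · rintro ⟨e1, e2⟩
    exact ⟨mul_left_cancel₀ hy (by linear_combination e1), mul_left_cancel₀ hy (by linear_combination e2)⟩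
  · rintro ⟨e1, e2⟩
    exact ⟨by linear_combination y * e1, by linear_combination y * e2⟩

/-- conjugation on the torus -/
noncomputable def bar (g0 : GL (Fin 2) F) [Fact (Ell g0)] : Tor g0 →* Tor g0 where
  toFun c := ⟨adj c, by
    obtain ⟨e1, e2⟩ := mem_Tor.1 c.2
    exact mem_Tor.2 ⟨by simp only [adj01, adj10]; linear_combination -e1,
      by simp only [adj00, adj10, adj11]; linear_combination -e2⟩⟩
  map_one' := Subtype.ext adj_one
  map_mul' a b := by rw [tor_comm a b]; exact Subtype.ext (adj_mul _ _)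

theorem bar_coe (c : Tor g0) : (bar g0 c : GL (Fin 2) F) = adj c := rfl

theorem bar_bar (c : Tor g0) : bar g0 (bar g0 c) = c := Subtype.ext (adj_adj _)

theorem bar_sc (a : Fˣ) : bar g0 (sc g0 a) = sc g0 a :=
  Subtype.ext (by apply gl_ext <;> simp [bar_coe, sc_coe])

theorem dT_bar (c : Tor g0) : dT g0 (bar g0 c) = dT g0 c := det_adj _

theorem bar_eq_inv {c : Tor g0} (h : dT g0 c = 1) : bar g0 c = c⁻¹ := Subtype.ext (adj_eq_inv h)

theorem isConj_bar (c : Tor g0) : IsConj (c : GL (Fin 2) F) (bar g0 c) := by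
  by_cases h : (c : GL (Fin 2) F) 1 0 = 0
  · obtain ⟨a, rfl⟩ := tor_scalar h; rw [bar_sc]
  · exact isConj_gl h (by simpa [bar_coe] using h) (by simp [bar_coe, add_comm]) (by simp [bar_coe]; ring)

theorem bar_ne [Finite F] {c : Tor g0} (h : (c : GL (Fin 2) F) 1 0 ≠ 0) : bar g0 c ≠ c := fun e => by
  have e1 := congrArg (fun c : Tor g0 => (c : GL (Fin 2) F) 0 0) e
  have e2 := congrArg (fun c : Tor g0 => (c : GL (Fin 2) F) 1 0) e
  simp only [bar_coe, adj00, adj10] at e1 e2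
  have h2 : (2 : F) = 0 := mul_right_cancel₀ h (by linear_combination -e2)
  obtain ⟨s, hs⟩ := isSquare_of_two_eq_zero h2 ((c : GL (Fin 2) F) 0 1 * (c : GL (Fin 2) F) 1 0)
  exact tor_ell h ((c : GL (Fin 2) F) 0 0 - s) (by rw [e1, hs]; ring)

theorem eq_or_bar {c k : Tor g0} (e : IsConj (c : GL (Fin 2) F) k) : k = c ∨ k = bar g0 c := by
  obtain ⟨e1, e2⟩ := tr_det_of_isConj e
  obtain ⟨x, y, h, rfl⟩ := te_surj c
  obtain ⟨x', y', h', rfl⟩ := te_surj k
  simp only [te00, te01, te10, te11] at e1 e2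
  by_contra hn
  rw [not_or] at hn
  have a1 : ¬ (x' - x = 0 ∧ y' - y = 0) := fun e => hn.1 (te_inj.2 ⟨sub_eq_zero.1 e.1, sub_eq_zero.1 e.2⟩)
  have a2 : ¬ (x' - x - y * (g0 0 0 + g0 1 1) = 0 ∧ y' + y = 0) := fun e => hn.2 (Subtype.ext (by
    have b1 : x' = x + y * (g0 0 0 + g0 1 1) := by linear_combination e.1
    have b2 : y' = -y := by linear_combination e.2
    apply gl_ext <;> simp only [bar_coe, adj00, adj01, adj10, adj11, te00, te01, te10, te11, b1, b2] <;> ring))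
  have a3 := gl_det_ne ((te g0 _ _ a1 * te g0 _ _ a2 : Tor g0) : GL (Fin 2) F)
  apply a3
  have b1 : ((te g0 _ _ a1 * te g0 _ _ a2 : Tor g0) : GL (Fin 2) F) 0 0 = 0 := by
    simp only [Subgroup.coe_mul, gl_mul_apply, te00, te01, te10, te11]
    linear_combination (x' + y' * g0 0 0) * -e1 + e2
  have b2 : ((te g0 _ _ a1 * te g0 _ _ a2 : Tor g0) : GL (Fin 2) F) 1 0 = 0 := by
    simp only [Subgroup.coe_mul, gl_mul_apply, te00, te01, te10, te11]
    linear_combination (y' * g0 1 0) * -e1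
  rw [b1, b2]; simp

theorem dT_surj [Finite F] : Function.Surjective (dT g0) := fun m => by
  by_cases h2 : (2 : F) = 0
  · obtain ⟨s, hs⟩ := isSquare_of_two_eq_zero h2 (m : F)
    have : s ≠ 0 := by rintro rfl; exact m.ne_zero (by simpa using hs)
    exact ⟨sc g0 (Units.mk0 s this), by ext; simp [dT_apply, sc_coe, det_ut, hs]⟩
  · have h1 : 4 * (g0 0 0 * g0 1 1 - g0 0 1 * g0 1 0) - (g0 0 0 + g0 1 1) ^ 2 ≠ 0 := fun e =>
      h0.out ((g0 0 0 + g0 1 1) / 2) (by field_simp; linear_combination e)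
    obtain ⟨u, v, huv⟩ := exists_binary_eq one_ne_zero h1 (m : F)
    refine ⟨te g0 (u - (g0 0 0 + g0 1 1) * v) (2 * v) fun e => m.ne_zero ?_, ?_⟩
    · have hv : v = 0 := (mul_eq_zero.1 e.2).resolve_left h2
      have hu : u = 0 := by simpa [hv] using e.1
      rw [← huv, hu, hv]; simp
    · ext
      rw [dT_apply, gl_det]
      simp only [te00, te01, te10, te11]
      linear_combination huv

theorem hilbert90 {c : Tor g0} (h : dT g0 c = 1) : ∃ e, c * bar g0 e = e := by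
  have h1 := gl_det (c : GL (Fin 2) F)
  rw [← dT_apply, h, Units.val_one] at h1
  obtain ⟨x, y, h', rfl⟩ := te_surj c
  simp only [te00, te01, te10, te11] at h1
  by_cases e : 1 + x = 0 ∧ y = 0
  · obtain ⟨e1, rfl⟩ := e
    by_cases h2 : (2 : F) = 0
    · refine ⟨1, Subtype.ext ?_⟩
      apply gl_ext <;> simp <;> linear_combination e1 - h2
    · refine ⟨te g0 (-(g0 0 0 + g0 1 1)) 2 fun e => h2 e.2, Subtype.ext ?_⟩
      have : x = -1 := by linear_combination e1
      apply gl_ext <;> simp only [Subgroup.coe_mul, gl_mul_apply, bar_coe, adj00, adj01, adj10, adj11,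
        te00, te01, te10, te11, this] <;> ring
  · refine ⟨te g0 _ _ e, Subtype.ext ?_⟩
    apply gl_ext <;> simp only [Subgroup.coe_mul, gl_mul_apply, bar_coe, adj00, adj01, adj10, adj11,
        te00, te01, te10, te11] <;> first | ring1 | linear_combination -h1

variable [Fintype F] [DecidableEq F]

noncomputable instance instFintypeTor (g : GL (Fin 2) F) : Fintype (Tor g) := Fintype.ofFinite _

theorem card_Tor : Nat.card (Tor g0) = Fintype.card F ^ 2 - 1 := by
  have : {v : F × F // ¬ (v.1 = 0 ∧ v.2 = 0)} ≃ Tor g0 := Equiv.ofBijective (fun v => te g0 _ _ v.2)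
    ⟨fun v w e => Subtype.ext (Prod.ext (te_inj.1 e).1 (te_inj.1 e).2), fun c => by
      obtain ⟨x, y, h, rfl⟩ := te_surj c; exact ⟨⟨(x, y), h⟩, rfl⟩⟩
  rw [← Nat.card_congr this, Nat.card_eq_fintype_card, Fintype.card_subtype_compl]
  rw [Fintype.card_prod, pow_two]
  congr 1
  rw [Fintype.card_eq_one_iff]
  exact ⟨⟨0, by simp⟩, fun v => Subtype.ext (Prod.ext v.2.1 v.2.2)⟩

theorem one_le_q_sq : 1 ≤ Fintype.card F ^ 2 := Nat.one_le_pow _ _ Fintype.card_pos

theorem cast_card_Tor : (Nat.card (Tor g0) : ℂ) = Fintype.card F ^ 2 - 1 := by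
  rw [card_Tor, Nat.cast_sub one_le_q_sq]; simp

theorem cast_card_GL : (Nat.card (GL (Fin 2) F) : ℂ) =
    (Fintype.card F ^ 2 - 1) * (Fintype.card F ^ 2 - Fintype.card F) := by
  rw [card_GL_two, Nat.cast_mul, Nat.cast_sub one_le_q_sq, Nat.cast_sub (Nat.le_self_pow two_ne_zero _)]
  simp

theorem qq_ne_zero : (Fintype.card F : ℂ) ^ 2 - 1 ≠ 0 := by
  rw [show (Fintype.card F : ℂ) ^ 2 - 1 = (Fintype.card F + 1) * (Fintype.card F - 1) by ring]
  exact mul_ne_zero q_add_ne_zero q_sub_ne_zero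

theorem indT_scalar (θ : Tor g0 → ℂ) (a : Fˣ) :
    indFun (Tor g0) θ (ut a 0 a) = (Fintype.card F ^ 2 - Fintype.card F) * θ (sc g0 a) := by
  rw [indFun_apply']
  have : ∀ x : GL (Fin 2) F, x * ut a 0 a * x⁻¹ = sc g0 a := fun x => by
    rw [ut_scalar_comm, mul_inv_cancel_right, sc_coe]
  simp only [this, extendByZero_coe, sum_const, card_univ, nsmul_eq_mul]
  rw [← Nat.card_eq_fintype_card, cast_card_GL, cast_card_Tor]
  have := qq_ne_zero (F := F)
  field_simp

theorem indT_ut (θ : Tor g0 → ℂ) {a d : Fˣ} {x : F} (h : ¬ (a = d ∧ x = 0)) :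
    indFun (Tor g0) θ (ut a x d) = 0 := by
  refine indFun_eq_zero_of_not_conj _ fun y hy => ?_
  by_cases h1 : (y * ut a x d * y⁻¹) 1 0 = 0
  · obtain ⟨b, hb⟩ := tor_scalar (c := ⟨_, hy⟩) h1
    have := congrArg Subtype.val hb
    simp only [sc_coe] at this
    rw [mul_inv_eq_iff_eq_mul, ← ut_scalar_comm, mul_right_inj, ut_inj] at this
    exact h ⟨this.1.trans this.2.2.symm, this.2.1⟩
  · exact not_ell_ut a d x ((tor_ell (c := ⟨_, hy⟩) h1).conj (isConj_iff.2 ⟨y, rfl⟩).symm)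

theorem indT_tor (θ : Tor g0 → ℂ) {c : Tor g0} (h : (c : GL (Fin 2) F) 1 0 ≠ 0) :
    indFun (Tor g0) θ c = θ c + θ (bar g0 c) :=
  indFun_two θ (centralizer_tor h) (bar_ne h) (isConj_bar c) fun _ => eq_or_bar

/-- central character -/
noncomputable def zc (θ : Lin (Tor g0)) : MulChar F ℂ := MulChar.ofUnitHom (θ.toHom.comp (sc g0))

theorem zc_apply (θ : Lin (Tor g0)) (a : Fˣ) : zc θ a = θ (sc g0 a) := MulChar.ofUnitHom_coe _ _

/-- the discrete series -/
noncomputable def Cu (θ : Lin (Tor g0)) : GL (Fin 2) F → ℂ :=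
  PS (zc θ) 1 * (Stb 1 - Lm 1) - indFun (Tor g0) θ

theorem isGen_Cu (θ : Lin (Tor g0)) : IsGeneralizedCharacter _ (Cu θ) :=
  ((isChar_PS _ _).isGen.mul ((isGen_Stb _).sub (irr_Lm _).isGen)).sub θ.isGen.ind

theorem isClass_Cu (θ : Lin (Tor g0)) : IsClassFunction _ (Cu θ) := (isGen_Cu θ).isClassFunction

theorem Cu_ut (θ : Lin (Tor g0)) (a d : Fˣ) (x : F) :
    Cu θ (ut a x d) = (nn a x d - 1) * θ (sc g0 a) := by
  simp only [Cu, Pi.sub_apply, Pi.mul_apply, PS_ut, Stb_ut, Lm_ut, MulChar.one_apply_coe, zc_apply]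
  by_cases h : a = d ∧ x = 0
  · obtain ⟨rfl, rfl⟩ := h
    rw [indT_scalar]; simp [nn]; ring
  · rw [indT_ut _ h, nn]
    split_ifs with h1 h2
    · exact absurd ⟨h1, h2⟩ h
    · simp
    · simp

theorem Cu_one (θ : Lin (Tor g0)) : Cu θ 1 = Fintype.card F - 1 := by
  rw [← ut_one, Cu_ut]; simp [nn]

theorem Cu_ell (θ : Lin (Tor g0)) {g : GL (Fin 2) F} (h : Ell g) : Cu θ g = -indFun (Tor g0) θ g := by
  simp [Cu, PS_ell _ _ h]

theorem Cu_tor (θ : Lin (Tor g0)) (c : Tor g0) : Cu θ c = -(θ c + θ (bar g0 c)) +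
    if (c : GL (Fin 2) F) 1 0 = 0 then (Fintype.card F + 1) * θ c else 0 := by
  split_ifs with h
  · obtain ⟨a, rfl⟩ := tor_scalar h
    rw [sc_coe, Cu_ut, bar_sc]; simp [nn]; ring
  · rw [Cu_ell _ (tor_ell h), indT_tor _ h, add_zero]

theorem sum_tor_scalar (f : Tor g0 → ℂ) :
    ∑ c : Tor g0, (if (c : GL (Fin 2) F) 1 0 = 0 then f c else 0) = ∑ a : Fˣ, f (sc g0 a) := by
  rw [← sum_filter]
  symm
  refine sum_bij (fun a _ => sc g0 a) (by simp [sc_coe]) (fun a _ b _ e => sc_injective g0 e)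
    (fun c hc => ?_) fun _ _ => rfl
  obtain ⟨a, rfl⟩ := tor_scalar (mem_filter.1 hc).2
  exact ⟨a, mem_univ _, rfl⟩

theorem sum_nn_sq (a : Fˣ) : ∑ d : Fˣ, ∑ x : F, (nn a x d - 1) * (nn a x d - 1) =
    Fintype.card F * (Fintype.card F - 1) := by
  rw [sum_eq_single a (fun d _ h => by simp [nn, h.symm]) (by simp), ← add_sum_erase _ _ (mem_univ 0),
    sum_congr rfl (g := fun _ => 1) fun x hx => by simp [nn, (mem_erase.1 hx).1]]
  simp [nn, Nat.cast_sub Fintype.card_pos]; ring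

theorem inner_A (α : MulChar F ℂ) {ψ : GL (Fin 2) F → ℂ} (h : IsClassFunction _ ψ) :
    classInner (PS α 1 * (Stb 1 - Lm 1)) ψ = ((Fintype.card F - 1 : ℂ) ^ 2 * Fintype.card F)⁻¹ *
      ∑ a : Fˣ, ∑ d : Fˣ, ∑ x : F, α a * (nn a x d - 1) * conj (ψ (ut a x d)) := by
  rw [PS, ← indFun_mul_res _ ((isGen_Stb _).sub (irr_Lm _).isGen).isClassFunction, inner_indBo _ h]
  simp [Stb_ut, Lm_ut]

theorem inner_Cu (θ θ' : Lin (Tor g0)) : classInner (Cu θ) (Cu θ') =
    (if θ = θ' then 1 else 0) + (if θ = θ'.comp (bar g0) then 1 else 0) := by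
  rw [Cu, classInner_sub_left, inner_A _ (isClass_Cu _), classInner_indFun_left _ (isClass_Cu _),
    ← Lin.inner_eq, ← Lin.inner_eq, classInner_def, classInner_def, classInner_def, cast_card_Tor]
  simp only [Cu_ut, Cu_tor, map_mul, map_sub, conj_nn, map_one, zc_apply, map_add, map_neg, mul_add,
    sum_add_distrib, mul_neg, sum_neg_distrib, Lin.comp_apply, apply_ite conj, map_zero, map_natCast,
    mul_ite, mul_zero, sum_tor_scalar]
  have : ∀ a : Fˣ, ∑ d : Fˣ, ∑ x : F, θ (sc g0 a) * (nn a x d - 1) * ((nn a x d - 1) * conj (θ' (sc g0 a)))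
      = Fintype.card F * (Fintype.card F - 1) * (θ (sc g0 a) * conj (θ' (sc g0 a))) := fun a => by
    rw [← sum_nn_sq a, sum_mul]
    refine sum_congr rfl fun d _ => ?_
    rw [sum_mul]
    exact sum_congr rfl fun x _ => by ring
  simp only [this, mul_left_comm (θ _), ← mul_sum]
  have h1 := q_ne_zero (F := F)
  have h2 := q_sub_ne_zero (F := F)
  have h3 := q_add_ne_zero (F := F)
  rw [show (Fintype.card F : ℂ) ^ 2 - 1 = (Fintype.card F + 1) * (Fintype.card F - 1) by ring]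
  field_simp
  ring

theorem sum_nn_sub (a d : Fˣ) : ∑ x : F, (nn a x d - 1) = 0 := by
  simp [sum_sub_distrib, sum_nn]

theorem inner_PS_Cu (α β : MulChar F ℂ) (θ : Lin (Tor g0)) : classInner (PS α β) (Cu θ) = 0 := by
  rw [PS, inner_indBo _ (isClass_Cu _)]
  simp only [Cu_ut, map_mul, map_sub, conj_nn, map_one, ut00, ut11, ← mul_sum, ← sum_mul, sum_nn_sub]
  simp

theorem irr_Cu {θ : Lin (Tor g0)} (h : θ ≠ θ.comp (bar g0)) : IsIrrCharacter _ (Cu θ) := by
  refine (isGen_Cu θ).irr_of_re_pos (by rw [inner_Cu]; simp [h]) ?_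
  rw [Cu_one, ← cast_card_units]; simp

theorem comp_bar_bar (θ : Lin (Tor g0)) : (θ.comp (bar g0)).comp (bar g0) = θ :=
  Lin.ext fun c => by simp [bar_bar]

theorem eq_of_inner_two {G : Type*} [Group G] [Fintype G] {φ ψ : G → ℂ} {r : ℝ}
    (h1 : classInner φ φ = r) (h2 : classInner ψ ψ = r) (h3 : classInner φ ψ = r) : φ = ψ :=
  eq_of_inner_eq_nrm (by rw [nrm_eq_of_inner h1, h3]; simp) (by rw [nrm_eq_of_inner h2, h3]; simp)

theorem Cu_bar (θ : Lin (Tor g0)) : Cu (θ.comp (bar g0)) = Cu θ := by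
  by_cases h : θ = θ.comp (bar g0)
  · rw [← h]
  · refine eq_of_inner_two (r := 1) ?_ ?_ ?_ <;> rw [inner_Cu] <;> simp [h, comp_bar_bar, Ne.symm h]

theorem Cu_eq_iff {θ θ' : Lin (Tor g0)} : Cu θ = Cu θ' ↔ θ = θ' ∨ θ = θ'.comp (bar g0) := by
  constructor
  · intro h
    by_contra h1
    rw [not_or] at h1
    have := inner_Cu θ θ'
    rw [if_neg h1.1, if_neg h1.2, add_zero, ← h, classInner_self_eq_zero] at this
    have h2 := Cu_one θ
    rw [this] at h2
    exact q_sub_ne_zero h2.symm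
  · rintro (rfl | rfl)
    · rfl
    · exact Cu_bar _

/-- characters of the torus factoring through the determinant -/
noncomputable def lam (g0 : GL (Fin 2) F) (γ : MulChar F ℂ) : Lin (Tor g0) :=
  Lin.mk (γ.toUnitHom.comp (dT g0))

theorem lam_apply (γ : MulChar F ℂ) (c : Tor g0) : lam g0 γ c = γ (dT g0 c) := rfl

theorem lam_eq (γ : MulChar F ℂ) (c : Tor g0) : lam g0 γ c = Lm γ c := rfl

theorem lam_sc (γ : MulChar F ℂ) (a : Fˣ) : lam g0 γ (sc g0 a) = γ a * γ a := by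
  rw [lam_eq, sc_coe, Lm_ut]

theorem lam_bar (γ : MulChar F ℂ) : (lam g0 γ).comp (bar g0) = lam g0 γ :=
  Lin.ext fun c => by simp [lam_apply, dT_bar]

theorem lam_injective : Function.Injective (lam g0) := fun α β e => MulChar.ext fun a => by
  obtain ⟨c, rfl⟩ := dT_surj (g0 := g0) a
  rw [← lam_apply, e, lam_apply]

theorem exists_lam {θ : Lin (Tor g0)} (h : ∀ c, dT g0 c = 1 → θ c = 1) : ∃ γ, θ = lam g0 γ := by
  refine ⟨MulChar.ofUnitHom ((dT g0).liftOfSurjective dT_surj ⟨θ.toHom, fun c hc => ?_⟩),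
    Lin.ext fun c => ?_⟩
  · exact Units.ext (h c hc)
  · rw [lam_apply, MulChar.ofUnitHom_coe, MonoidHom.liftOfSurjective,
      MonoidHom.liftOfRightInverse_comp_apply]; rfl

theorem eq_bar_iff {θ : Lin (Tor g0)} : θ = θ.comp (bar g0) ↔ ∀ c, dT g0 c = 1 → θ c = 1 := by
  constructor
  · intro h c hc
    obtain ⟨e, he⟩ := hilbert90 hc
    have := congrArg θ he
    rw [map_mul, ← Lin.comp_apply, ← h] at this
    exact mul_right_cancel₀ (θ.apply_ne_zero e) (by simpa using this)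
  · intro h
    obtain ⟨γ, rfl⟩ := exists_lam h
    exact (lam_bar γ).symm

theorem Cu_mul_Lm (θ : Lin (Tor g0)) (γ : MulChar F ℂ) : Cu θ * Lm γ = Cu (θ * lam g0 γ) := by
  refine gl_class_ext ((isClass_Cu _).mul (irr_Lm _).isClassFunction) (isClass_Cu _)
    (fun a x d => ?_) fun g h => ?_
  · simp only [Pi.mul_apply, Cu_ut, Lm_ut, Lin.mul_apply, lam_sc]
    by_cases e : a = d
    · subst e; ring
    · simp [nn, e]
  · rw [Pi.mul_apply, Cu_ell _ h, Cu_ell _ h, neg_mul, ← Pi.mul_apply,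
      ← indFun_mul_res _ (irr_Lm _).isClassFunction]
    rfl

theorem inner_Cu_Lm (θ : Lin (Tor g0)) (γ : MulChar F ℂ) :
    classInner (Cu θ) (Lm γ) = -if θ = lam g0 γ then 1 else 0 := by
  rw [Cu, classInner_sub_left, inner_A _ (irr_Lm _).isClassFunction,
    classInner_indFun_left _ (irr_Lm _).isClassFunction, ← Lin.inner_eq]
  simp only [Lm_ut, ← mul_sum, ← sum_mul, sum_nn_sub]
  simp; rfl

theorem Cu_lam (γ : MulChar F ℂ) : Cu (lam g0 γ) = Stb γ - Lm γ := by
  have h1 : classInner (Stb γ) (Lm γ) = 0 := by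
    rw [Stb, classInner_sub_left, inner_PS_Lm, (irr_Lm γ).inner_self]; simp
  refine eq_of_inner_two (r := 2) ?_ ?_ ?_
  · rw [inner_Cu]; simp [lam_bar]; norm_num
  · rw [classInner_sub_left, classInner_sub_right, classInner_sub_right, h1, classInner_eq_zero_comm.1 h1,
      (irr_Lm γ).inner_self, (irr_Stb γ).inner_self]; norm_num
  · rw [Stb, classInner_sub_right, classInner_sub_right, inner_Cu_Lm,
      classInner_eq_zero_comm.1 (inner_PS_Cu _ _ _)]; norm_num

theorem exists_conj_tor {g : GL (Fin 2) F} (h : Ell g) : ∃ c : Tor g0, IsConj g c := by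
  by_contra hn
  have h1 := congrFun (Cu_lam (g0 := g0) 1) g
  rw [Cu_ell _ h, indFun_eq_zero_of_not_conj _ fun x hx => hn ⟨⟨_, hx⟩, isConj_iff.2 ⟨x, rfl⟩⟩] at h1
  simp [Stb_ell _ h, Lm_one_apply] at h1
  norm_num at h1

theorem two_reg : (2 : ℂ) • regChar (GL (Fin 2) F) =
    (Fintype.card F + 1 : ℂ) • ∑ α : MulChar F ℂ, ∑ β : MulChar F ℂ, PS α β +
      (Fintype.card F - 1 : ℂ) • ∑ θ : Lin (Tor g0), Cu θ := by
  refine gl_class_ext (isCharacter_regChar.isClassFunction.smul _)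
    (((isClassFunction_sum _ _ fun _ _ => isClassFunction_sum _ _ fun _ _ => isClass_PS _ _).smul _).add
      ((isClassFunction_sum _ _ fun _ _ => isClass_Cu _).smul _)) (fun a x d => ?_) fun g h => ?_
  · simp only [Pi.smul_apply, Pi.add_apply, Finset.sum_apply, PS_ut, Cu_ut, smul_eq_mul, sum_add_distrib,
      ← mul_sum, ← sum_mul, sum_mc, Units.val_eq_one]
    by_cases ha : a = 1
    · subst ha
      rw [map_one, sum_lin_one, cast_card_Tor]
      by_cases hd : d = 1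
      · subst hd
        by_cases hx : x = 0
        · subst hx
          rw [ut_one, regChar_one, cast_card_GL]; simp [nn]; ring
        · rw [regChar_of_ne (by simp [ut_eq_one, hx])]; simp [nn, hx]; ring
      · rw [regChar_of_ne (by simp [ut_eq_one, hd])]; simp [nn, hd, Ne.symm hd]
    · rw [regChar_of_ne (by simp [ut_eq_one, ha]), sum_lin fun e => ha (sc_injective g0 (by simpa using e))]
      simp [ha]
  · simp only [Pi.smul_apply, Pi.add_apply, Finset.sum_apply, PS_ell _ _ h, Cu_ell _ h, regChar_of_ne h.ne_one,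
      sum_neg_distrib, sum_const_zero]
    rw [← Finset.sum_apply, ← indFun_sum, indFun_eq_zero_of_forall _ fun x hx => ?_]
    · simp
    · rw [Finset.sum_apply, sum_lin fun e => h.ne_one ?_]
      simpa using congrArg Subtype.val e

theorem irr_GL2 (g0 : GL (Fin 2) F) [Fact (Ell g0)] {χ : GL (Fin 2) F → ℂ} (hχ : IsIrrCharacter _ χ) :
    (∃ α, χ = Lm α) ∨ (∃ α, χ = Stb α) ∨ (∃ α β, α ≠ β ∧ χ = PS α β) ∨
      ∃ θ : Lin (Tor g0), θ ≠ θ.comp (bar g0) ∧ χ = Cu θ := by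
  by_contra hn
  simp only [not_or, not_exists, not_and] at hn
  obtain ⟨h1, h2, h3, h4⟩ := hn
  have a1 : ∀ α, classInner (Lm α) χ = 0 := fun α => (irr_Lm α).inner_of_ne hχ (Ne.symm (h1 α))
  have a2 : ∀ α, classInner (Stb α) χ = 0 := fun α => (irr_Stb α).inner_of_ne hχ (Ne.symm (h2 α))
  have a3 : ∀ α β, classInner (PS α β) χ = 0 := fun α β => by
    by_cases e : α = β
    · subst e; rw [PS_self, classInner_add_left, a1, a2, add_zero]
    · exact (irr_PS e).inner_of_ne hχ (Ne.symm (h3 α β e))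
  have a4 : ∀ θ : Lin (Tor g0), classInner (Cu θ) χ = 0 := fun θ => by
    by_cases e : θ = θ.comp (bar g0)
    · obtain ⟨γ, rfl⟩ := exists_lam (eq_bar_iff.1 e)
      rw [Cu_lam, classInner_sub_left, a1, a2, sub_zero]
    · exact (irr_Cu e).inner_of_ne hχ (Ne.symm (h4 θ e))
  have := congrArg (classInner · χ) (two_reg (g0 := g0))
  simp only [classInner_add_left, classInner_smul_left, classInner_sum_left, a3, a4,
    classInner_regChar_left, hχ.isCharacter.conj_apply_one] at this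
  exact hχ.apply_one_ne_zero (by simpa using this)

theorem exists_ell_SL (F : Type*) [Field F] [Fintype F] :
    ∃ g : SL(2, F), Ell (SpecialLinearGroup.toGL g) := by
  classical
  obtain ⟨τ, hτ⟩ : ∃ τ : F, ∀ a : Fˣ, (a : F) + (a⁻¹ : Fˣ) ≠ τ := by
    by_contra h
    push Not at h
    have := Fintype.card_le_of_surjective (fun a : Fˣ => (a : F) + (a⁻¹ : Fˣ)) h
    rw [Fintype.card_units] at this
    have := Fintype.card_pos (α := F)
    omega
  refine ⟨sm 0 (-1) 1 τ (by simp), fun t e => ?_⟩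
  simp only [toGL_sm, gm00, gm01, gm10, gm11] at e
  have ht : t ≠ 0 := by rintro rfl; simp at e
  apply hτ (Units.mk0 t ht)
  simp only [Units.val_mk0, Units.val_inv_eq_inv_val]
  field_simp
  linear_combination e

theorem card_irr_eq_image {G : Type*} [Group G] {ι : Type*} (s : Finset ι) (f : ι → G → ℂ)
    [DecidableEq (G → ℂ)] (P : (G → ℂ) → Prop)
    (h1 : ∀ χ, IsIrrCharacter G χ → P χ → ∃ i ∈ s, f i = χ)
    (h2 : ∀ i ∈ s, IsIrrCharacter G (f i) ∧ P (f i)) :
    Nat.card {χ : IrrCharacter G // P χ} = (s.image f).card := by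
  have h : ∀ χ, (IsIrrCharacter G χ ∧ P χ) ↔ ∃ i ∈ s, f i = χ := fun χ =>
    ⟨fun e => h1 χ e.1 e.2, by rintro ⟨i, hi, rfl⟩; exact h2 i hi⟩
  rw [← Nat.card_eq_finsetCard]
  exact Nat.card_congr ⟨fun χ => ⟨χ.1.1, mem_image.2 ((h _).1 ⟨χ.1.2, χ.2⟩)⟩,
    fun χ => ⟨⟨χ.1, ((h _).2 (mem_image.1 χ.2)).1⟩, ((h _).2 (mem_image.1 χ.2)).2⟩,
    fun _ => rfl, fun _ => rfl⟩

end Cfsg.Agent.H7
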