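import Cfsg.Agent.H7.GL2b
import Cfsg.Agent.H3.Brauer2
import Cfsg.Agent.H3.Misc

/-! Characters of `SL₂(q)`. -/

set_option autoImplicit false
set_option linter.unusedSectionVars false

namespace Cfsg.Agent.H7

open Cfsg Cfsg.Agent.H3 Cfsg.Agent.H4 Finset Matrix
open scoped ComplexConjugate MatrixGroups

section general
variable {G : Type*} [Group G] [Fintype G]

theorem exists_two_of_inner {ρ : G → ℂ} (h : IsCharacter G ρ) (h2 : classInner ρ ρ = 2) :
    ∃ χ χ', IsIrrCharacter G χ ∧ IsIrrCharacter G χ' ∧ χ ≠ χ' ∧ ρ = χ + χ' := by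
  obtain ⟨χ, hχ, h0⟩ := h.isClassFunction.exists_irr_inner_ne_zero (by
    rintro rfl; rw [classInner_zero_left] at h2; exact two_ne_zero h2.symm)
  obtain ⟨n, hn⟩ := h.exists_nat_inner hχ.isCharacter
  have h3 : classInner (ρ - χ) (ρ - χ) = 3 - 2 * n := by
    rw [classInner_sub_left, classInner_sub_right, classInner_sub_right, h2, hn,
      hχ.isGen.inner_comm h.isGen, hn, hχ.inner_self]; ring
  have h4 := classInner_self_re_nonneg (ρ - χ)
  rw [h3] at h4
  have h5 : n = 1 := by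
    have : n ≠ 0 := by rintro rfl; exact h0 (by simpa using hn)
    have : (2 * n : ℝ) ≤ 3 := by simpa using h4
    have : 2 * n ≤ 3 := by exact_mod_cast this
    omega
  subst h5
  refine ⟨χ, ρ - χ, hχ, (h.sub_of_inner_ne_zero hχ h0).irr_of_inner_self (by rw [h3]; norm_num),
    fun e => ?_, by simp⟩
  have := hχ.inner_self
  rw [e, classInner_sub_left, ← e, hn, hχ.inner_self] at this
  simp at this

theorem isCyclic_lin (A : Type*) [Group A] [Finite A] [h : IsCyclic A] : IsCyclic (Lin A) := by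
  obtain ⟨z, hz⟩ := h.exists_generator
  refine isCyclic_of_injective_linear (G := Lin A)
    { toFun := fun i => i.toHom z, map_one' := rfl, map_mul' := fun _ _ => rfl }
    ((injective_iff_map_eq_one _).2 fun i hi => Lin.ext fun a => ?_)
  obtain ⟨k, rfl⟩ := hz a
  have : i.toHom (z ^ k) = 1 := by rw [map_zpow, show i.toHom z = 1 from hi, _root_.one_zpow]
  exact congrArg Units.val this

theorem card_sq_eq_one {X : Type*} [CommGroup X] [Fintype X] [IsCyclic X] [DecidableEq X] :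
    (univ.filter fun x : X => x ^ 2 = 1).card = (Fintype.card X).gcd 2 := by
  rw [← Nat.card_eq_fintype_card, ← IsCyclic.card_powMonoidHom_ker, ← Nat.card_eq_finsetCard]
  exact Nat.card_congr (Equiv.subtypeEquivRight fun x => by simp)

theorem card_image_inv {X Y : Type*} [CommGroup X] [Fintype X] [IsCyclic X] [DecidableEq X]
    [DecidableEq Y] (f : X → Y) (hf : ∀ x y, f x = f y ↔ x = y ∨ x = y⁻¹) :
    2 * ((univ.filter fun x : X => x ^ 2 ≠ 1).image f).card + (Fintype.card X).gcd 2 =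
      Fintype.card X := by
  rw [← card_eq_mul_card_image _ f 2 fun x hx => ?_, ← card_sq_eq_one, add_comm,
    card_filter_add_card_filter_not, card_univ]
  have hx' := (mem_filter.1 hx).2
  rw [card_eq_two]
  refine ⟨x, x⁻¹, fun e => hx' (by rw [pow_two]; exact mul_eq_one_iff_eq_inv.2 e), ?_⟩
  ext y
  simp only [mem_filter, mem_univ, true_and, hf, mem_insert, mem_singleton, and_iff_right_iff_imp]
  rintro (rfl | rfl)
  · exact hx'
  · simpa using hx'

theorem eq_of_sq_eq_one {X : Type*} [Group X] [Finite X] [IsCyclic X] {x y : X} (hx : x ^ 2 = 1)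
    (hx1 : x ≠ 1) (hy : y ^ 2 = 1) (hy1 : y ≠ 1) : x = y := by
  classical
  haveI := Fintype.ofFinite X
  by_contra h
  have := (card_le_card (s := {1, x, y}) fun z hz => by
    simp only [mem_insert, mem_singleton] at hz
    rcases hz with rfl | rfl | rfl <;> simp [*]).trans (IsCyclic.card_pow_eq_one_le (α := X) two_pos)
  rw [card_eq_three.2 ⟨1, x, y, hx1.symm, hy1.symm, h, rfl⟩] at this
  omega

theorem exists_sq_eq_one {X : Type*} [Group X] [Finite X] (h : 2 ∣ Nat.card X) :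
    ∃ x : X, x ^ 2 = 1 ∧ x ≠ 1 := by
  obtain ⟨x, hx⟩ := exists_prime_orderOf_dvd_card' 2 h
  exact ⟨x, hx ▸ pow_orderOf_eq_one x, fun e => by simp [e] at hx⟩

theorem sq_eq_one_iff_of_ne_zero' {x : ℂ} (h : x ^ 2 = 1) : x = 1 ∨ x = -1 :=
  mul_self_eq_one_iff.1 (by rwa [← pow_two])

theorem lin_sq_apply {A : Type*} [Group A] [Finite A] [h : IsCyclic A] {m : ℕ} (hm : Nat.card A = 2 * m)
    {η : Lin A} (h2 : η ^ 2 = 1) (h1 : η ≠ 1) (a : A) [Decidable (a ^ m = 1)] :
    η a = if a ^ m = 1 then 1 else -1 := by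
  obtain ⟨z, hz⟩ := h.exists_monoid_generator
  have h3 : η z = -1 := by
    have : η z ^ 2 = 1 := by rw [← Lin.pow_apply, h2, Lin.one_apply]
    refine (sq_eq_one_iff_of_ne_zero' this).resolve_left fun e => h1 (Lin.ext fun a => ?_)
    obtain ⟨k, rfl⟩ := hz a
    simp [e]
  have h4 : orderOf z = 2 * m := by
    rw [← hm]; exact orderOf_eq_card_of_forall_mem_powers hz
  have h5 : 0 < m := Nat.pos_of_ne_zero fun e => by
    have := Nat.card_pos (α := A); omega
  obtain ⟨k, rfl⟩ := hz a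
  simp only [← pow_mul, ← orderOf_dvd_iff_pow_eq_one, h4, Nat.mul_dvd_mul_iff_right h5, map_pow, h3,
    ← even_iff_two_dvd]
  split_ifs with e
  · exact e.neg_one_pow
  · exact (Nat.not_even_iff_odd.1 e).neg_one_pow

end general

variable {F : Type*} [Field F]

/-- restriction to `SL₂` -/
abbrev rs (φ : GL (Fin 2) F → ℂ) : SL(2, F) → ℂ := fun g => φ (SpecialLinearGroup.toGL g)

/-- the Borel subgroup of `SL₂` -/
abbrev B1 (F : Type*) [Field F] : Subgroup SL(2, F) := (Bo F).comap SpecialLinearGroup.toGL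

/-- upper triangular matrices of determinant one -/
def us (a : Fˣ) (x : F) : SL(2, F) := sm a x 0 (a⁻¹ : Fˣ) (by simp)

theorem toGL_us (a : Fˣ) (x : F) : SpecialLinearGroup.toGL (us a x) = ut a x a⁻¹ := Units.ext rfl

theorem us_one (x : F) : us 1 x = up x := by simp [us, up]

theorem us_neg (a : Fˣ) (x : F) : us (-a) x = -us a (-x) := by simp [us, neg_sm, inv_neg]

theorem up_zero : up (0 : F) = 1 := sm_one

theorem toGL_up (x : F) : SpecialLinearGroup.toGL (up x) = ut 1 x 1 := Units.ext rfl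

theorem tr_us (a : Fˣ) (x : F) : tr (us a x) = a + (a⁻¹ : Fˣ) := rfl

theorem us_mem (a : Fˣ) (x : F) : us a x ∈ B1 F := ut_mem a x a⁻¹

theorem exists_us {g : SL(2, F)} (h : g 1 0 = 0) : ∃ a x, g = us a x := by
  obtain ⟨a, x, d, e⟩ := exists_ut (g := SpecialLinearGroup.toGL g) h
  have := congrArg GeneralLinearGroup.det e
  rw [det_ut, SpecialLinearGroup.coeToGL_det, eq_comm, mul_eq_one_iff_inv_eq] at this
  subst this
  exact ⟨a, x, SpecialLinearGroup.toGL_injective (e.trans (toGL_us a x).symm)⟩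

theorem us_inj {a a' : Fˣ} {x x' : F} : us a x = us a' x' ↔ a = a' ∧ x = x' := by
  rw [← SpecialLinearGroup.toGL_injective.eq_iff, toGL_us, toGL_us, ut_inj]
  exact ⟨fun e => ⟨e.1, e.2.1⟩, fun e => ⟨e.1, e.2, by rw [e.1]⟩⟩

/-- coordinates on the Borel subgroup -/
noncomputable def b1Equiv : Fˣ × F ≃ B1 F :=
  Equiv.ofBijective (fun x => ⟨us x.1 x.2, us_mem _ _⟩) ⟨fun _ _ e =>
    Prod.ext (us_inj.1 (congrArg Subtype.val e)).1 (us_inj.1 (congrArg Subtype.val e)).2, by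
    rintro ⟨g, hg⟩
    obtain ⟨a, x, rfl⟩ := exists_us (g := g) (mem_Bo.1 hg)
    exact ⟨(a, x), rfl⟩⟩

theorem exists_conj_us {g : SL(2, F)} (h : ¬ Ell (SpecialLinearGroup.toGL g)) :
    ∃ s a x, s⁻¹ * g * s = us a x := by
  obtain ⟨s, a, x, d, e⟩ := exists_conj_ut h
  rw [← map_inv, ← map_mul, ← map_mul] at e
  exact ⟨s, exists_us (congrArg (fun g : GL (Fin 2) F => g 1 0) e)⟩

theorem sl_class_ext {φ ψ : SL(2, F) → ℂ} (h1 : IsClassFunction _ φ) (h2 : IsClassFunction _ ψ)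
    (hB : ∀ a x, φ (us a x) = ψ (us a x)) (hE : ∀ g, Ell (SpecialLinearGroup.toGL g) → φ g = ψ g) :
    φ = ψ := by
  funext g
  by_cases h : Ell (SpecialLinearGroup.toGL g)
  · exact hE g h
  · obtain ⟨s, a, x, e⟩ := exists_conj_us h
    rw [← h1.conj_apply' g, ← h2.conj_apply' g, e, hB]

theorem Ell.tr_sq_ne {g : SL(2, F)} (h : Ell (SpecialLinearGroup.toGL g)) (h2 : (2 : F) ≠ 0) :
    tr g ^ 2 ≠ 4 := fun e => h (tr g / 2) (by
  have := sl_det g
  change (g 0 0 - tr g / 2) * (g 1 1 - tr g / 2) = g 0 1 * g 1 0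
  rw [tr] at e ⊢
  field_simp
  linear_combination 4 * this - e)

theorem tr_us_sq {a : Fˣ} (h : a ≠ a⁻¹) (x : F) : tr (us a x) ^ 2 ≠ 4 := fun e => h (Units.ext (by
  rw [tr_us] at e
  have := a.mul_inv
  rw [← sub_eq_zero, ← sq_eq_zero_iff]
  linear_combination e - 4 * this))

theorem eq_inv_iff_units {a : Fˣ} : a = a⁻¹ ↔ a = 1 ∨ a = -1 := by
  rw [← mul_eq_one_iff_eq_inv, Units.ext_iff, Units.ext_iff, Units.ext_iff]
  simpa using mul_self_eq_one_iff (a := (a : F))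

theorem eq_inv_iff_sq {a : Fˣ} : a = a⁻¹ ↔ (a : F) ^ 2 = 1 := by
  rw [← mul_eq_one_iff_eq_inv, Units.ext_iff, pow_two]; simp

theorem slc_ut_up (a : Fˣ) (x : F) : slc (ut a 0 1) (up x) = up (a * x) := by
  apply SpecialLinearGroup.toGL_injective
  rw [toGL_slc, mul_inv_eq_iff_eq_mul, toGL_up, toGL_up, ut_mul, ut_mul]; simp

theorem _root_.Cfsg.IsClassFunction.rs_slc {φ : GL (Fin 2) F → ℂ} (h : IsClassFunction _ φ)
    (k : GL (Fin 2) F) (g : SL(2, F)) : rs φ (slc k g) = rs φ g := by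
  simp only [rs, toGL_slc, h.conj_apply]

/-- two conjugate constituents -/
structure Halves (ρ χ χ' : SL(2, F) → ℂ) : Prop where
  irr : IsIrrCharacter _ χ
  irr' : IsIrrCharacter _ χ'
  ne : χ ≠ χ'
  add : ρ = χ + χ'
  odd : (2 : F) ≠ 0
  cj : ∀ k : GL (Fin 2) F, ¬ IsSquare ((GeneralLinearGroup.det k : Fˣ) : F) → ∀ g, χ (slc k g) = χ' g

variable [Fintype F] [DecidableEq F]

theorem exists_nonsquare_unit (h : (2 : F) ≠ 0) : ∃ a : Fˣ, ¬ IsSquare (a : F) := by
  obtain ⟨a, ha⟩ := FiniteField.exists_nonsquare (F := F) fun e => h (by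
    have := ringChar.Nat.cast_ringChar (R := F); rwa [e] at this)
  exact ⟨Units.mk0 a (by rintro rfl; exact ha IsSquare.zero), ha⟩

theorem inner_rs (φ ψ : GL (Fin 2) F → ℂ) :
    classInner (rs φ) (rs ψ) = ∑ γ : MulChar F ℂ, classInner (φ * Lm γ) ψ := by
  simp only [classInner_def, ← mul_sum, Pi.mul_apply, Lm]
  rw [sum_comm]
  simp only [← sum_mul, ← mul_sum, sum_mc, Units.val_eq_one, mul_ite, mul_zero, ite_mul, zero_mul]
  rw [← sum_filter, card_GL_eq_mul_card_SL, Nat.cast_mul, Nat.cast_sub Fintype.card_pos, Nat.cast_one,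
    ← sum_bij (s := univ) (f := fun g : SL(2, F) => rs φ g * (Fintype.card F - 1) * conj (rs ψ g))
      (fun g _ => SpecialLinearGroup.toGL g) (by simp)
      (fun _ _ _ _ e => SpecialLinearGroup.toGL_injective e)
      (fun g hg => by
        obtain ⟨s, rfl⟩ := exists_toGL_of_det (mem_filter.1 hg).2; exact ⟨s, mem_univ _, rfl⟩)
      fun _ _ => rfl]
  simp only [mul_right_comm _ (Fintype.card F - 1 : ℂ), ← sum_mul]
  have := q_sub_ne_zero (F := F)
  field_simp

theorem rs_Lm (γ : MulChar F ℂ) (g : SL(2, F)) : Lm γ (SpecialLinearGroup.toGL g) = 1 := by simp [Lm]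

theorem rs_mul_Lm (φ : GL (Fin 2) F → ℂ) (γ : MulChar F ℂ) : rs (φ * Lm γ) = rs φ := by
  funext g; simp [rs_Lm]

/-- the principal series -/
noncomputable def RS (α : MulChar F ℂ) : SL(2, F) → ℂ :=
  indFun (B1 F) (fun b => α ((b : SL(2, F)) 0 0))

theorem RS_eq (α : MulChar F ℂ) : RS α = rs (PS α 1) := by
  funext g
  rw [rs, PS, ← indFun_comap_of _ xr_surj' (isChar_bl α 1).isClassFunction, RS]
  congr 1
  funext b
  obtain ⟨⟨a, x⟩, rfl⟩ := b1Equiv.surjective b
  change α a = α a * (1 : MulChar F ℂ) (a⁻¹ : Fˣ)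
  rw [MulChar.one_apply_coe, mul_one]
where xr_surj' := fun g => by obtain ⟨i, h⟩ := xr_surj g; exact ⟨_, h⟩

theorem rs_PS (α β : MulChar F ℂ) : rs (PS α β) = RS (α * β⁻¹) := by
  rw [RS_eq, ← rs_mul_Lm (PS _ 1) β, PS_mul_Lm]; simp

theorem isChar_RS (α : MulChar F ℂ) : IsCharacter _ (RS α) := RS_eq α ▸ (isChar_PS α 1).comp _

theorem RS_us (α : MulChar F ℂ) (a : Fˣ) (x : F) :
    RS α (us a x) = α a + nn a x a⁻¹ * α (a⁻¹ : Fˣ) := by
  rw [RS_eq, rs, toGL_us, PS_ut]; simp only [MulChar.one_apply_coe, mul_one]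

theorem RS_one (α : MulChar F ℂ) : RS α 1 = Fintype.card F + 1 := by rw [RS_eq, rs, map_one, PS_one]

theorem RS_up (α : MulChar F ℂ) {x : F} (h : x ≠ 0) : RS α (up x) = 1 := by
  rw [← us_one, RS_us]; simp [nn, h]

theorem RS_ell (α : MulChar F ℂ) {g : SL(2, F)} (h : Ell (SpecialLinearGroup.toGL g)) : RS α g = 0 := by
  rw [RS_eq, rs, PS_ell _ _ h]

theorem inner_RS (α β : MulChar F ℂ) :
    classInner (RS α) (RS β) = (if α = β then 1 else 0) + (if α = β⁻¹ then 1 else 0) := by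
  rw [RS_eq, RS_eq, inner_rs]
  simp only [PS_mul_Lm, inner_PS, one_mul, sum_add_distrib, and_comm (a := α * _ = _), ite_and,
    sum_ite_eq', mem_univ, if_true, mul_one]
  simp only [mul_eq_one_iff_eq_inv]

theorem irr_RS {α : MulChar F ℂ} : IsIrrCharacter _ (RS α) ↔ α ^ 2 ≠ 1 := by
  rw [isIrrCharacter_iff, inner_RS, pow_two, Ne, mul_eq_one_iff_eq_inv]
  simp [isChar_RS]

theorem RS_eq_iff {α β : MulChar F ℂ} : RS α = RS β ↔ α = β ∨ α = β⁻¹ := by
  constructor
  · intro h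
    by_contra h1
    rw [not_or] at h1
    have := inner_RS α β
    rw [if_neg h1.1, if_neg h1.2, add_zero, ← h, classInner_self_eq_zero] at this
    have h2 := RS_one α
    rw [this] at h2
    exact q_add_ne_zero h2.symm
  · rintro (rfl | rfl)
    · rfl
    · rw [RS_eq β, PS_comm, rs_PS, one_mul]

theorem Stb_mul_Lm (α γ : MulChar F ℂ) : Stb α * Lm γ = Stb (α * γ) := by
  rw [Stb, sub_mul, PS_mul_Lm, Stb]; congr 1

/-- the Steinberg character -/
noncomputable def StS (F : Type*) [Field F] [Fintype F] [DecidableEq F] : SL(2, F) → ℂ := rs (Stb 1)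

theorem rs_Stb (α : MulChar F ℂ) : rs (Stb α) = StS F := by
  rw [StS, ← rs_mul_Lm (Stb 1) α, Stb_mul_Lm, one_mul]

theorem irr_StS : IsIrrCharacter _ (StS F) := by
  refine ((irr_Stb 1).isCharacter.comp _).irr_of_inner_self ?_
  rw [inner_rs, sum_eq_single 1 (fun γ _ h => ?_) (by simp), Stb_mul_Lm, one_mul, (irr_Stb 1).inner_self]
  rw [Stb_mul_Lm, one_mul]
  exact (irr_Stb _).inner_of_ne (irr_Stb _) fun e => h (Stb_inj e)

theorem StS_us (a : Fˣ) (x : F) : StS F (us a x) = nn a x a⁻¹ := by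
  rw [StS, rs, toGL_us, Stb_ut]; simp only [MulChar.one_apply_coe, mul_one]

theorem StS_one : StS F 1 = Fintype.card F := by rw [StS, rs, map_one, Stb_one]

theorem StS_ell {g : SL(2, F)} (h : Ell (SpecialLinearGroup.toGL g)) : StS F g = -1 := by
  rw [StS, rs, Stb_ell _ h, rs_Lm]

theorem RS_one_eq : RS (1 : MulChar F ℂ) = (fun _ => 1) + StS F := by
  rw [RS_eq, PS_self]; funext g; simp [rs_Lm, StS]

theorem exists_halves {Ψ : GL (Fin 2) F → ℂ} (hΨ : IsIrrCharacter _ Ψ)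
    (h2 : classInner (rs Ψ) (rs Ψ) = 2) : ∃ χ χ', Halves (rs Ψ) χ χ' := by
  classical
  obtain ⟨χ, χ', hχ, hχ', hne, e⟩ := exists_two_of_inner (hΨ.isCharacter.comp _) h2
  let E := (slEquivKer (Fin 2) F).symm
  have h1 : ∀ ψ, IsIrrCharacter _ ψ → classInner (χ + χ') ψ ≠ 0 →
      classInner (fun n : (GeneralLinearGroup.det : GL (Fin 2) F →* Fˣ).ker => Ψ n) (fun n => ψ (E n)) ≠ 0 :=
    fun ψ _ h => by
      rw [← e, ← classInner_comp_equiv E] at h
      convert h using 3 with n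
      exact congrArg Ψ (Units.ext rfl)
  obtain ⟨g, hg⟩ := mem_cjOrbit.1 (hΨ.mem_cjOrbit_of_inner (hχ.comp_equiv E) (hχ'.comp_equiv E)
    (h1 χ hχ (by rw [classInner_add_left, hχ.inner_self, hχ'.inner_of_ne hχ hne.symm]; simp))
    (h1 χ' hχ' (by rw [classInner_add_left, hχ'.inner_self, hχ.inner_of_ne hχ' hne]; simp)))
  have h3 : ∀ h, χ (slc g h) = χ' h := fun h => (congrFun hg (E.symm h)).symm
  have h4 : ¬ IsSquare ((GeneralLinearGroup.det g : Fˣ) : F) := fun hs => hne (funext fun h => by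
    rw [← h3, hχ.isClassFunction.eq_of_isConj (isConj_slc_of_isSquare h hs)])
  refine ⟨χ, χ', hχ, hχ', hne, e, fun h => h4 (isSquare_of_two_eq_zero h _), fun k hk h => ?_⟩
  rw [← h3, show k = k * g⁻¹ * g by simp, slc_mul]
  refine (hχ.isClassFunction.eq_of_isConj (isConj_slc_of_isSquare _ ?_)).symm
  rw [map_mul, map_inv, Units.val_mul, Units.val_inv_eq_inv_val]
  exact isSquare_mul_of_not hk (by rwa [isSquare_inv])

namespace Halves
variable {ρ χ χ' : SL(2, F) → ℂ} (h : Halves ρ χ χ')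
include h

theorem symm : Halves ρ χ' χ :=
  ⟨h.irr', h.irr, h.ne.symm, h.add.trans (add_comm _ _), h.odd, fun k hk g => by
    rw [← h.cj k hk, ← slc_mul]
    exact (h.irr.isClassFunction.eq_of_isConj (isConj_slc_of_isSquare _ (by
      rw [map_mul, Units.val_mul]; exact IsSquare.mul_self _))).symm⟩

theorem eq_of {g : SL(2, F)} (hg : tr g ^ 2 ≠ 4 ∨ g = 1 ∨ g = -1) : χ g = χ' g := by
  obtain ⟨a, ha⟩ := exists_nonsquare_unit h.odd
  rw [← h.cj (ut a 0 1) (by simpa [det_ut] using ha)]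
  rcases hg with hg | rfl | rfl
  · exact h.irr.isClassFunction.eq_of_isConj (isConj_slc _ (Or.inl hg))
  · rw [map_one]
  · rw [slc_neg, map_one]

theorem two_mul {g : SL(2, F)} (hg : tr g ^ 2 ≠ 4 ∨ g = 1 ∨ g = -1) : 2 * χ g = ρ g := by
  rw [h.add, Pi.add_apply, ← h.eq_of hg, _root_.two_mul]

theorem eq_or {ψ : SL(2, F) → ℂ} (hψ : IsIrrCharacter _ ψ) (h0 : classInner ρ ψ ≠ 0) : ψ = χ ∨ ψ = χ' := by
  by_contra hn
  rw [not_or] at hn
  rw [h.add, classInner_add_left, h.irr.inner_of_ne hψ (Ne.symm hn.1),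
    h.irr'.inner_of_ne hψ (Ne.symm hn.2), add_zero] at h0
  exact h0 rfl

theorem inner_ne : classInner ρ χ ≠ 0 := by
  rw [h.add, classInner_add_left, h.irr.inner_self, h.irr'.inner_of_ne h.irr h.ne.symm]; simp

theorem up_mul {a : Fˣ} (ha : ¬ IsSquare (a : F)) (x : F) : χ (up (a * x)) = χ' (up x) := by
  rw [← slc_ut_up, h.cj _ (by simpa [det_ut] using ha)]

theorem sub_up {x : F} (hx : x ≠ 0) [Decidable (IsSquare x)] : χ (up x) - χ' (up x) =
    if IsSquare x then χ (up 1) - χ' (up 1) else -(χ (up 1) - χ' (up 1)) := by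
  split_ifs with e
  · have : IsConj (up x) (up 1) := (isConj_up_iff hx one_ne_zero).2 (by simpa using e)
    rw [h.irr.isClassFunction.eq_of_isConj this, h.irr'.isClassFunction.eq_of_isConj this]
  · have h1 := h.up_mul (a := Units.mk0 x hx) e 1
    have h2 := h.symm.up_mul (a := Units.mk0 x hx) e 1
    simp only [Units.val_mk0, mul_one] at h1 h2
    rw [h1, h2, neg_sub]

theorem sum_up : ∑ x : F, χ (up x) = ∑ x : F, χ' (up x) := by
  obtain ⟨a, ha⟩ := exists_nonsquare_unit h.odd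
  simp only [← h.up_mul ha]
  exact (Equiv.sum_comp (Units.mulLeft a) fun x => χ (up x)).symm

theorem sub_neg : ∃ c : ℂ, c * conj c = 1 ∧ ∀ g, χ (-g) - χ' (-g) = c * (χ g - χ' g) := by
  have h1 : (-1 : SL(2, F)) ∈ Subgroup.center _ := mem_center_SL2.2 (Or.inr rfl)
  refine ⟨χ (-1) / χ 1, ?_, fun g => ?_⟩
  · have := h.irr.isCharacter.mem_charCenter_iff.1 (h.irr.center_le_charCenter h1)
    rw [Complex.mul_conj', norm_div, this, ← h.irr.cast_charDegree, Complex.norm_natCast, div_self]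
    · simp
    · exact_mod_cast h.irr.charDegree_pos.ne'
  · rw [← mul_neg_one g, apply_mul_of_mem_charCenter h.irr.apply_one_ne_zero (h.irr.center_le_charCenter h1),
      apply_mul_of_mem_charCenter h.irr'.apply_one_ne_zero (h.irr'.center_le_charCenter h1),
      ← h.eq_of (g := 1) (by simp), ← h.eq_of (g := -1) (by simp), mul_sub]

theorem norm_up : (χ (up 1) - χ' (up 1)) * conj (χ (up 1) - χ' (up 1)) = Fintype.card F := by
  classical
  have hc : IsClassFunction _ (χ - χ') := h.irr.isClassFunction.sub h.irr'.isClassFunction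
  have h1 : classInner (χ - χ') (χ - χ') = 2 := by
    rw [classInner_sub_left, classInner_sub_right, classInner_sub_right, h.irr.inner_self, h.irr'.inner_self,
      h.irr.inner_of_ne h.irr' h.ne, h.irr'.inner_of_ne h.irr h.ne.symm]; norm_num
  have h0 : ∀ a x, ¬ (a = a⁻¹ ∧ x ≠ 0) → (χ - χ') (us a x) = 0 := fun a x e => by
    rw [Pi.sub_apply, sub_eq_zero]
    by_cases e1 : a = a⁻¹
    · have : x = 0 := by simpa [← e1] using e
      subst this
      rcases eq_inv_iff_units.1 e1 with rfl | rfl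
      · exact h.eq_of (by simp [us_one, up_zero])
      · exact h.eq_of (by simp [us_neg, us_one, up_zero])
    · exact h.eq_of (Or.inl (tr_us_sq e1 x))
  have h2 : χ - χ' = indFun (B1 F) fun b => (χ - χ') b := by
    have : (fun b : B1 F => (χ - χ') b) = fun b : B1 F => (χ - χ') b * (1 : MulChar F ℂ) ((b : SL(2, F)) 0 0) := by
      funext b
      obtain ⟨⟨a, x⟩, rfl⟩ := b1Equiv.surjective b
      exact ((congrArg _ (MulChar.one_apply_coe a)).trans (mul_one _)).symm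
    rw [this, indFun_res_mul _ hc]
    refine sl_class_ext hc (hc.mul (isChar_RS 1).isClassFunction) (fun a x => ?_) fun g hg => ?_
    · change _ = _ * RS 1 _
      by_cases e : a = a⁻¹ ∧ x ≠ 0
      · rw [RS_us, nn, if_pos e.1, if_neg e.2]; simp
      · rw [h0 a x e, zero_mul]
    · have : (χ - χ') g = 0 := sub_eq_zero.2 (h.eq_of (Or.inl (hg.tr_sq_ne h.odd)))
      rw [Pi.mul_apply, this, zero_mul]
  set s := χ (up 1) - χ' (up 1)
  have h3 : ∑ x : F, (χ - χ') (up x) * conj ((χ - χ') (up x)) = (Fintype.card F - 1) * (s * conj s) := by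
    rw [← add_sum_erase _ _ (mem_univ 0), ← us_one, h0 1 0 (by simp), sum_congr rfl (g := fun _ => s * conj s)]
    · simp [Nat.cast_sub Fintype.card_pos]
    · intro x hx
      rw [Pi.sub_apply, h.sub_up (mem_erase.1 hx).1]
      split_ifs
      · rfl
      · rw [map_neg, neg_mul_neg]
  obtain ⟨c, hc1, hc2⟩ := h.sub_neg
  have h4 : ∑ x : F, (χ - χ') (us (-1) x) * conj ((χ - χ') (us (-1) x)) =
      (Fintype.card F - 1) * (s * conj s) := by
    rw [← h3, ← Equiv.sum_comp (Equiv.neg F)]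
    refine sum_congr rfl fun x _ => ?_
    simp only [us_neg, Pi.sub_apply, hc2, us_one, Equiv.neg_apply, neg_neg, map_mul]
    linear_combination ((χ (up x) - χ' (up x)) * conj (χ (up x) - χ' (up x))) * hc1
  rw [h2, classInner_indFun_left _ (isClassFunction_indFun _ _), ← h2, classInner_def,
    ← Nat.card_congr b1Equiv, ← b1Equiv.sum_comp, Fintype.sum_prod_type,
    ← sum_subset (subset_univ {1, -1}) fun a _ ha => sum_eq_zero fun x _ => by
      change (χ - χ') (us a x) * _ = 0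
      rw [h0 a x fun e => ha (by simpa using eq_inv_iff_units.1 e.1), zero_mul],
    sum_pair fun e => h.odd (by have := congrArg Units.val e; simp at this; linear_combination this)] at h1
  change _ * (∑ x, (χ - χ') (us 1 x) * conj ((χ - χ') (us 1 x)) +
    ∑ x, (χ - χ') (us (-1) x) * conj ((χ - χ') (us (-1) x))) = _ at h1
  simp only [us_one, h3, h4, Nat.card_eq_fintype_card, Fintype.card_prod, Nat.cast_mul, cast_card_units] at h1
  have := q_ne_zero (F := F)
  have := q_sub_ne_zero (F := F)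
  field_simp at h1
  linear_combination h1 / 2

theorem sq_up : (χ (up 1) - χ' (up 1)) ^ 2 = (-1) ^ ((Fintype.card F - 1) / 2) * Fintype.card F := by
  classical
  have h1 := h.norm_up
  rw [map_sub, ← h.irr.apply_inv, ← h.irr'.apply_inv, show (up (1 : F))⁻¹ = up (-1) by simp [up, sm_inv],
    h.sub_up (x := -1) (by simp)] at h1
  simp only [FiniteField.isSquare_neg_one_iff] at h1
  have h2 := Nat.odd_iff.1 (odd_card_iff.2 h.odd)
  split_ifs at h1 with e
  · rw [Even.neg_one_pow (Nat.even_iff.2 (by omega))]; linear_combination h1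
  · rw [Odd.neg_one_pow (Nat.odd_iff.2 (by omega))]; linear_combination -h1

end Halves

section cusp
variable {g0 : GL (Fin 2) F} [h0 : Fact (Ell g0)]

/-- the norm one torus -/
noncomputable abbrev K1 (g0 : GL (Fin 2) F) : Subgroup (Tor g0) := (dT g0).ker

theorem card_K1 : Nat.card (K1 g0) = Fintype.card F + 1 := by
  have := card_eq_card_ker_mul_of_surjective _ (dT_surj (g0 := g0))
  rw [card_Tor, card_units_field, sq_sub_one_eq, mul_comm] at this
  have h1 : 1 < Fintype.card F := Fintype.one_lt_card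
  exact (Nat.eq_of_mul_eq_mul_left (by omega) this).symm

theorem isCyclic_Tor_aux {K : Type*} [Field K] (f : F →+* K) {w : K}
    (hw : w ^ 2 - f (g0 0 0 + g0 1 1) * w + f (g0 0 0 * g0 1 1 - g0 0 1 * g0 1 0) = 0) :
    IsCyclic (Tor g0) := by
  have h1 : f (g0 1 0) ≠ 0 := (map_ne_zero f).2 h0.out.ne
  have h2 : ∀ x y h, f ((te g0 x y h : GL (Fin 2) F) 0 0) +
      f ((te g0 x y h : GL (Fin 2) F) 1 0) * (w - f (g0 0 0)) / f (g0 1 0) = f x + f y * w := fun x y h => by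
    simp only [te00, te10, map_add, map_mul]; field_simp; ring
  refine isCyclic_of_injective_ringHom (R := K)
    { toFun := fun c => f ((c : GL (Fin 2) F) 0 0) + f ((c : GL (Fin 2) F) 1 0) * (w - f (g0 0 0)) / f (g0 1 0)
      map_one' := by simp
      map_mul' := fun a b => ?_ } ((injective_iff_map_eq_one _).2 fun c hc => ?_)
  · obtain ⟨x, y, h, rfl⟩ := te_surj a
    obtain ⟨x', y', h', rfl⟩ := te_surj b
    rw [h2, h2]
    simp only [Subgroup.coe_mul, gl_mul_apply, te00, te01, te10, te11, map_add, map_mul, map_sub] at hw ⊢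
    field_simp
    linear_combination (-f y * f y') * hw
  · obtain ⟨x, y, h, rfl⟩ := te_surj c
    replace hc : f x + f y * w = 1 := (h2 x y h).symm.trans hc
    by_cases hy : y = 0
    · subst hy
      have : x = 1 := f.injective (by simpa using hc)
      exact Subtype.ext (by apply gl_ext <;> simp [this])
    · have : w = f ((1 - x) / y) := by
        have := (map_ne_zero f).2 hy
        rw [map_div₀, map_sub, map_one]; field_simp; linear_combination hc
      rw [this, ← map_pow, ← map_mul, ← map_sub, ← map_add, map_eq_zero] at hw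
      exact absurd (by linear_combination hw) (h0.out ((1 - x) / y))

theorem isCyclic_Tor : IsCyclic (Tor g0) := by
  let f := algebraMap F (AlgebraicClosure F)
  open Polynomial in
  obtain ⟨w, hw⟩ := IsAlgClosed.exists_root (C 1 * X ^ 2 + C (-f (g0 0 0 + g0 1 1)) * X +
    C (f (g0 0 0 * g0 1 1 - g0 0 1 * g0 1 0))) (by rw [degree_quadratic one_ne_zero]; simp)
  refine isCyclic_Tor_aux f (w := w) ?_
  simp only [Polynomial.IsRoot, Polynomial.eval_add, Polynomial.eval_mul, Polynomial.eval_C,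
    Polynomial.eval_pow, Polynomial.eval_X] at hw
  linear_combination hw

instance instCycK1 : IsCyclic (K1 g0) := by haveI := isCyclic_Tor (g0 := g0); infer_instance

instance instCommK1 : IsMulCommutative (K1 g0) := ⟨⟨fun a b => Subtype.ext (tor_comm _ _)⟩⟩

instance instCycLinK1 : IsCyclic (Lin (K1 g0)) := isCyclic_lin _

theorem card_lin_K1 : Fintype.card (Lin (K1 g0)) = Fintype.card F + 1 := by
  rw [fintype_card_lin, card_K1]

/-- restriction to the norm one torus -/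
noncomputable def rK (θ : Lin (Tor g0)) : Lin (K1 g0) := θ.comp (K1 g0).subtype

theorem rK_apply (θ : Lin (Tor g0)) (c : K1 g0) : rK θ c = θ c := rfl

theorem rK_surj (η : Lin (K1 g0)) : ∃ θ, rK θ = η := by
  obtain ⟨mu, h⟩ := exists_linear_extend_of_injective tor_comm (K1 g0).subtype Subtype.val_injective η.toHom
  exact ⟨Lin.mk mu, Lin.ext fun c => congrArg Units.val (h c)⟩

theorem rK_bar (θ : Lin (Tor g0)) : rK (θ.comp (bar g0)) = (rK θ)⁻¹ :=
  Lin.ext fun c => by simp [rK_apply, bar_eq_inv c.2]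

theorem rK_eq_one {θ : Lin (Tor g0)} : rK θ = 1 ↔ θ = θ.comp (bar g0) := by
  rw [eq_bar_iff]
  exact ⟨fun h c hc => by rw [← rK_apply θ ⟨c, hc⟩, h, Lin.one_apply], fun h => Lin.ext fun c => h c c.2⟩

theorem sum_lam (θ θ' : Lin (Tor g0)) :
    ∑ γ : MulChar F ℂ, (if θ * lam g0 γ = θ' then (1 : ℂ) else 0) = if rK θ = rK θ' then 1 else 0 := by
  split_ifs with h
  · obtain ⟨γ, hγ⟩ := exists_lam (θ := θ⁻¹ * θ') fun c hc => by
      rw [Lin.mul_apply, Lin.inv_apply, ← rK_apply θ ⟨c, hc⟩, h, rK_apply, inv_mul_cancel₀ (by simp)]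
    rw [sum_eq_single γ (fun δ _ e => if_neg fun e' => e (lam_injective (g0 := g0) (by
      rw [← hγ, ← e']; simp))) (by simp), if_pos (by rw [← hγ]; simp)]
  · refine sum_eq_zero fun γ _ => if_neg fun e => h (Lin.ext fun c => ?_)
    rw [← e, rK_apply, rK_apply, Lin.mul_apply, lam_apply, show dT g0 c = 1 from c.2]; simp

theorem inner_rs_Cu (θ θ' : Lin (Tor g0)) : classInner (rs (Cu θ)) (rs (Cu θ')) =
    (if rK θ = rK θ' then 1 else 0) + (if rK θ = (rK θ')⁻¹ then 1 else 0) := by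
  simp only [inner_rs, Cu_mul_Lm, inner_Cu, sum_add_distrib, sum_lam, rK_bar]

/-- the discrete series -/
noncomputable def CS (η : Lin (K1 g0)) : SL(2, F) → ℂ := rs (Cu (rK_surj η).choose)

theorem inner_CS (η η' : Lin (K1 g0)) :
    classInner (CS η) (CS η') = (if η = η' then 1 else 0) + (if η = η'⁻¹ then 1 else 0) := by
  rw [CS, CS, inner_rs_Cu, (rK_surj η).choose_spec, (rK_surj η').choose_spec]

theorem rs_Cu (θ : Lin (Tor g0)) : rs (Cu θ) = CS (rK θ) := by
  by_cases h : rK θ = (rK θ)⁻¹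
  · refine eq_of_inner_two (r := 2) ?_ ?_ ?_ <;>
      simp only [CS, inner_rs_Cu, (rK_surj (rK θ)).choose_spec, ← h, if_true] <;> norm_num
  · refine eq_of_inner_two (r := 1) ?_ ?_ ?_ <;>
      simp only [CS, inner_rs_Cu, (rK_surj (rK θ)).choose_spec, h, if_true, if_false] <;> norm_num

theorem isGen_CS (η : Lin (K1 g0)) : IsGeneralizedCharacter _ (CS η) := (isGen_Cu _).comp _

theorem isClass_CS (η : Lin (K1 g0)) : IsClassFunction _ (CS η) := (isGen_CS η).isClassFunction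

theorem CS_one (η : Lin (K1 g0)) : CS η 1 = Fintype.card F - 1 := by rw [CS, rs, map_one, Cu_one]

theorem CS_us_of_ne (η : Lin (K1 g0)) {a : Fˣ} (h : a ≠ a⁻¹) (x : F) : CS η (us a x) = 0 := by
  rw [CS, rs, toGL_us, Cu_ut, nn, if_neg h]; simp

theorem CS_up (η : Lin (K1 g0)) {x : F} (h : x ≠ 0) : CS η (up x) = -1 := by
  rw [CS, rs, toGL_up, Cu_ut]; simp [nn, h]

theorem CS_tor (η : Lin (K1 g0)) {g : SL(2, F)} {c : K1 g0}
    (h : SpecialLinearGroup.toGL g = (c : Tor g0)) : CS η g = -(η c + η c⁻¹) +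
      if g 1 0 = 0 then (Fintype.card F + 1) * η c else 0 := by
  obtain ⟨θ, rfl⟩ := rK_surj η
  rw [← rs_Cu, rs, h, Cu_tor, bar_eq_inv c.2, ← h]; rfl

theorem irr_CS {η : Lin (K1 g0)} : IsIrrCharacter _ (CS η) ↔ η ^ 2 ≠ 1 := by
  rw [pow_two, Ne, mul_eq_one_iff_eq_inv]
  constructor
  · intro h e
    have := h.inner_self
    rw [inner_CS, if_pos e] at this
    simp at this
  · intro h
    refine (isGen_CS η).irr_of_re_pos (by rw [inner_CS]; simp [h]) ?_
    rw [CS_one, ← cast_card_units]; simp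

theorem CS_eq_iff {η η' : Lin (K1 g0)} : CS η = CS η' ↔ η = η' ∨ η = η'⁻¹ := by
  constructor
  · intro h
    by_contra h1
    rw [not_or] at h1
    have := inner_CS η η'
    rw [if_neg h1.1, if_neg h1.2, add_zero, ← h, classInner_self_eq_zero] at this
    have h2 := CS_one η
    rw [this] at h2
    exact q_sub_ne_zero h2.symm
  · rintro (rfl | rfl)
    · rfl
    · obtain ⟨θ, rfl⟩ := rK_surj η'
      rw [← rK_bar, ← rs_Cu, Cu_bar, rs_Cu]

theorem halves_RS {α : MulChar F ℂ} (h2 : α ^ 2 = 1) (h1 : α ≠ 1) : ∃ χ χ', Halves (RS α) χ χ' := by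
  rw [RS_eq]
  refine exists_halves (irr_PS h1) ?_
  rw [← RS_eq, inner_RS, if_pos rfl, if_pos (mul_eq_one_iff_eq_inv.1 (by rwa [← pow_two]))]; norm_num

theorem halves_CS {η : Lin (K1 g0)} (h2 : η ^ 2 = 1) (h1 : η ≠ 1) : ∃ χ χ', Halves (CS η) χ χ' := by
  obtain ⟨θ, rfl⟩ := rK_surj η
  rw [← rs_Cu]
  refine exists_halves (irr_Cu fun e => h1 (rK_eq_one.2 e)) ?_
  rw [rs_Cu, inner_CS, if_pos rfl, if_pos (mul_eq_one_iff_eq_inv.1 (by rwa [← pow_two]))]; norm_num

theorem irr_SL2 (g0 : GL (Fin 2) F) [Fact (Ell g0)] {χ : SL(2, F) → ℂ} (hχ : IsIrrCharacter _ χ) :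
    χ = (fun _ => 1) ∨ χ = StS F ∨ (∃ α, α ^ 2 ≠ 1 ∧ χ = RS α) ∨
      (∃ η : Lin (K1 g0), η ^ 2 ≠ 1 ∧ χ = CS η) ∨
      (∃ α χ', α ^ 2 = 1 ∧ α ≠ 1 ∧ Halves (RS α) χ χ') ∨
      ∃ (η : Lin (K1 g0)) (χ' : SL(2, F) → ℂ), η ^ 2 = 1 ∧ η ≠ 1 ∧ Halves (CS η) χ χ' := by
  classical
  obtain ⟨Ψ, hΨ, h⟩ := (hχ.comp_equiv (slEquivKer (Fin 2) F).symm).exists_over
  replace h : classInner (rs Ψ) χ ≠ 0 := by
    rw [← classInner_comp_equiv (slEquivKer (Fin 2) F).symm]
    convert h using 3 with n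
    exact congrArg Ψ (Units.ext rfl)
  rcases irr_GL2 g0 hΨ with ⟨α, rfl⟩ | ⟨α, rfl⟩ | ⟨α, β, e, rfl⟩ | ⟨θ, e, rfl⟩
  · rw [show rs (Lm α) = fun _ => 1 from funext (rs_Lm α)] at h
    exact Or.inl (isIrrCharacter_one.eq_of_inner_ne_zero hχ h).symm
  · rw [rs_Stb] at h
    exact Or.inr (Or.inl (irr_StS.eq_of_inner_ne_zero hχ h).symm)
  · rw [rs_PS] at h
    by_cases h2 : (α * β⁻¹) ^ 2 = 1
    · obtain ⟨ψ, ψ', H⟩ := halves_RS h2 (by rwa [Ne, mul_inv_eq_one])
      rcases H.eq_or hχ h with rfl | rfl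
      · exact Or.inr (Or.inr (Or.inr (Or.inr (Or.inl ⟨_, _, h2, by rwa [Ne, mul_inv_eq_one], H⟩))))
      · exact Or.inr (Or.inr (Or.inr (Or.inr (Or.inl ⟨_, _, h2, by rwa [Ne, mul_inv_eq_one], H.symm⟩))))
    · exact Or.inr (Or.inr (Or.inl ⟨_, h2, ((irr_RS.2 h2).eq_of_inner_ne_zero hχ h).symm⟩))
  · rw [rs_Cu] at h
    have e' : rK θ ≠ 1 := fun e' => e (rK_eq_one.1 e')
    by_cases h2 : rK θ ^ 2 = 1
    · obtain ⟨ψ, ψ', H⟩ := halves_CS h2 e'
      rcases H.eq_or hχ h with rfl | rfl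
      · exact Or.inr (Or.inr (Or.inr (Or.inr (Or.inr ⟨_, _, h2, e', H⟩))))
      · exact Or.inr (Or.inr (Or.inr (Or.inr (Or.inr ⟨_, _, h2, e', H.symm⟩))))
    · exact Or.inr (Or.inr (Or.inr (Or.inl ⟨_, h2, ((irr_CS.2 h2).eq_of_inner_ne_zero hχ h).symm⟩)))

theorem Halves.deg_RS {α : MulChar F ℂ} {χ χ' : SL(2, F) → ℂ} (h : Halves (RS α) χ χ') :
    χ 1 = (((Fintype.card F + 1) / 2 : ℕ) : ℂ) := by
  have h1 := h.two_mul (g := 1) (by simp)
  obtain ⟨m, hm⟩ := odd_card_iff.2 h.odd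
  rw [RS_one, hm] at h1
  rw [hm, show (2 * m + 1 + 1) / 2 = m + 1 by omega]
  push_cast at h1 ⊢
  linear_combination h1 / 2

theorem Halves.deg_CS {η : Lin (K1 g0)} {χ χ' : SL(2, F) → ℂ} (h : Halves (CS η) χ χ') :
    χ 1 = (((Fintype.card F - 1) / 2 : ℕ) : ℂ) := by
  have h1 := h.two_mul (g := 1) (by simp)
  obtain ⟨m, hm⟩ := odd_card_iff.2 h.odd
  rw [CS_one, hm] at h1
  rw [hm, show (2 * m + 1 - 1) / 2 = m by omega]
  push_cast at h1 ⊢
  linear_combination h1 / 2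

/-- the classification, with natural number degrees -/
theorem irr_SL2' (g0 : GL (Fin 2) F) [Fact (Ell g0)] {χ : SL(2, F) → ℂ} (hχ : IsIrrCharacter _ χ)
    {n : ℕ} (hn : χ 1 = n) :
    (n = 1 ∧ χ = fun _ => 1) ∨ (n = Fintype.card F ∧ χ = StS F) ∨
      (n = Fintype.card F + 1 ∧ ∃ α, α ^ 2 ≠ 1 ∧ χ = RS α) ∨
      (n = Fintype.card F - 1 ∧ ∃ η : Lin (K1 g0), η ^ 2 ≠ 1 ∧ χ = CS η) ∨
      (n = (Fintype.card F + 1) / 2 ∧ ∃ α χ', α ^ 2 = 1 ∧ α ≠ 1 ∧ Halves (RS α) χ χ') ∨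
      (n = (Fintype.card F - 1) / 2 ∧
        ∃ (η : Lin (K1 g0)) (χ' : SL(2, F) → ℂ), η ^ 2 = 1 ∧ η ≠ 1 ∧ Halves (CS η) χ χ') := by
  rcases irr_SL2 g0 hχ with rfl | rfl | ⟨α, h, rfl⟩ | ⟨η, h, rfl⟩ | ⟨α, χ', h2, h1, H⟩ | ⟨η, χ', h2, h1, H⟩
  · exact Or.inl ⟨Nat.cast_eq_one.1 hn.symm, rfl⟩
  · rw [StS_one] at hn; exact Or.inr (Or.inl ⟨by exact_mod_cast hn.symm, rfl⟩)
  · rw [RS_one] at hn; exact Or.inr (Or.inr (Or.inl ⟨by exact_mod_cast hn.symm, α, h, rfl⟩))
  · rw [CS_one, ← cast_card_units, Fintype.card_units] at hn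
    exact Or.inr (Or.inr (Or.inr (Or.inl ⟨by exact_mod_cast hn.symm, η, h, rfl⟩)))
  · rw [H.deg_RS] at hn
    exact Or.inr (Or.inr (Or.inr (Or.inr (Or.inl ⟨by exact_mod_cast hn.symm, α, χ', h2, h1, H⟩))))
  · rw [H.deg_CS] at hn
    exact Or.inr (Or.inr (Or.inr (Or.inr (Or.inr ⟨by exact_mod_cast hn.symm, η, χ', h2, h1, H⟩))))

end cusp

instance instCycMC : IsCyclic (MulChar F ℂ) := by
  obtain ⟨e⟩ := MulChar.mulEquiv_units F ℂ
  exact e.isCyclic.2 inferInstance

theorem mc_sq_apply {α : MulChar F ℂ} (h2 : α ^ 2 = 1) (h1 : α ≠ 1) (a : Fˣ) [Decidable (IsSquare (a : F))] :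
    α a = if IsSquare (a : F) then 1 else -1 := by
  have h3 : ∀ b : Fˣ, α b * α b = 1 := fun b => by
    rw [← MulChar.mul_apply, ← pow_two, h2, MulChar.one_apply_coe]
  have h4 : ∀ b : Fˣ, IsSquare (b : F) → α b = 1 := fun b ⟨c, hc⟩ => by
    have : c ≠ 0 := by rintro rfl; exact b.ne_zero (by simpa using hc)
    rw [hc, map_mul]; exact h3 (Units.mk0 c this)
  split_ifs with h
  · exact h4 a h
  · refine (mul_self_eq_one_iff.1 (h3 a)).resolve_left fun e => h1 (MulChar.ext fun b => ?_)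
    rw [MulChar.one_apply_coe]
    by_contra hb
    have := h4 (a * b) (isSquare_mul_of_not h fun e => hb (h4 b e))
    rw [Units.val_mul, map_mul, e, one_mul] at this
    exact hb this

theorem cast_q_sub : ((Fintype.card F - 1 : ℕ) : ℂ) = Fintype.card F - 1 := by
  rw [Nat.cast_sub Fintype.card_pos, Nat.cast_one]

/-- an element of `SL₂` inside its own torus -/
noncomputable def kc (g : SL(2, F)) : K1 (SpecialLinearGroup.toGL g) :=
  ⟨⟨SpecialLinearGroup.toGL g, Subgroup.mem_centralizer_singleton_iff.2 rfl⟩,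
    SpecialLinearGroup.coeToGL_det g⟩

theorem kc_pow_eq_one {g : SL(2, F)} {n : ℕ} : kc g ^ n = 1 ↔ g ^ n = 1 := by
  rw [Subtype.ext_iff, Subtype.ext_iff, ← SpecialLinearGroup.toGL_injective.eq_iff, map_pow, map_one]; rfl

theorem CS_kc {g : SL(2, F)} [h : Fact (Ell (SpecialLinearGroup.toGL g))]
    (η : Lin (K1 (SpecialLinearGroup.toGL g))) : CS η g = -(η (kc g) + η (kc g)⁻¹) := by
  rw [CS_tor η (c := kc g) rfl, if_neg (show ¬ g 1 0 = 0 from h.out.ne), add_zero]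

theorem sum_up_eq (χ : SL(2, F) → ℂ) :
    ∑ g : SL(2, F), (if g 1 0 = 0 ∧ g 0 0 = 1 ∧ g 1 1 = 1 then χ g else 0) = ∑ x : F, χ (up x) := by
  rw [← sum_filter]
  symm
  refine sum_bij (fun x _ => up x) (fun x _ => mem_filter.2 ⟨mem_univ _, rfl, rfl, rfl⟩)
    (fun a _ b _ e => congrArg (fun g : SL(2, F) => g 0 1) e) (fun g hg => ?_) fun _ _ => rfl
  obtain ⟨h1, h2, -⟩ := (mem_filter.1 hg).2
  obtain ⟨a, x, rfl⟩ := exists_us h1
  obtain rfl : a = 1 := Units.ext h2
  exact ⟨x, mem_univ _, (us_one x).symm⟩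

theorem sum_up_of {χ : SL(2, F) → ℂ} {c : ℂ} (h : ∀ x, x ≠ 0 → χ (up x) = c) :
    ∑ x : F, χ (up x) = χ 1 + (Fintype.card F - 1) * c := by
  rw [← add_sum_erase _ _ (mem_univ 0), up_zero, sum_congr rfl fun x hx => h x (mem_erase.1 hx).1]
  simp [cast_q_sub]

theorem StS_up {x : F} (h : x ≠ 0) : StS F (up x) = 0 := by rw [← us_one, StS_us]; simp [nn, h]

theorem Halves.two_sum_up {ρ χ χ' : SL(2, F) → ℂ} (h : Halves ρ χ χ') :
    2 * ∑ x : F, χ (up x) = ∑ x : F, ρ (up x) := by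
  simp only [h.add, Pi.add_apply, sum_add_distrib, ← h.sum_up, _root_.two_mul]

theorem neg_one_us : (-1 : SL(2, F)) = us (-1) 0 := by simp [us_neg, us_one, up_zero]

theorem RS_neg_one (α : MulChar F ℂ) : RS α (-1) = (Fintype.card F + 1) * α (-1) := by
  rw [neg_one_us, RS_us]; simp [nn, inv_neg]; ring

theorem StS_neg_one : StS F (-1) = Fintype.card F := by
  rw [neg_one_us, StS_us]; simp [nn, inv_neg]

/-- the element `-1` of the torus -/
noncomputable def kn (g0 : GL (Fin 2) F) : K1 g0 := ⟨sc g0 (-1), by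
  change GeneralLinearGroup.det (ut _ _ _) = 1
  simp [det_ut]⟩

theorem CS_neg_one {g0 : GL (Fin 2) F} [Fact (Ell g0)] (η : Lin (K1 g0)) :
    CS η (-1) = (Fintype.card F - 1) * η (kn g0) := by
  obtain ⟨θ, rfl⟩ := rK_surj η
  rw [← rs_Cu, neg_one_us, rs, toGL_us, Cu_ut]; simp [nn, inv_neg, rK_apply, kn]

end Cfsg.Agent.H7
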