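import Cfsg.Agent.H7.GL2c
import Cfsg.Prelude.Def_DegreeGraph

/-! Character degrees of `SL₂(q)` and `PSL₂(q)`; the Borel subgroup. -/

set_option autoImplicit false
set_option linter.unusedSectionVars false

namespace Cfsg.Agent.H7

open Cfsg Cfsg.Agent.H3 Cfsg.Agent.H4 Finset Matrix
open scoped ComplexConjugate MatrixGroups

theorem card_irr_congr {G H : Type*} [Group G] [Group H] (e : G ≃* H) (P : ℕ → Prop) :
    Nat.card {χ : IrrCharacter G // P (charDegree (χ : G → ℂ))} =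
      Nat.card {χ : IrrCharacter H // P (charDegree (χ : H → ℂ))} :=
  Nat.card_congr
    { toFun := fun χ => ⟨⟨fun x => χ.1.1 (e.symm x), χ.1.2.comp_equiv e.symm⟩, by
        simpa [charDegree] using χ.2⟩
      invFun := fun χ => ⟨⟨fun x => χ.1.1 (e x), χ.1.2.comp_equiv e⟩, by simpa [charDegree] using χ.2⟩
      left_inv := fun χ => by ext x; simp
      right_inv := fun χ => by ext x; simp }

theorem exists_pow_four_ne {X : Type*} [Group X] [Finite X] [h : IsCyclic X] (h4 : ¬ Nat.card X ∣ 4) :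
    ∃ x : X, (x ^ 2) ^ 2 ≠ 1 := by
  obtain ⟨z, hz⟩ := h.exists_generator
  exact ⟨z, fun e => h4 (by
    rw [← orderOf_eq_card_of_forall_mem_zpowers hz, orderOf_dvd_iff_pow_eq_one, ← e, ← pow_mul])⟩

variable {F : Type*} [Field F]

theorem us_mul (a b : Fˣ) (x y : F) : us a x * us b y = us (a * b) (a * y + x * (b⁻¹ : Fˣ)) := by
  apply SpecialLinearGroup.toGL_injective
  rw [map_mul, toGL_us, toGL_us, toGL_us, ut_mul, mul_inv]

theorem us_inv (a : Fˣ) (x : F) : (us a x)⁻¹ = us a⁻¹ (-x) := by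
  rw [inv_eq_iff_mul_eq_one, us_mul]; simp [us_one, up_zero, mul_comm]

theorem us_conj (a b : Fˣ) (x y : F) :
    us b y * us a x * (us b y)⁻¹ = us a (b ^ 2 * x + b * y * ((a⁻¹ : Fˣ) - a)) := by
  rw [us_inv, us_mul, us_mul, us_inj]
  refine ⟨by simp, ?_⟩
  simp only [Units.val_mul, inv_inv]; ring

theorem us_pow (a : Fˣ) (x : F) (n : ℕ) : ∃ y, us a x ^ n = us (a ^ n) y := by
  induction n with
  | zero => exact ⟨0, by simp [us_one, up_zero]⟩
  | succ n ih => obtain ⟨y, h⟩ := ih; exact ⟨_, by rw [pow_succ, h, us_mul, pow_succ]⟩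

theorem up_mul_up (x y : F) : up x * up y = up (x + y) := by
  rw [← us_one, ← us_one, us_mul]; simp [us_one, add_comm]

theorem up_pow (x : F) (n : ℕ) : up x ^ n = up (n * x) := by
  induction n with
  | zero => simp [up_zero]
  | succ n ih => rw [pow_succ, ih, up_mul_up]; congr 1; push_cast; ring

theorem up_inj {x y : F} : up x = up y ↔ x = y := by rw [← us_one, ← us_one, us_inj]; simp

theorem up_pow_char (p : ℕ) [CharP F p] (x : F) : up x ^ p = 1 := by simp [up_pow, up_zero]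

/-- the unipotent subgroup -/
def upHom : Multiplicative F →* SL(2, F) where
  toFun x := up x.toAdd
  map_one' := up_zero
  map_mul' _ _ := (up_mul_up _ _).symm

theorem upHom_injective : Function.Injective (upHom (F := F)) := fun x y e =>
  (up_inj (x := x.toAdd) (y := y.toAdd)).1 e

theorem mem_upHom {g : SL(2, F)} : g ∈ (upHom (F := F)).range ↔ ∃ x, g = up x :=
  ⟨fun ⟨x, h⟩ => ⟨_, h.symm⟩, fun ⟨x, h⟩ => ⟨Multiplicative.ofAdd x, h.symm⟩⟩

theorem normalizer_up : Subgroup.normalizer ((upHom (F := F)).range : Set SL(2, F)) = B1 F := by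
  ext g
  constructor
  · intro h
    obtain ⟨y, hy⟩ := mem_upHom.1 ((Subgroup.mem_normalizer_iff.1 h _).1 (mem_upHom.2 ⟨1, rfl⟩))
    rw [mul_inv_eq_iff_eq_mul] at hy
    obtain ⟨a, b, c, d, h1, rfl⟩ := sm_surj g
    rw [up, up, sm_mul, sm_mul, sm_inj] at hy
    change SpecialLinearGroup.toGL _ ∈ Bo F
    rw [toGL_sm, gm_mem_Bo]
    linear_combination hy.2.2.2
  · intro h
    obtain ⟨b, y, rfl⟩ := exists_us (g := g) (mem_Bo.1 h)
    have key : ∀ (b : Fˣ) (y : F), ∀ k ∈ (upHom (F := F)).range,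
        us b y * k * (us b y)⁻¹ ∈ (upHom (F := F)).range := fun b y k hk => by
      obtain ⟨x, rfl⟩ := mem_upHom.1 hk
      rw [← us_one, us_conj, us_one]
      exact mem_upHom.2 ⟨_, rfl⟩
    refine Subgroup.mem_normalizer_iff.2 fun k => ⟨key b y k, fun hk => ?_⟩
    have := key b⁻¹ (-y) _ hk
    rw [← us_inv] at this
    simpa [mul_assoc] using this

theorem exists_up_of_comm {g : SL(2, F)} {b : F} (hb : b ≠ 0) (h : g * up b = up b * g) :
    ∃ x, g = up x ∨ g = -up x := by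
  obtain ⟨a, x, c, d, h1, rfl⟩ := sm_surj g
  rw [up, sm_mul, sm_mul, sm_inj] at h
  have hc : c = 0 := mul_left_cancel₀ hb (by linear_combination -h.1)
  have hd : a = d := mul_left_cancel₀ hb (by linear_combination h.2.1)
  subst hc hd
  rcases mul_self_eq_one_iff.1 (show a * a = 1 by linear_combination h1) with rfl | rfl
  · exact ⟨x, Or.inl rfl⟩
  · exact ⟨-x, Or.inr (by simp [up, neg_sm])⟩

variable [Fintype F] [DecidableEq F]

theorem card_up : Nat.card (upHom (F := F)).range = Fintype.card F := by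
  rw [← Nat.card_congr (MonoidHom.ofInjective upHom_injective).toEquiv]; simp

theorem card_B1 : Nat.card (B1 F) = (Fintype.card F - 1) * Fintype.card F := by
  rw [← Nat.card_congr b1Equiv]; simp [Fintype.card_units]

theorem coprime_succ (p : ℕ) [hp : Fact p.Prime] [CharP F p] : ¬ p ∣ Fintype.card F + 1 := fun h =>
  hp.out.one_lt.ne' (Nat.dvd_one.1 ((Nat.dvd_add_right (char_dvd_card F p)).1 h))

theorem coprime_pred (p : ℕ) [hp : Fact p.Prime] [CharP F p] : ¬ p ∣ Fintype.card F - 1 := fun h =>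
  hp.out.one_lt.ne' (Nat.dvd_one.1 ((Nat.dvd_add_right h).1 (by
    rw [Nat.sub_add_cancel Fintype.card_pos]; exact char_dvd_card F p)))

theorem ell_of_orderOf {g : SL(2, F)} (h : orderOf g = Fintype.card F + 1) :
    Ell (SpecialLinearGroup.toGL g) := by
  by_contra hn
  obtain ⟨p, _, _⟩ := exists_char F
  obtain ⟨s, a, x, e⟩ := exists_conj_us hn
  obtain ⟨y, hy⟩ := us_pow a x (Fintype.card F - 1)
  rw [← card_units_field, pow_card_eq_one', us_one, card_units_field] at hy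
  have h1 : (us a x) ^ ((Fintype.card F - 1) * p) = 1 := by rw [pow_mul, hy, up_pow_char]
  rw [← e, conj_pow', conj_eq_one_iff', ← orderOf_dvd_iff_pow_eq_one, h] at h1
  have h2 := ((Nat.Prime.coprime_iff_not_dvd Fact.out).2 (coprime_succ (F := F) p)).symm.dvd_of_dvd_mul_right h1
  have h3 : 1 < Fintype.card F := Fintype.one_lt_card
  have := Nat.le_of_dvd (by omega) h2
  omega

theorem eq_StS_of_dvd (p : ℕ) [Fact p.Prime] [CharP F p] {χ : SL(2, F) → ℂ} (hχ : IsIrrCharacter _ χ)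
    (h : p ∣ charDegree χ) : χ = StS F := by
  obtain ⟨g0, h0⟩ := exists_ell_SL F
  haveI : Fact (Ell _) := ⟨h0⟩
  have h1 := coprime_succ (F := F) p
  have h2 := coprime_pred (F := F) p
  rcases irr_SL2' (SpecialLinearGroup.toGL g0) hχ hχ.cast_charDegree.symm with
    ⟨e, -⟩ | ⟨-, e⟩ | ⟨e, -⟩ | ⟨e, -⟩ | ⟨e, _, _, -, -, H⟩ | ⟨e, _, _, -, -, H⟩
  · rw [e, Nat.dvd_one] at h; exact absurd h (Fact.out : p.Prime).one_lt.ne'
  · exact e
  · exact absurd (e ▸ h) h1
  · exact absurd (e ▸ h) h2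
  · obtain ⟨m, hm⟩ := odd_card_iff.2 H.odd
    exact absurd (h.trans (Dvd.intro 2 (by omega))) h1
  · obtain ⟨m, hm⟩ := odd_card_iff.2 H.odd
    exact absurd (h.trans (Dvd.intro 2 (by omega))) h2

theorem deg_StS : charDegree (StS F) = Fintype.card F := charDegree_eq StS_one

theorem center_le_charKer {χ : SL(2, F) → ℂ} (hχ : IsCharacter _ χ) (h : χ (-1) = χ 1) :
    Subgroup.center SL(2, F) ≤ charKer χ := fun z hz => by
  rcases mem_center_SL2.1 hz with rfl | rfl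
  · exact one_mem _
  · exact hχ.mem_charKer_iff.2 h

section deg
variable {S : Type*} [Group S] (hS : Nonempty (S ≃* PSL(2, F)) ∨ Nonempty (S ≃* SL(2, F)))
include hS

theorem deg_of_mem {d : ℕ} (h : d ∈ charDegrees S) : d = 1 ∨ d = Fintype.card F ∨ d = Fintype.card F + 1 ∨
    d = Fintype.card F - 1 ∨ (Odd (Fintype.card F) ∧ (d = (Fintype.card F + 1) / 2 ∨ d = (Fintype.card F - 1) / 2)) := by
  obtain ⟨χ, rfl⟩ := h
  obtain ⟨ψ, hψ, e⟩ : ∃ ψ, IsIrrCharacter SL(2, F) ψ ∧ ψ 1 = (χ : S → ℂ) 1 := by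
    rcases hS with ⟨⟨e⟩⟩ | ⟨⟨e⟩⟩
    · exact ⟨_, (χ.2.comp_equiv e.symm).inflate, by simp⟩
    · exact ⟨_, χ.2.comp_equiv e.symm, by simp⟩
  obtain ⟨g0, h0⟩ := exists_ell_SL F
  haveI : Fact (Ell _) := ⟨h0⟩
  rcases irr_SL2' (SpecialLinearGroup.toGL g0) hψ (e.trans χ.2.cast_charDegree.symm) with
    ⟨e, -⟩ | ⟨e, -⟩ | ⟨e, -⟩ | ⟨e, -⟩ | ⟨e, _, _, -, -, H⟩ | ⟨e, _, _, -, -, H⟩
  any_goals tauto
  · have := odd_card_iff.2 H.odd; tauto
  · have := odd_card_iff.2 H.odd; tauto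

theorem mem_deg {χ : SL(2, F) → ℂ} (hχ : IsIrrCharacter _ χ) (h : χ (-1) = χ 1) {d : ℕ} (hd : χ 1 = d) :
    d ∈ charDegrees S := by
  rcases hS with ⟨⟨e⟩⟩ | ⟨⟨e⟩⟩
  · obtain ⟨ψ, hψ, h1⟩ := hχ.exists_quotient _ (center_le_charKer hχ.isCharacter h)
    exact ⟨⟨_, hψ.comp_equiv e⟩, charDegree_eq (by simpa [hd] using h1 1)⟩
  · exact ⟨⟨_, hχ.comp_equiv e⟩, charDegree_eq (by simpa using hd)⟩

theorem q_mem_deg : Fintype.card F ∈ charDegrees S :=
  mem_deg hS irr_StS (StS_neg_one.trans StS_one.symm) StS_one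

theorem succ_mem_deg (h : ¬ Fintype.card F - 1 ∣ 4) : Fintype.card F + 1 ∈ charDegrees S := by
  obtain ⟨β, hβ⟩ := exists_pow_four_ne (X := MulChar F ℂ) (by rwa [Nat.card_eq_fintype_card, card_mc])
  refine mem_deg hS (irr_RS.2 hβ) ?_ (by simp [RS_one])
  rw [RS_neg_one, RS_one, pow_two, MulChar.mul_apply, ← map_mul]; simp

theorem pred_mem_deg (h : ¬ Fintype.card F + 1 ∣ 4) : Fintype.card F - 1 ∈ charDegrees S := by
  obtain ⟨g0, h0⟩ := exists_ell_SL F
  haveI : Fact (Ell _) := ⟨h0⟩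
  obtain ⟨β, hβ⟩ := exists_pow_four_ne (X := Lin (K1 (SpecialLinearGroup.toGL g0)))
    (by rwa [Nat.card_eq_fintype_card, card_lin_K1])
  refine mem_deg hS (irr_CS.2 hβ) ?_ (by rw [CS_one, cast_q_sub])
  rw [CS_neg_one, CS_one, pow_two, Lin.mul_apply, ← map_mul,
    show kn _ * kn _ = 1 from Subtype.ext (by simp [kn, ← map_mul])]
  simp

end deg

end Cfsg.Agent.H7
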