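import Mathlib

/-! Field lemmas for Higman's theorem on Suzuki 2-groups. -/

set_option autoImplicit false
set_option linter.unusedSectionVars false

open scoped Classical

namespace Cfsg.Agent.H7
namespace Hig

section Ded
variable {F : Type*} [Field F]

theorem li_aut : LinearIndependent F (fun σ : F ≃+* F => ((σ : F →+* F) : F → F)) := by
  have := (linearIndependent_monoidHom F F).comp (fun σ : F ≃+* F => ((σ : F →+* F) : F →* F))
    (fun σ τ h => RingEquiv.ext fun x => DFunLike.congr_fun h x)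
  exact this

theorem ded {s : Finset (F ≃+* F)} {c : (F ≃+* F) → F} (h : ∀ x, ∑ σ ∈ s, c σ * σ x = 0) :
    ∀ σ ∈ s, c σ = 0 := by
  have := (linearIndependent_iff' (R := F)).1 (li_aut (F := F)) s c
  refine this (funext fun x => ?_)
  rw [Finset.sum_apply]; exact h x

/-- a version with a repeated family -/
theorem ded4 {σ τ ρ π : F ≃+* F} {a b c d : F} (h : ∀ x, a * σ x + b * τ x + c * ρ x + d * π x = 0)
    (h1 : σ ≠ τ) (h2 : σ ≠ ρ) (h3 : σ ≠ π) : a = 0 := by
  have := ded (s := {σ, τ, ρ, π}) (c := fun κ => (if κ = σ then a else 0) + (if κ = τ then b else 0) +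
    (if κ = ρ then c else 0) + (if κ = π then d else 0)) (fun x => by
      simp only [add_mul, Finset.sum_add_distrib, ite_mul, zero_mul, Finset.sum_ite_eq']
      simpa using h x) σ (by simp)
  simpa [h1, h2, h3] using this

variable [CharP F 2]

theorem M22 {σ τ ρ π : F ≃+* F} (h : ∀ x, σ x * τ x = ρ x * π x) :
    (σ = ρ ∧ τ = π) ∨ (σ = π ∧ τ = ρ) := by
  have key : ∀ {σ τ ρ π : F ≃+* F}, (∀ x, σ x * τ x = ρ x * π x) → σ = τ ∨ σ = ρ ∨ σ = π := by
    intro σ τ ρ π h
    by_contra hc
    simp only [not_or] at hc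
    have := ded4 (σ := σ) (τ := τ) (ρ := ρ) (π := π) (a := 1) (b := 1) (c := -1) (d := -1) (fun x => by
      have h1 := h (x + 1)
      have h2 := h x
      simp only [map_add, map_one] at h1
      linear_combination h1 - h2) hc.1 hc.2.1 hc.2.2
    exact one_ne_zero this
  have canc : ∀ {σ τ π : F ≃+* F}, (∀ x, σ x * τ x = σ x * π x) → τ = π := by
    intro σ τ π h
    ext x
    by_cases hx : x = 0
    · simp [hx]
    · exact mul_left_cancel₀ (by simpa using hx) (h x)
  have sq : ∀ {σ ρ : F ≃+* F}, (∀ x, σ x * σ x = ρ x * ρ x) → σ = ρ := by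
    intro σ ρ h
    ext x
    have := h x
    grind
  rcases key h with h1 | h1 | h1
  · subst h1
    rcases key (fun x => (h x).symm) with h2 | h2 | h2
    · subst h2; exact Or.inl ⟨sq h, sq h⟩
    · subst h2; exact Or.inl ⟨rfl, canc h⟩
    · subst h2; exact Or.inl ⟨rfl, canc h⟩
  · subst h1; exact Or.inl ⟨rfl, canc h⟩
  · subst h1; exact Or.inr ⟨rfl, canc fun x => (h x).trans (mul_comm _ _)⟩

end Ded

variable {F : Type*} [Field F] [Fintype F] [CharP F 2]

noncomputable instance fintypeAut : Fintype (F ≃+* F) :=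
  @Fintype.ofFinite _ (Finite.of_injective (fun σ : F ≃+* F => (σ : F → F)) DFunLike.coe_injective)

theorem span_aut (f : F →+ F) : ∃ c : (F ≃+* F) → F, ∀ x, f x = ∑ σ, c σ * σ x := by
  letI : Algebra (ZMod 2) F := ZMod.algebra F 2
  haveI : Fact (Nat.Prime 2) := ⟨Nat.prime_two⟩
  let e : (F ≃+* F) ≃ (F ≃ₐ[ZMod 2] F) :=
    { toFun := fun σ => AlgEquiv.ofRingEquiv (f := σ) fun r => by
        have := RingHom.ext_zmod ((σ : F →+* F).comp (algebraMap (ZMod 2) F)) (algebraMap (ZMod 2) F)
        exact DFunLike.congr_fun this r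
      invFun := fun σ => σ.toRingEquiv
      left_inv := fun σ => rfl
      right_inv := fun σ => rfl }
  let v : (F ≃+* F) → (F →ₗ[ZMod 2] F) := fun σ => (e σ).toLinearMap
  have hli : LinearIndependent F v := by
    refine linearIndependent_iff'.2 fun s c hc => ded fun x => ?_
    have := DFunLike.congr_fun hc x
    rw [LinearMap.sum_apply] at this
    exact this
  have hsp := hli.span_eq_top_of_card_eq_finrank' (by
    rw [Module.finrank_linearMap_self, ← IsGalois.card_aut_eq_finrank, Nat.card_eq_fintype_card]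
    exact Fintype.card_congr e)
  have : f.toZModLinearMap 2 ∈ Submodule.span F (Set.range v) := hsp ▸ Submodule.mem_top
  obtain ⟨c, hc⟩ := (Submodule.mem_span_range_iff_exists_fun F).1 this
  refine ⟨c, fun x => ?_⟩
  have := DFunLike.congr_fun hc x
  rw [LinearMap.sum_apply] at this
  exact this.symm

theorem span_bi (B : F →+ F →+ F) :
    ∃ c : (F ≃+* F) × (F ≃+* F) → F, ∀ x y, B x y = ∑ p, c p * (p.1 x * p.2 y) := by
  choose c hc using fun x => span_aut (B x)
  have hadd : ∀ τ x y, c (x + y) τ = c x τ + c y τ := fun τ x y => by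
    have := ded (s := Finset.univ) (c := fun τ => c (x + y) τ - (c x τ + c y τ)) (fun z => by
      simp only [sub_mul, add_mul, Finset.sum_sub_distrib, Finset.sum_add_distrib, ← hc]
      simp) τ (Finset.mem_univ _)
    exact sub_eq_zero.1 this
  choose d hd using fun τ => span_aut (AddMonoidHom.mk' (fun x => c x τ) (hadd τ))
  refine ⟨fun p => d p.2 p.1, fun x y => ?_⟩
  rw [hc, Fintype.sum_prod_type_right]
  refine Finset.sum_congr rfl fun τ _ => ?_
  have := hd τ x
  simp only [AddMonoidHom.mk'_apply] at this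
  rw [this, Finset.sum_mul]
  exact Finset.sum_congr rfl fun σ _ => by ring

theorem ded_bi {c : (F ≃+* F) × (F ≃+* F) → F} (h : ∀ x y, ∑ p, c p * (p.1 x * p.2 y) = 0)
    (p : (F ≃+* F) × (F ≃+* F)) : c p = 0 := by
  have h1 : ∀ x τ, ∑ σ, c (σ, τ) * σ x = 0 := fun x τ =>
    ded (s := Finset.univ) (c := fun τ => ∑ σ, c (σ, τ) * σ x) (fun y => by
      rw [← h x y, Fintype.sum_prod_type_right]
      refine Finset.sum_congr rfl fun τ _ => ?_
      rw [Finset.sum_mul]
      exact Finset.sum_congr rfl fun σ _ => by ring) τ (Finset.mem_univ _)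
  exact ded (s := Finset.univ) (c := fun σ => c (σ, p.2)) (fun x => h1 x p.2) p.1 (Finset.mem_univ _)

theorem quad (q : F → F)
    (hq : ∀ x y z : F, q (x + y + z) + q (x + y) + q (x + z) + q (y + z) + q x + q y + q z = 0) :
    ∃ c : (F ≃+* F) × (F ≃+* F) → F, ∀ x, q x = ∑ p, c p * (p.1 x * p.2 x) := by
  letI : Algebra (ZMod 2) F := ZMod.algebra F 2
  have h0 : q 0 = 0 := by
    have := hq 0 0 0
    simp only [add_zero] at this
    grind
  have hz : ∀ a : ZMod 2, a = 0 ∨ a = 1 := by decide
  let Q : QuadraticMap (ZMod 2) F F := QuadraticMap.ofPolar q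
    (fun a x => by rcases hz a with rfl | rfl <;> simp [h0])
    (fun x x' y => by
      have := hq x x' y
      simp only [QuadraticMap.polar]
      grind)
    (fun a x y => by rcases hz a with rfl | rfl <;> simp [QuadraticMap.polar, h0])
  obtain ⟨B, hB⟩ := LinearMap.BilinMap.toQuadraticMap_surjective Q
  obtain ⟨c, hc⟩ := span_bi (AddMonoidHom.mk' (fun x => (B x).toAddMonoidHom) fun x y => by
    ext z; simp)
  refine ⟨c, fun x => ?_⟩
  rw [← hc]
  exact (DFunLike.congr_fun hB x).symm

/-- `l` generates the multiplicative group -/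
def Prim (l : F) : Prop := l ≠ 0 ∧ ∀ c : F, c ≠ 0 → ∃ k : ℕ, l ^ k = c

/-- coefficients of an equivariant biadditive map -/
theorem coeff_equiv {B : F →+ F →+ F} {c : (F ≃+* F) × (F ≃+* F) → F}
    (hc : ∀ x y, B x y = ∑ p, c p * (p.1 x * p.2 y)) {l m n : F}
    (h : ∀ x y, B (l * x) (m * y) = n * B x y) (p : (F ≃+* F) × (F ≃+* F)) (hp : c p ≠ 0) :
    p.1 l * p.2 m = n := by
  have := ded_bi (c := fun p => c p * (p.1 l * p.2 m - n)) (fun x y => by
    have := h x y
    rw [hc, hc, Finset.mul_sum, ← sub_eq_zero, ← Finset.sum_sub_distrib] at this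
    rw [← this]
    exact Finset.sum_congr rfl fun p _ => by simp only [map_mul]; ring) p
  exact sub_eq_zero.1 ((mul_eq_zero.1 this).resolve_left hp)

theorem Prim.ne_one {l : F} (hl : Prim l) (h4 : 2 < Fintype.card F) : l ≠ 1 := by
  rintro rfl
  obtain ⟨a, b, c, hab, hac, hbc⟩ := Fintype.two_lt_card_iff.1 h4
  have : ∀ x : F, x = 0 ∨ x = 1 := fun x => by
    by_cases hx : x = 0
    · exact Or.inl hx
    · obtain ⟨k, hk⟩ := hl.2 x hx
      exact Or.inr (by simpa using hk.symm)
  rcases this a with h | h <;> rcases this b with h' | h' <;> rcases this c with h'' | h'' <;> simp_all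

/-- **Key lemma**: a nonzero equivariant biadditive map `U × V → V` has no zero divisors. -/
theorem inj (h4 : 2 < Fintype.card F) {T : F →+ F →+ F} {l m : F} (hl : Prim l) (hm : Prim m)
    (h : ∀ x y, T (l * x) (m * y) = m * T x y) {x y : F} (hx : x ≠ 0) (hy : y ≠ 0)
    (h0 : T x y = 0) : ∀ x y, T x y = 0 := by
  obtain ⟨c, hc⟩ := span_bi T
  have hne : ∀ p, c p ≠ 0 → p.2 ≠ RingEquiv.refl F := fun p hp e => by
    have := coeff_equiv hc h p hp
    rw [e] at this
    have h1 : p.1 l = 1 := mul_right_cancel₀ hm.1 (by simpa using this)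
    exact hl.ne_one h4 (p.1.injective (by simpa using h1))
  have huniq : ∀ p p', c p ≠ 0 → c p' ≠ 0 → p = p' := by
    rintro ⟨σ, τ⟩ ⟨σ', τ'⟩ hp hp'
    have e1 := coeff_equiv hc h _ hp
    have e2 := coeff_equiv hc h _ hp'
    simp only at e1 e2
    have e1' : l * σ.symm (τ m) = σ.symm m := by simpa using congrArg σ.symm e1
    have e2' : l * σ'.symm (τ' m) = σ'.symm m := by simpa using congrArg σ'.symm e2
    have e3 : σ.symm m * σ'.symm (τ' m) = σ'.symm m * σ.symm (τ m) := by
      rw [← e1', ← e2']; ring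
    have e4 : ∀ z, σ.symm z * (τ'.trans σ'.symm) z = σ'.symm z * (τ.trans σ.symm) z := fun z => by
      by_cases hz : z = 0
      · simp [hz]
      · obtain ⟨k, rfl⟩ := hm.2 z hz
        simp only [RingEquiv.trans_apply, map_pow, ← mul_pow, e3]
    rcases M22 e4 with ⟨h1, h2⟩ | ⟨h1, -⟩
    · have hσ : σ = σ' := by simpa using congrArg RingEquiv.symm h1
      subst hσ
      refine Prod.ext rfl (RingEquiv.ext fun z => ?_)
      exact (σ.symm.injective (DFunLike.congr_fun h2 z)).symm
    · exact absurd (RingEquiv.ext fun z => (σ.symm.injective (DFunLike.congr_fun h1 z)).symm)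
        (hne _ hp)
  suffices hs : ∀ p, c p = 0 by intro x y; simp [hc, hs]
  intro p
  by_contra hp
  rw [hc, Finset.sum_eq_single p (fun p' _ hp' => by
    have : c p' = 0 := by by_contra h'; exact hp' (huniq _ _ h' hp)
    simp [this]) (by simp)] at h0
  simp [hp, hx, hy] at h0

end Hig
end Cfsg.Agent.H7
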