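import Mathlib
import Cfsg.Agent.H7.BR5

/-! Groups with a self-centralizing element of prime order. -/

namespace Cfsg.Agent.H7

open Finset Cfsg.Agent.H3 Sv MulAction
open scoped ComplexConjugate Pointwise commutatorElement

variable {G : Type*} [Group G] {p : ℕ} [Fact p.Prime] {x : G} {K : Subgroup G}

theorem D1.orderOf_xp [Finite G] (h : D1 p x K) (a : (ZMod p)ˣ) : orderOf (xp x (a : ZMod p)) = p :=
  orderOf_eq_prime (by rw [xp, ← pow_mul, h.pow_eq_one_iff]; exact dvd_mul_left _ _)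
    fun e => not_dvd_val a.ne_zero (h.pow_eq_one_iff.1 e)

theorem D1.card_classes [Finite G] (h : D1 p x K) :
    Nat.card {C : ConjClasses G // ∃ g ∈ C.carrier, orderOf g = p} * Nat.card (Eg h) = p - 1 := by
  let f : (ZMod p)ˣ ⧸ Eg h → {C : ConjClasses G // ∃ g ∈ C.carrier, orderOf g = p} := fun q =>
    ⟨ConjClasses.mk (xp x ((q.out : (ZMod p)ˣ) : ZMod p)), _, ConjClasses.mem_carrier_mk,
      h.orderOf_xp _⟩
  have hf : Function.Bijective f := by
    refine ⟨fun a b e => ?_, ?_⟩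
    · have := (h.isConj_xp_iff _ _).1 (ConjClasses.mk_eq_mk_iff_isConj.1 (congrArg Subtype.val e))
      rw [← QuotientGroup.eq, QuotientGroup.out_eq', QuotientGroup.out_eq'] at this
      exact this
    · rintro ⟨C, g, hg, hg'⟩
      obtain ⟨c, a, hc⟩ := h.exists_conj_of_order hg'
      refine ⟨a, Subtype.ext ?_⟩
      change ConjClasses.mk _ = C
      rw [← ConjClasses.mem_carrier_iff_mk_eq.1 hg, ConjClasses.mk_eq_mk_iff_isConj]
      refine IsConj.trans ((h.isConj_xp_iff _ a).2 ?_) (isConj_iff.2 ⟨c, hc⟩).symm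
      rw [← QuotientGroup.eq, QuotientGroup.out_eq']
  rw [← Nat.card_congr (Equiv.ofBijective f hf), ← Subgroup.card_eq_card_quotient_mul_card_subgroup,
    Nat.card_eq_fintype_card, ZMod.card_units]

theorem D1.card_subgroups [Finite G] (h : D1 p x K) :
    Nat.card {H : Subgroup G // Nat.card H = p} = Nat.card (Sylow p G) := by
  refine (Nat.card_congr (Equiv.ofBijective (fun Q : Sylow p G =>
    (⟨Q, h.card_sylow Q⟩ : {H : Subgroup G // Nat.card H = p})) ⟨fun a b e => ?_, ?_⟩)).symm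
  · exact Sylow.ext (congrArg Subtype.val e)
  · rintro ⟨H, hH⟩
    obtain ⟨Q, hQ⟩ := (IsPGroup.of_card (n := 1) (by rw [hH, pow_one]) : IsPGroup p H).exists_le_sylow
    exact ⟨Q, Subtype.ext (Subgroup.eq_of_le_of_card_ge hQ (by rw [hH, h.card_sylow])).symm⟩

theorem D1.card_G [Finite G] (h : D1 p x K) (hK : Nat.card K = 1) :
    Nat.card G = Nat.card (Sylow p G) * (p * Nat.card (Eg h)) := by
  rw [← h.card_normalizer hK, ← h.coe_syl, card_sylow_mul_card_normalizer]

theorem D1.fpf [Finite G] (h : D1 p x K) (hK : Nat.card K = 1) {S : Subgroup G}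
    (hp : ¬ p ∣ Nat.card S) : ∀ n ∈ S, n * x = x * n → n = 1 := fun n hn hc => by
  by_contra h1
  have h2 := (h.cent_eq hK).le (Subgroup.mem_centralizer_singleton_iff.2 hc)
  have := Subgroup.card_dvd_of_le (Subgroup.zpowers_le.2 hn)
  rw [eq_zpowers_of_card_prime h.prime (by rw [Nat.card_zpowers, h.ord]) h2 h1, Nat.card_zpowers,
    h.ord] at this
  exact hp this

theorem D1.quot [Finite G] (h : D1 p x K) (hK : Nat.card K = 1) {S : Subgroup G} [hS : S.Normal]
    (hp : ¬ p ∣ Nat.card S) : orderOf (x : G ⧸ S) = p ∧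
      Subgroup.centralizer ({(x : G ⧸ S)} : Set (G ⧸ S)) = Subgroup.zpowers (x : G ⧸ S) := by
  refine ⟨orderOf_eq_prime (by rw [← QuotientGroup.mk_pow, h.pow_eq_one_iff.2 dvd_rfl]; rfl)
    fun e => hp (h.ord ▸ Subgroup.orderOf_dvd_natCard _ ((QuotientGroup.eq_one_iff _).1 e)),
    le_antisymm (fun g hg => ?_) ?_⟩
  · obtain ⟨g, rfl⟩ := QuotientGroup.mk_surjective g
    have h1 : g * x * g⁻¹ * x⁻¹ ∈ S := by
      rw [← QuotientGroup.eq_one_iff]
      simp [Subgroup.mem_centralizer_singleton_iff.1 hg]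
    obtain ⟨s, hs, e⟩ := exists_conj_of_fpf (h.fpf hK hp) h1
    have h2 : s⁻¹ * g ∈ Subgroup.zpowers x := (h.cent_eq hK).le
      (Subgroup.mem_centralizer_singleton_iff.2 (by
        rw [inv_mul_cancel_right] at e
        calc s⁻¹ * g * x = s⁻¹ * (g * x * g⁻¹) * g := by group
          _ = _ := by rw [← e]; group))
    obtain ⟨k, hk⟩ := h2
    refine ⟨k, ?_⟩
    change ((x ^ k : G) : G ⧸ S) = _
    rw [show x ^ k = s⁻¹ * g from hk, QuotientGroup.mk_mul,
      (QuotientGroup.eq_one_iff _).2 (S.inv_mem hs), one_mul]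
  · rw [Subgroup.zpowers_le, Subgroup.mem_centralizer_singleton_iff]

theorem D1.le_commutator [Finite G] (h : D1 p x K) (hK : Nat.card K = 1) {S : Subgroup G}
    [hS : S.Normal] (hp : ¬ p ∣ Nat.card S) : S ≤ commutator G := fun s hs => by
  obtain ⟨c, -, e⟩ := exists_conj_of_fpf (h.fpf hK hp) hs
  rw [show s = ⁅c, x⁆ by rw [commutatorElement_def, e, mul_inv_cancel_right]]
  exact Subgroup.commutator_mem_commutator (Subgroup.mem_top _) (Subgroup.mem_top _)

theorem D1.mem_commutator [Finite G] (h : D1 p x K) (he : Nat.card (Eg h) ≠ 1) :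
    x ∈ commutator G := by
  obtain ⟨⟨u, hu⟩, hu1⟩ := Subgroup.ne_bot_iff_exists_ne_one.1 (mt Subgroup.card_eq_one.2 he)
  obtain ⟨c, hc⟩ := isConj_iff.1 hu
  have h1 : ⁅c, x⁆ ∈ Subgroup.zpowers x := by
    rw [commutatorElement_def, hc]
    exact mul_mem (Subgroup.npow_mem_zpowers _ _) (inv_mem (Subgroup.mem_zpowers x))
  have h2 : ⁅c, x⁆ ≠ 1 := fun e => hu1 (Subtype.ext (Units.ext (h.xp_inj (by
    rw [commutatorElement_def, hc, mul_inv_eq_one] at e
    rw [e]; exact h.xp_one.symm))))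
  rw [← Subgroup.zpowers_le,
    ← eq_zpowers_of_card_prime h.prime (by rw [Nat.card_zpowers, h.ord]) h1 h2, Subgroup.zpowers_le]
  exact Subgroup.commutator_mem_commutator (Subgroup.mem_top _) (Subgroup.mem_top _)

theorem D1.dvd_commutator [Finite G] (h : D1 p x K) (he : Nat.card (Eg h) ≠ 1) :
    p ∣ Nat.card (commutator G) :=
  h.ord ▸ Subgroup.orderOf_dvd_natCard _ (h.mem_commutator he)

theorem D1.index_dvd [Finite G] (h : D1 p x K) (hK : Nat.card K = 1) {N : Subgroup G}
    [hN : N.Normal] (hp : p ∣ Nat.card N) : N.index ∣ Nat.card (Eg h) := by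
  have h1 := Subgroup.zpowers_le.2 (h.mem_of_normal hp)
  have h2 : Subgroup.normalizer (Subgroup.zpowers x : Set G) ⊔ N = ⊤ :=
    h.syl.normalizer_sup_eq_top' h1
  rw [← Subgroup.relIndex_top_right, ← h2, Subgroup.relIndex_sup_right]
  refine (Subgroup.relIndex_dvd_of_le_left _ h1).trans (dvd_of_eq ?_)
  have h3 := card_inf_mul_relIndex (Subgroup.zpowers x)
    (Subgroup.normalizer (Subgroup.zpowers x : Set G))
  rw [inf_eq_left.2 Subgroup.le_normalizer, h.card_normalizer hK, Nat.card_zpowers, h.ord] at h3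
  exact Nat.eq_of_mul_eq_mul_left h.prime.pos h3

theorem D1.e_one [Finite G] (h : D1 p x K) (hK : Nat.card K = 1) (he : Nat.card (Eg h) = 1) :
    commutator G = pPrimeCore p G ∧ (commutator G).index = p ∧
      Nat.card (commutator G) = Nat.card (Sylow p G) := by
  have h1 : Subgroup.normalizer ((h.syl : Subgroup G) : Set G) ≤
      Subgroup.centralizer ((h.syl : Subgroup G) : Set G) := by
    rw [h.coe_syl, centralizer_zpowers, h.cent_eq hK]
    refine (Subgroup.eq_of_le_of_card_ge Subgroup.le_normalizer ?_).ge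
    rw [h.card_normalizer hK, he, Nat.card_zpowers, h.ord, mul_one]
  have h2 := MonoidHom.ker_transferSylow_isComplement' h.syl h1
  set N := (MonoidHom.transferSylow h.syl h1).ker
  have h3 : N.index = p := by rw [h2.symm.index_eq_card, h.card_sylow]
  have h4 : ¬ p ∣ Nat.card N := by rw [← h2.index_eq_card]; exact h.syl.not_dvd_index
  haveI : IsCyclic (G ⧸ N) := isCyclic_of_prime_card (p := p) h3
  have h5 : commutator G = N := le_antisymm
    (Subgroup.Normal.quotient_commutative_iff_commutator_le.1 inferInstance) (h.le_commutator hK h4)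
  refine ⟨le_antisymm (h5 ▸ L.le_pPrimeCore ((Nat.Prime.coprime_iff_not_dvd h.prime).2 h4).symm)
    (h.le_commutator hK (L.not_dvd_card_pPrimeCore h.prime)), h5 ▸ h3, ?_⟩
  have h6 := h.card_G hK
  rw [he, mul_one, ← N.card_mul_index, h3] at h6
  rw [h5]
  exact Nat.eq_of_mul_eq_mul_right h.prime.pos h6

theorem D1.of_order [Finite G] (h : D1 p x K) {z : G} (hz : orderOf z = p) {H : Subgroup G}
    (hH : z ∈ H) : ∃ K', D1 p (⟨z, hH⟩ : H) K' := by
  refine exists_D1 h.prime (by rw [Subgroup.orderOf_mk, hz]) fun hd => h.idx ?_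
  have h1 := (Subgroup.zpowers (⟨z, hH⟩ : H)).card_mul_index
  rw [Nat.card_zpowers, Subgroup.orderOf_mk, hz] at h1
  have h2 := Subgroup.card_subgroup_dvd_card H
  rw [h.card_eq, ← h1] at h2
  exact hd.trans (Nat.dvd_of_mul_dvd_mul_left h.prime.pos h2)

theorem D1.sub_one [Finite G] (h : D1 p x K) (hK : Nat.card K = 1) {H : Subgroup G} (hH : x ∈ H) :
    ∃ K', D1 p (⟨x, hH⟩ : H) K' ∧ Nat.card K' = 1 := by
  refine exists_D1_one (by rw [Subgroup.orderOf_mk, h.ord]) (le_antisymm (fun g hg => ?_) ?_)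
  · obtain ⟨k, hk⟩ := (h.cent_eq hK).le (Subgroup.mem_centralizer_singleton_iff.2
      (congrArg Subtype.val (Subgroup.mem_centralizer_singleton_iff.1 hg)))
    exact ⟨k, Subtype.ext hk⟩
  · rw [Subgroup.zpowers_le, Subgroup.mem_centralizer_singleton_iff]

/-- a subgroup normal in a normal subgroup, of order divisible by `p`, contains `G'` -/
theorem D1.commutator_le' [Finite G] (h : D1 p x K) (hK : Nat.card K = 1) {N : Subgroup G}
    [hN : N.Normal] {M : Subgroup N} [hM : M.Normal] (hp : p ∣ Nat.card M) :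
    commutator G ≤ M.map N.subtype := by
  have h1 := h.mem_of_normal (hp.trans (Subgroup.card_subgroup_dvd_card M))
  refine (h.commutator_le hK (N := Subgroup.normalClosure {x}) (h.ord ▸
    Subgroup.orderOf_dvd_natCard _ (Subgroup.subset_normalClosure rfl))).trans ?_
  rw [Subgroup.normalClosure, Subgroup.closure_le]
  intro z hz
  obtain ⟨y, rfl, hy⟩ := Group.mem_conjugatesOfSet_iff.1 hz
  obtain ⟨c, rfl⟩ := isConj_iff.1 hy
  obtain ⟨K', h'⟩ := h.of_order (z := c * y * c⁻¹) (by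
    rw [show c * y * c⁻¹ = MulAut.conj c y from rfl, MulEquiv.orderOf_eq, h.ord]) (hN.conj_mem _ h1 c)
  exact ⟨_, h'.mem_of_normal hp, rfl⟩

theorem detChar_sum [Finite G] {ι : Type*} (s : Finset ι) {f : ι → G → ℂ}
    (h : ∀ i ∈ s, IsCharacter G (f i)) : detChar (∑ i ∈ s, f i) = ∏ i ∈ s, detChar (f i) := by
  classical
  induction s using Finset.induction_on with
  | empty => simp [detChar_zero]
  | insert a s ha ih =>
    rw [Finset.sum_insert ha, Finset.prod_insert ha, (h a (Finset.mem_insert_self _ _)).detChar_add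
      (isCharacter_sum _ _ fun i hi => h i (Finset.mem_insert_of_mem hi)),
      ih fun i hi => h i (Finset.mem_insert_of_mem hi)]

theorem detChar_of_vanish [Finite G] {χ : G → ℂ} (hχ : IsCharacter G χ) {y : G} {k t : ℕ}
    (hy : orderOf y = 2 * k) (hd : χ 1 = t * (2 * k : ℕ))
    (h0 : ∀ g ∈ Subgroup.zpowers y, g ≠ 1 → χ g = 0) : detChar χ y = (-1) ^ t := by
  have hk : 2 * k ≠ 0 := hy ▸ (orderOf_pos y).ne'
  have hζ := Complex.isPrimitiveRoot_exp _ hk
  set ζ := Complex.exp (2 * Real.pi * Complex.I / (2 * k : ℕ))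
  let y' : Subgroup.zpowers y := ⟨y, Subgroup.mem_zpowers y⟩
  have hy' : ∀ g, g ∈ Subgroup.zpowers y' := fun ⟨_, j, hj⟩ => ⟨j, Subtype.ext hj⟩
  have ho : orderOf y' = 2 * k := by rw [Subgroup.orderOf_mk, hy]
  have hu := hζ.isUnit_unit hk
  let lam := monoidHomOfForallMemZpowers hy' (g' := (hζ.isUnit hk).unit) (by
    rw [ho, ← hu.eq_orderOf])
  have h1 : (lam y' : ℂ) = ζ := by simp [lam]
  have h2 : (fun g : Subgroup.zpowers y => χ g) =
      (t : ℂ) • ∑ j ∈ range (2 * k), fun g => ((lam ^ j) g : ℂ) := by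
    ext g
    simp only [Pi.smul_apply, Finset.sum_apply, MonoidHom.pow_apply, Units.val_pow_eq_pow_val,
      smul_eq_mul]
    by_cases hg : g = 1
    · simp [hg, hd]
    · rw [h0 g g.2 fun e => hg (Subtype.ext e), geom_sum_eq, ← ho, ← Units.val_pow_eq_pow_val,
        ← map_pow, orderOf_dvd_iff_pow_eq_one.1 (orderOf_dvd_of_mem_zpowers (hy' g))]
      · simp
      · obtain ⟨j, rfl⟩ := hy' g
        intro e
        rw [map_zpow, Units.val_zpow_eq_zpow_val, h1, hζ.zpow_eq_one_iff_dvd, ← ho,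
          orderOf_dvd_iff_zpow_eq_one] at e
        exact hg e
  have h3 : ζ ^ k = -1 := (hζ.pow (Nat.pos_of_ne_zero hk) (mul_comm _ _)).eq_neg_one_of_two_right
  rw [← hχ.detChar_res _ y', h2, (isCharacter_sum _ _ fun j _ => isCharacter_linear _).detChar_natCast_smul,
    detChar_sum _ fun j _ => isCharacter_linear _]
  simp only [detChar_linear]
  simp only [Pi.pow_apply, Finset.prod_apply, MonoidHom.pow_apply,
    Units.val_pow_eq_pow_val, h1]
  have h4 := Finset.sum_range_id_mul_two (2 * k)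
  rw [Finset.prod_pow_eq_pow_sum (f := fun i => i), show ∑ i ∈ range (2 * k), i = k * (2 * k - 1) by nlinarith, pow_mul, h3,
    Odd.neg_one_pow ⟨k - 1, by omega⟩]

end Cfsg.Agent.H7
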