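import Cfsg.Agent.H4.Dick9

/-! Macbeath-type trace lemmas for `SL₂` over a finite field. -/

set_option autoImplicit false

namespace Cfsg.Agent.H7

open Cfsg.Agent.H4 Subgroup Matrix
open scoped MatrixGroups

variable {F : Type*} [Field F]

theorem conic [Finite F] {s : F} (hs : s ^ 2 ≠ 4) (t t' : F) :
    ∃ a b : F, a ^ 2 - s * a * b + b ^ 2 - t * a + t' * b + 1 = 0 := by
  classical
  haveI := Fintype.ofFinite F
  by_cases h2 : (2 : F) = 0
  · have hs0 : s ≠ 0 := by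
      rintro rfl
      exact hs (by linear_combination (-2 : F) * h2)
    have hc : ringChar F = 2 := by
      by_contra h
      exact Ring.two_ne_zero h h2
    obtain ⟨u, hu⟩ := FiniteField.isSquare_of_char_two hc
      ((t' / s) ^ 2 + (t / s) ^ 2 + t * t' / s + 1)
    refine ⟨u + t' / s, t / s, ?_⟩
    have e1 : s * (t / s) = t := by field_simp
    have e2 : t * t' / s = t * (t' / s) := by ring
    have e3 : t' * (t / s) = t * (t' / s) := by ring
    linear_combination (-1 : F) * hu - (u + t' / s) * e1 + e3 + e2 +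
      ((t' / s) ^ 2 + u * (t' / s) + (t / s) ^ 2 + 1 - t * u) * h2
  · have hodd : Fintype.card F % 2 = 1 := Nat.odd_iff.1 (odd_card_iff.2 h2)
    have h4 : (1 - (s / 2) ^ 2 : F) ≠ 0 := fun h => hs (by field_simp at h; linear_combination -h)
    obtain ⟨u, b, h⟩ := FiniteField.exists_root_sum_quadratic
      (f := Polynomial.C 1 * Polynomial.X ^ 2 + Polynomial.C (-t) * Polynomial.X + Polynomial.C 0)
      (g := Polynomial.C (1 - (s / 2) ^ 2) * Polynomial.X ^ 2 + Polynomial.C (t' - t * (s / 2)) * Polynomial.X +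
        Polynomial.C 1) (Polynomial.degree_quadratic one_ne_zero) (Polynomial.degree_quadratic h4) hodd
    simp only [Polynomial.eval_add, Polynomial.eval_mul, Polynomial.eval_C, Polynomial.eval_pow,
      Polynomial.eval_X] at h
    refine ⟨u + s / 2 * b, b, ?_⟩
    have e : s = 2 * (s / 2) := by field_simp
    linear_combination h - (u + s / 2 * b) * b * e

theorem mac_of_conic {g : SL(2, F)} (hg : Matrix.SpecialLinearGroup.toPGL g ≠ 1) {t t' a b : F}
    (h : a ^ 2 - tr g * a * b + b ^ 2 - t * a + t' * b + 1 = 0) :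
    ∃ A B : SL(2, F), tr A = t ∧ tr B = t' ∧ A * B = g := by
  obtain ⟨k, hk⟩ := exists_slc_of_tr (x := sm 0 (-1) 1 (tr g) (by simp)) (y := g)
    (by rw [toPGL_sm, Ne, pm_eq_one]; simp) hg (by rw [tr_sm, zero_add])
  let A : SL(2, F) := sm a b (t' + b - a * tr g) (t - a) (by linear_combination -h)
  refine ⟨slc k A, slc k (A⁻¹ * sm 0 (-1) 1 (tr g) (by simp)), ?_, ?_, ?_⟩
  · rw [tr_slc, tr_sm]; ring
  · rw [tr_slc, sm_inv, sm_mul, tr_sm]; ring
  · rw [← map_mul, mul_inv_cancel_left, hk]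

theorem mac [Finite F] {g : SL(2, F)} (hg : tr g ^ 2 ≠ 4) (t t' : F) :
    ∃ A B : SL(2, F), tr A = t ∧ tr B = t' ∧ A * B = g := by
  obtain ⟨a, b, h⟩ := conic hg t t'
  exact mac_of_conic (toPGL_ne_one_of_tr hg) h

theorem mac_two {g : SL(2, F)} (hg : Matrix.SpecialLinearGroup.toPGL g ≠ 1) (h2 : tr g = 2) {t t' : F}
    (h : t ≠ t') : ∃ A B : SL(2, F), tr A = t ∧ tr B = t' ∧ A * B = g := by
  have h' : t - t' ≠ 0 := sub_ne_zero.2 h
  refine mac_of_conic hg (a := (t - t')⁻¹) (b := (t - t')⁻¹) ?_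
  rw [h2]
  have := mul_inv_cancel₀ h'
  linear_combination -this

theorem psl_neg (g : SL(2, F)) : ((-g : SL(2, F)) : PSL(2, F)) = g :=
  QuotientGroup.eq.2 (mem_center_SL2.2 (Or.inr (by simp)))

theorem psl_mk_eq_one {g : SL(2, F)} : (g : PSL(2, F)) = 1 ↔ Matrix.SpecialLinearGroup.toPGL g = 1 := by
  rw [QuotientGroup.eq_one_iff, mem_center_SL2, toPGL_eq_one_iff]

theorem psl_mk_eq {g h : SL(2, F)} : (g : PSL(2, F)) = h ↔ g = h ∨ g = -h := by
  rw [← toPGL_eq_iff]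
  exact ⟨fun e => congrArg Matrix.ProjectiveSpecialLinearGroup.toPGL e,
    fun e => Matrix.ProjectiveSpecialLinearGroup.toPGL_injective e⟩

theorem psl_isConj {x y : SL(2, F)} (h : IsConj x y) : IsConj (x : PSL(2, F)) y :=
  (QuotientGroup.mk' (center SL(2, F))).map_isConj h

theorem psl_isConj_of_tr [Finite F] {x y : SL(2, F)} (h : tr x ^ 2 ≠ 4) (e : tr y ^ 2 = tr x ^ 2) :
    IsConj (x : PSL(2, F)) y := by
  rcases sq_eq_sq_iff_eq_or_eq_neg.1 e with e | e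
  · exact psl_isConj (isConj_of_tr h e.symm)
  · rw [← psl_neg y]
    exact psl_isConj (isConj_of_tr h (by rw [tr_neg, e, neg_neg]))

theorem tr_sq_of_psl_isConj {x y : SL(2, F)} (h : IsConj (x : PSL(2, F)) y) : tr y ^ 2 = tr x ^ 2 := by
  obtain ⟨u, hu⟩ := isConj_iff.1 h
  obtain ⟨u, rfl⟩ := QuotientGroup.mk_surjective u
  have : ((u * x * u⁻¹ : SL(2, F)) : PSL(2, F)) = y := hu
  rcases psl_mk_eq.1 this with e | e
  · rw [← e, tr_conj]
  · rw [← tr_conj x u, e, tr_neg, neg_sq]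

/-- a lift whose trace is `2` or has square different from `4` -/
theorem exists_lift_two (g : PSL(2, F)) : ∃ G : SL(2, F), (G : PSL(2, F)) = g ∧ (tr G ^ 2 ≠ 4 ∨ tr G = 2) := by
  obtain ⟨G, rfl⟩ := QuotientGroup.mk_surjective g
  by_cases h : tr G ^ 2 = 4
  · rcases sq_eq_sq_iff_eq_or_eq_neg.1 (h.trans (by norm_num : (4 : F) = 2 ^ 2)) with e | e
    · exact ⟨G, rfl, Or.inr e⟩
    · exact ⟨-G, psl_neg G, Or.inr (by rw [tr_neg, e, neg_neg])⟩
  · exact ⟨G, rfl, Or.inl h⟩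

theorem prod_of_tr [Finite F] {X A B : SL(2, F)} (h : tr X ^ 2 ≠ 4) (hA : tr A ^ 2 = tr X ^ 2)
    (hB : tr B ^ 2 = tr X ^ 2) : ∃ u v : PSL(2, F), ((A * B : SL(2, F)) : PSL(2, F)) =
      (u * X * u⁻¹) * (v * X * v⁻¹) := by
  obtain ⟨u, hu⟩ := isConj_iff.1 (psl_isConj_of_tr h hA)
  obtain ⟨v, hv⟩ := isConj_iff.1 (psl_isConj_of_tr h hB)
  exact ⟨u, v, by rw [hu, hv]; rfl⟩

theorem exists_eigen_of_rat [Fintype F] {X : SL(2, F)} {x : Pt F} (hx : Rat x)
    (h : Matrix.SpecialLinearGroup.toPGL X • x = x) : ∃ a : F, a ^ 2 - tr X * a + 1 = 0 := by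
  obtain ⟨g, rfl⟩ := hx.exists_smul
  obtain ⟨k, rfl⟩ := ProjGenLinGroup.mk_surjective g
  have h1 : Matrix.SpecialLinearGroup.toPGL (slc k⁻¹ X) • (pt OnePoint.infty : Pt F) = pt OnePoint.infty := by
    rw [toPGL_slc, map_inv, inv_inv, conj_smul_eq_iff]; exact h
  rw [← tr_slc k⁻¹]
  obtain ⟨a, b, c, d, hd, e⟩ := sm_surj (slc k⁻¹ X)
  rw [e] at h1 ⊢
  rw [toPGL_sm, pm_fix_infty] at h1
  refine ⟨a, ?_⟩
  rw [tr_sm]
  linear_combination -hd - b * h1

end Cfsg.Agent.H7
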