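import Mathlib
import Cfsg.Agent.H7.K1
import Cfsg.Agent.H8.Cop
import Cfsg.Agent.H1.Coprime
import Cfsg.Agent.H1.Products

/-! Sylow numbers. -/

namespace Cfsg.Agent.H7

open Subgroup H2 Cfsg.Agent.H3 Finset
open scoped Pointwise

universe u

variable {G : Type*} [Group G] [Finite G] {p : ℕ} [hp : Fact p.Prime]

theorem brodkey (hab : ∀ P : Sylow p G, IsMulCommutative (P : Subgroup G)) (P : Sylow p G) :
    ∃ Q : Sylow p G, ∀ R : Sylow p G, (P : Subgroup G) ⊓ Q ≤ R := by
  obtain ⟨Q, -, hQ⟩ := Set.Finite.exists_minimalFor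
    (fun Q : Sylow p G => Nat.card ((P : Subgroup G) ⊓ Q : Subgroup G)) Set.univ Set.finite_univ
    Set.univ_nonempty
  have hn : ∀ (S : Sylow p G) {D : Subgroup G}, D ≤ S → (S : Subgroup G) ≤ normalizer (D : Set G) :=
    fun S D hD => (show (S : Subgroup G) ≤ centralizer (D : Set G) from fun a ha b hb =>
      congrArg Subtype.val ((hab S).is_comm.comm ⟨b, hD hb⟩ ⟨a, ha⟩)).trans (centralizer_le_normalizer _)
  refine ⟨Q, fun R => ?_⟩
  obtain ⟨n, hn1, hn2⟩ := (sylIn_of_le Q (hn Q (D := (P : Subgroup G) ⊓ Q) inf_le_right)).exists_cj_le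
    (R.isPGroup'.to_inf_left) inf_le_right
  rw [cj_inf, cj_eq_of_mem hn1, ← coe_smul_sylow] at hn2
  have h1 : (P : Subgroup G) ⊓ (n • R : Sylow p G) ≤ (P : Subgroup G) ⊓ Q := fun x hx =>
    ⟨hx.1, hn2 ⟨hx.2, hn P inf_le_left hx.1⟩⟩
  have h2 := eq_of_le_of_card_ge h1 (hQ (Set.mem_univ (n • R)) (card_le_of_le h1))
  have h3 : cj n ((P : Subgroup G) ⊓ Q) ≤ cj n R := by
    rw [cj_eq_of_mem_normalizer hn1, ← h2, ← coe_smul_sylow]; exact inf_le_right
  exact cj_le_cj_iff.1 h3

theorem card_sylow_sylIn {P H : Subgroup G} (h : SylIn p P H) :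
    Nat.card (Sylow p H) = (normalizer (P : Set G)).relIndex H := by
  obtain ⟨S, hS⟩ := h.exists_sylow
  rw [S.card_eq_index_normalizer, relIndex, subgroupOf_normalizer_eq h.le, ← hS]; rfl

theorem card_sylow_eq (P : Sylow p G) :
    Nat.card (Sylow p G) = (normalizer ((P : Subgroup G) : Set G)).index :=
  P.card_eq_index_normalizer

theorem card_sylow_surj {H : Type*} [Group H] {f : G →* H} (hf : Function.Surjective f)
    (P : Sylow p G) :
    Nat.card (Sylow p H) = (normalizer ((P : Subgroup G) : Set G) ⊔ f.ker).index := by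
  haveI := Finite.of_surjective f hf
  rw [(P.mapSurjective hf).card_eq_index_normalizer, ← index_comap_of_surjective _ hf]
  congr 1
  refine le_antisymm (fun g hg => ?_) (sup_le (map_le_iff_le_comap.1 (le_normalizer_map f))
    (ker_le_comap _ _))
  change g ∈ (normalizer (((P : Subgroup G).map f : Subgroup H) : Set H)).comap f at hg
  rw [comap_normalizer_eq_of_surjective _ hf, comap_map_eq] at hg
  obtain ⟨n, hn, h⟩ := (sylIn_of_le P le_sup_left).frattini hg
  rw [← mul_inv_cancel_left n g]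
  exact mul_mem (sup_le_sup_right le_normalizer _ hn) (mem_sup_left h)

theorem card_sylow_of_ker_le {H : Type*} [Group H] {f : G →* H} (hf : Function.Surjective f)
    (P : Sylow p G) (h : f.ker ≤ normalizer ((P : Subgroup G) : Set G)) :
    Nat.card (Sylow p H) = Nat.card (Sylow p G) := by
  rw [card_sylow_surj hf P, sup_eq_left.2 h, P.card_eq_index_normalizer]; rfl

theorem relIndex_sup_normal (A K : Subgroup G) [K.Normal] : A.relIndex (A ⊔ K) = A.relIndex K :=
  ((H1.forall_mul_iff_relIndex_eq le_sup_right le_sup_left).1 (H1.forall_mul_symm fun _ hg => by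
    obtain ⟨x, hx, y, hy, e⟩ := mem_sup_of_normal_right.1 hg
    exact ⟨x, hx, y, hy, e.symm⟩)).symm

theorem card_sylow_mul (K : Subgroup G) [K.Normal] (P : Sylow p G) {N : Subgroup G}
    (hN : N = ((P : Subgroup G) ⊔ K) ⊓ normalizer (((P : Subgroup G) ⊓ K : Subgroup G) : Set G)) :
    Nat.card (Sylow p G) = Nat.card (Sylow p (G ⧸ K)) * Nat.card (Sylow p K) * Nat.card (Sylow p N) := by
  set A := normalizer ((P : Subgroup G) : Set G) with hA
  set B := normalizer (((P : Subgroup G) ⊓ K : Subgroup G) : Set G) with hB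
  have hAB : A ≤ B := H1.le_normalizer_inf le_rfl le_normalizer_of_normal
  have hPN : (P : Subgroup G) ≤ N := hN ▸ le_inf le_sup_left (le_normalizer.trans hAB)
  have h1 : A.relIndex N = A.relIndex (K ⊓ B) := by
    rw [← inf_relIndex_right A N, ← (H1.forall_mul_iff_relIndex_eq (H := K ⊓ B)
      (hN ▸ inf_le_inf_right _ le_sup_right) inf_le_right).1, ← inf_relIndex_right, inf_assoc,
      inf_eq_right.2 (hN ▸ inf_le_inf_right _ le_sup_right : K ⊓ B ≤ N), inf_relIndex_right]
    refine H1.forall_mul_symm fun g hg => ?_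
    obtain ⟨x, hx, y, hy, rfl⟩ := mem_sup_of_normal_right.1 (hN ▸ hg).1
    exact ⟨x, ⟨le_normalizer hx, hPN hx⟩, y, ⟨hy, (mul_mem_cancel_left (hAB (le_normalizer hx))).1
      (hN ▸ hg).2⟩, rfl⟩
  rw [card_sylow_surj (QuotientGroup.mk'_surjective K) P, QuotientGroup.ker_mk',
    card_sylow_sylIn (sylow_inf_normal P K), card_sylow_sylIn (sylIn_of_le P hPN), h1,
    card_sylow_eq P, ← hA, ← hB, ← relIndex_mul_index (le_sup_left : A ≤ A ⊔ K),
    relIndex_sup_normal, ← inf_relIndex_right A K, ← relIndex_mul_relIndex (A ⊓ K) (K ⊓ B) K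
      (le_inf inf_le_right (inf_le_left.trans hAB)) inf_le_left, inf_comm K B, inf_relIndex_right,
    ← inf_relIndex_right (A ⊓ K), inf_assoc, ← inf_assoc K, inf_comm K B, inf_assoc, inf_idem,
    inf_relIndex_right]
  ring

theorem card_sylow_mul' (K : Subgroup G) [K.Normal] (P : Sylow p G) {N : Subgroup G}
    (hN : N = ((P : Subgroup G) ⊔ K) ⊓ normalizer (((P : Subgroup G) ⊓ K : Subgroup G) : Set G))
    [(((P : Subgroup G) ⊓ K).subgroupOf N).Normal] :
    Nat.card (Sylow p G) = Nat.card (Sylow p (G ⧸ K)) * Nat.card (Sylow p K) *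
      Nat.card (Sylow p (N ⧸ ((P : Subgroup G) ⊓ K).subgroupOf N)) := by
  have hPN : (P : Subgroup G) ≤ N := hN ▸ le_inf le_sup_left
    (H1.le_normalizer_inf le_normalizer le_normalizer_of_normal)
  rw [card_sylow_mul K P hN, card_sylow_of_ker_le (QuotientGroup.mk'_surjective _) (P.subtype hPN)]
  rw [QuotientGroup.ker_mk']
  exact le_trans (fun x hx => hx.1) le_normalizer

theorem card_sylow_coprime (K : Subgroup G) [K.Normal] (P : Sylow p G) (h : (P : Subgroup G) ⊔ K = ⊤)
    (hd : (P : Subgroup G) ⊓ K = ⊥) {l : ℕ} (hl : l.Prime) :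
    l ^ (Nat.card (Sylow p G)).factorization l ≡ 1 [MOD p] := by
  haveI := Fact.mk hl
  have hK : (Nat.card K).Coprime p := ((Nat.Prime.coprime_iff_not_dvd hp.out).2
    ((sylow_inf_normal P K).eq_bot_iff.1 hd)).symm
  set C := centralizer ((P : Subgroup G) : Set G)
  have h1 : Nat.card (Sylow p G) = C.relIndex K := by
    rw [card_sylow_eq P, ← relIndex_top_right, ← top_le_iff.1
      (h.ge.trans (sup_le_sup_right le_normalizer K)), relIndex_sup_normal, ← inf_relIndex_right,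
      ← inf_relIndex_right C]
    congr 1
    refine le_antisymm (fun g hg => ⟨fun x hx => ?_, hg.2⟩) (inf_le_inf_right _
      (centralizer_le_normalizer _))
    have : x⁻¹ * (g * x * g⁻¹) ∈ (P : Subgroup G) ⊓ K := ⟨mul_mem ((P : Subgroup G).inv_mem hx)
      ((mem_normalizer_iff.1 hg.1 x).1 hx), by
        rw [← mul_assoc, ← mul_assoc]
        exact mul_mem (by simpa using ‹K.Normal›.conj_mem _ hg.2 x⁻¹) (K.inv_mem hg.2)⟩
    rw [hd, mem_bot, inv_mul_eq_one, eq_mul_inv_iff_mul_eq] at this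
    exact this
  obtain ⟨Q, hQ, hPQ⟩ := H8.exists_inv_sylIn P.isPGroup' le_normalizer_of_normal hK l
  have h2 := H8.inv_sylIn_centralizer P.isPGroup' le_normalizer_of_normal hK hQ hPQ le_rfl
    le_normalizer
  have h3 := H1.card_modEq_card_centralizer P.isPGroup' hPQ
  have h4 := card_inf_mul_relIndex C K
  rw [inf_comm, ← h1] at h4
  have h5 : Nat.card Q = Nat.card (Q ⊓ C : Subgroup G) * l ^ (Nat.card (Sylow p G)).factorization l := by
    rw [H2.SylIn.card_eq_pow hQ, H2.SylIn.card_eq_pow h2, ← pow_add, ← h4,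
      Nat.factorization_mul Nat.card_pos.ne' Nat.card_pos.ne']
    rfl
  rw [h5] at h3
  refine Nat.ModEq.cancel_left_of_coprime (c := Nat.card (Q ⊓ C : Subgroup G)) ?_ (by rwa [mul_one])
  exact (hK.coprime_dvd_left (card_dvd_of_le (inf_le_left.trans hQ.le))).symm

theorem sylow_list (p : ℕ) [hp : Fact p.Prime] (G : Type u) [Group G] [Finite G] :
    ∃ l : List ℕ, l.prod = Nat.card (Sylow p G) ∧ ∀ m ∈ l, (IsPrimePow m ∧ m % p = 1) ∨
      ∃ (S : Type u) (_ : Group S) (_ : Finite S), IsSimpleGroup S ∧ m = Nat.card (Sylow p S) ∧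
        (Group.IsSolvable G → Group.IsSolvable S) := by
  induction hn : Nat.card G using Nat.strong_induction_on generalizing G with | _ n ih
  subst hn
  obtain ⟨P⟩ : Nonempty (Sylow p G) := inferInstance
  rcases subsingleton_or_nontrivial G with hG | hG
  · refine ⟨[], (Nat.card_eq_one_iff_unique.2 ⟨⟨fun a b => Sylow.ext (Subsingleton.elim _ _)⟩,
      ⟨P⟩⟩).symm, by simp⟩
  by_cases hs : IsSimpleGroup G
  · exact ⟨[_], List.prod_singleton, fun m hm => Or.inr ⟨G, _, ‹_›, hs, List.mem_singleton.1 hm, id⟩⟩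
  obtain ⟨K, hK, h1, h2⟩ : ∃ K : Subgroup G, K.Normal ∧ K ≠ ⊥ ∧ K ≠ ⊤ := by
    by_contra! h
    exact hs ⟨fun K hK => or_iff_not_imp_left.2 (h K hK)⟩
  by_cases h3 : (P : Subgroup G) ⊔ K = ⊤ ∧ (P : Subgroup G) ⊓ K = ⊥
  · refine ⟨(Nat.card (Sylow p G)).primeFactors.toList.map
      fun l => l ^ (Nat.card (Sylow p G)).factorization l, ?_, fun m hm => Or.inl ?_⟩
    · rw [Finset.prod_map_toList]
      exact Nat.prod_factorization_pow_eq_self Nat.card_pos.ne'
    · obtain ⟨l, hl, rfl⟩ := List.mem_map.1 hm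
      rw [Finset.mem_toList] at hl
      have hl' := Nat.prime_of_mem_primeFactors hl
      refine ⟨hl'.isPrimePow.pow (Finsupp.mem_support_iff.1 hl), ?_⟩
      rw [card_sylow_coprime K P h3.1 h3.2 hl', Nat.mod_eq_of_lt hp.out.one_lt]
  obtain ⟨N, hN⟩ : ∃ N, N = ((P : Subgroup G) ⊔ K) ⊓
    normalizer (((P : Subgroup G) ⊓ K : Subgroup G) : Set G) := ⟨_, rfl⟩
  have hD : (P : Subgroup G) ⊓ K ≤ N := hN ▸ le_inf (inf_le_left.trans le_sup_left) le_normalizer
  haveI : (((P : Subgroup G) ⊓ K).subgroupOf N).Normal :=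
    (normal_subgroupOf_iff_le_normalizer hD).2 (hN ▸ inf_le_right)
  obtain ⟨l1, a1, b1⟩ := ih _ (card_quot_lt h1) (G ⧸ K) rfl
  obtain ⟨l2, a2, b2⟩ := ih _ (card_lt_of_ne_top h2) K rfl
  obtain ⟨l3, a3, b3⟩ := ih _ (by
    by_cases h4 : (P : Subgroup G) ⊓ K = ⊥
    · exact (Nat.le_of_dvd Nat.card_pos (card_quotient_dvd_card _)).trans_lt (card_lt_of_ne_top
        fun e => h3 ⟨top_le_iff.1 (e.ge.trans (hN ▸ inf_le_left)), h4⟩)
    · exact (card_quot_lt fun e => h4 (by
        rw [subgroupOf_eq_bot, disjoint_iff, inf_eq_left.2 hD] at e; exact e)).trans_le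
        (card_le_card_group N)) (N ⧸ ((P : Subgroup G) ⊓ K).subgroupOf N) rfl
  refine ⟨l1 ++ l2 ++ l3, by rw [List.prod_append, List.prod_append, a1, a2, a3,
    ← card_sylow_mul' K P hN], fun m hm => ?_⟩
  simp only [List.mem_append] at hm
  rcases hm with (hm | hm) | hm
  · exact (b1 m hm).imp id fun ⟨S, i, j, h, h', h''⟩ => ⟨S, i, j, h, h', fun _ => h'' inferInstance⟩
  · exact (b2 m hm).imp id fun ⟨S, i, j, h, h', h''⟩ => ⟨S, i, j, h, h', fun _ => h'' inferInstance⟩
  · exact (b3 m hm).imp id fun ⟨S, i, j, h, h', h''⟩ => ⟨S, i, j, h, h', fun _ => h'' inferInstance⟩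

theorem card_sylow_comm (hG : IsMulCommutative G) : Nat.card (Sylow p G) = 1 := by
  obtain ⟨P⟩ : Nonempty (Sylow p G) := inferInstance
  rw [P.card_eq_index_normalizer, index_eq_one]
  exact normalizer_eq_top_iff.2 inferInstance

/-- reduction of a Sylow number to a simple group -/
theorem exists_simple_sylow {G : Type u} [Group G] [Finite G] {n : ℕ} (hn : Nat.card (Sylow p G) = n)
    (h1 : n ≠ 1) (h2 : ¬ IsPrimePow n) (h3 : ∀ m, m ∣ n → m % p = 1 → m = 1 ∨ m = n) :
    ∃ (S : Type u) (_ : Group S) (_ : Finite S), IsSimpleGroup S ∧ ¬ IsMulCommutative S ∧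
      p ∣ Nat.card S ∧ Nat.card (Sylow p S) = n := by
  obtain ⟨l, a, b⟩ := sylow_list p G
  obtain ⟨m, hm, hm1⟩ : ∃ m ∈ l, m ≠ 1 := by
    by_contra! h
    exact h1 (hn ▸ a ▸ List.prod_eq_one h)
  have h4 : m ∣ n := hn ▸ a ▸ List.dvd_prod hm
  rcases b m hm with h | ⟨S, i, j, h, h', -⟩
  · exact absurd ((h3 m h4 h.2).resolve_left hm1 ▸ h.1) h2
  · have h5 : m % p = 1 := by
      rw [h', card_sylow_modEq_one p S, Nat.mod_eq_of_lt hp.out.one_lt]
    refine ⟨S, i, j, h, fun e => hm1 (h'.trans (card_sylow_comm e)), ?_,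
      h'.symm.trans ((h3 m h4 h5).resolve_left hm1)⟩
    by_contra h6
    obtain ⟨P⟩ : Nonempty (Sylow p S) := inferInstance
    have h7 : (P : Subgroup S) = ⊥ := (sylIn_top P).eq_bot_iff.2 (by rwa [card_top])
    rw [P.card_eq_index_normalizer] at h'
    exact hm1 (h'.trans (index_eq_one.2 (normalizer_eq_top_iff.2 (h7 ▸ inferInstance))))

theorem eq_one_of_forall_smul [IsSimpleGroup G] (hG : ¬ IsMulCommutative G) (hd : p ∣ Nat.card G)
    {g : G} (h : ∀ Q : Sylow p G, g • Q = Q) : g = 1 := by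
  rcases (MulAction.toPermHom G (Sylow p G)).normal_ker.eq_bot_or_eq_top with e | e
  · exact mem_bot.1 (e.le (MonoidHom.mem_ker.2 (Equiv.ext h)))
  · obtain ⟨P⟩ : Nonempty (Sylow p G) := inferInstance
    exact absurd (eq_top_iff.2 fun g _ => Sylow.smul_eq_iff_mem_normalizer.1
      (congrArg (· P) (MonoidHom.mem_ker.1 (e.ge (mem_top g))))) (Sv.normalizer_sylow_ne_top hG hd P)

/-- if all orbits of a Sylow subgroup on the Sylow subgroups are short, it has order `p` -/
theorem card_eq_of_orbits [IsSimpleGroup G] (hG : ¬ IsMulCommutative G) (hd : p ∣ Nat.card G)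
    (h : ∀ P Q : Sylow p G, (Q : Subgroup G).relIndex P ∣ p) (P : Sylow p G) : Nat.card P = p := by
  have hab : ∀ P : Sylow p G, IsMulCommutative (P : Subgroup G) := fun P => ⟨⟨fun a b => by
    refine Subtype.ext (mul_inv_eq_one.1 (eq_one_of_forall_smul hG hd fun Q =>
      Sylow.smul_eq_iff_mem_normalizer.2 (le_normalizer ?_)))
    rcases (Nat.dvd_prime hp.out).1 (h P Q) with e | e
    · exact relIndex_eq_one.1 e (mul_mem (a * b).2 (inv_mem (b * a).2))
    · have h1 := le_normalizer_inf_of_relIndex P.isPGroup' e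
      haveI : ((Q : Subgroup G).subgroupOf P).Normal := by
        rw [← inf_subgroupOf_left]
        exact (normal_subgroupOf_iff_le_normalizer inf_le_left).2 h1
      haveI : IsCyclic (P ⧸ (Q : Subgroup G).subgroupOf P) := isCyclic_of_prime_card (p := p) e
      have : a * b * (b * a)⁻¹ ∈ (Q : Subgroup G).subgroupOf P := by
        rw [← QuotientGroup.eq_one_iff, QuotientGroup.mk_mul, QuotientGroup.mk_inv, mul_inv_eq_one,
          QuotientGroup.mk_mul, QuotientGroup.mk_mul]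
        exact mul_comm' _ _
      exact this⟩⟩
  obtain ⟨Q, hQ⟩ := brodkey hab P
  have h1 : (P : Subgroup G) ⊓ Q = ⊥ := eq_bot_iff.2 fun g hg => mem_bot.2
    (eq_one_of_forall_smul hG hd fun R => Sylow.smul_eq_iff_mem_normalizer.2 (le_normalizer (hQ R hg)))
  have h2 := card_inf_mul_relIndex (Q : Subgroup G) P
  rw [inf_comm, h1, card_bot, one_mul] at h2
  exact Nat.dvd_antisymm (h2 ▸ h P Q) (P.dvd_card_of_dvd_card hd)

theorem relIndex_eq_card_orbit (P Q : Sylow p G) :
    (Q : Subgroup G).relIndex P = Nat.card (MulAction.orbit (P : Subgroup G) Q) := by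
  rw [card_orbit_eq_index, relIndex]
  congr 1
  ext g
  exact (smul_sylow_eq_iff g.2).symm

theorem card_eq_of_lt_sq [IsSimpleGroup G] (hG : ¬ IsMulCommutative G) (hd : p ∣ Nat.card G)
    (hn : Nat.card (Sylow p G) < p ^ 2) (P : Sylow p G) : Nat.card P = p := by
  refine card_eq_of_orbits hG hd (fun P Q => ?_) P
  obtain ⟨k, hk⟩ := P.isPGroup'.index ((Q : Subgroup G).subgroupOf P)
  have h1 : p ^ k < p ^ 2 := by
    rw [← hk]
    exact lt_of_le_of_lt ((relIndex_eq_card_orbit P Q).trans_le (Finite.card_subtype_le _)) hn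
  rw [Nat.pow_lt_pow_iff_right hp.out.one_lt] at h1
  rw [relIndex, hk]
  exact (pow_dvd_pow p (show k ≤ 1 by omega)).trans (pow_one p).dvd

theorem brc_of_simple [IsSimpleGroup G] (hG : ¬ IsMulCommutative G) (hd : p ∣ Nat.card G) {n : ℕ}
    (hn : Nat.card (Sylow p G) = n * p + 1) (h2 : 2 * n < p + 3) (h3 : n < p) : BRC G p := by
  obtain ⟨P⟩ : Nonempty (Sylow p G) := inferInstance
  obtain ⟨x, K, h, -⟩ := exists_D1_sylow P (card_eq_of_lt_sq hG hd (by
    have := hp.out.two_le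
    nlinarith) P)
  letI := Fintype.ofFinite K
  refine h.brc (commutator_eq_top_of_simple hG) (fun N hN h1 => hN.eq_bot_or_eq_top.resolve_right
    fun e => h1 (by rwa [e, card_top])) hn fun u hu => form_bound hp.out h2 hu

end Cfsg.Agent.H7
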