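import Mathlib
import Cfsg.Agent.H7.SylN
import Cfsg.Agent.H7.Normal
import Cfsg.Agent.H3.Misc

/-! Permutation groups of prime degree. -/

namespace Cfsg.Agent.H7

open Finset Cfsg.Agent.H3 MulAction
open scoped ComplexConjugate

variable {G Ω : Type*} [Group G] [MulAction G Ω] {p : ℕ} [hp : Fact p.Prime] {x : G} {K : Subgroup G}

theorem trans_of_order [Finite G] [FaithfulSMul G Ω] (hc : Nat.card Ω = p) (hx : orderOf x = p) :
    IsPretransitive (Subgroup.zpowers x) Ω := by
  haveI : Finite Ω := Nat.finite_of_card_ne_zero (hc ▸ hp.out.ne_zero)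
  obtain ⟨a, ha⟩ : ∃ a : Ω, x • a ≠ a := by
    by_contra! h
    exact hp.out.one_lt.ne (by rw [← hx, show x = 1 from eq_of_smul_eq_smul (α := Ω) (by simpa using h),
      orderOf_one])
  have h1 := card_orbit_mul_card_stabilizer (G := Subgroup.zpowers x) a
  rw [Nat.card_zpowers, hx] at h1
  rcases (Nat.dvd_prime hp.out).1 (Dvd.intro _ h1) with e | e
  · exact absurd (congrArg Subtype.val ((Nat.card_eq_one_iff_unique.1 e).1.elim
      ⟨_, mem_orbit a (⟨x, Subgroup.mem_zpowers x⟩ : Subgroup.zpowers x)⟩ ⟨a, mem_orbit_self a⟩)) ha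
  · exact (isPretransitive_iff_orbit_eq_univ a).2 (Set.eq_of_subset_of_ncard_le (Set.subset_univ _)
      (by rw [Set.ncard_univ, hc, ← Nat.card_coe_set_eq, e]))

theorem two_trans_of_inner [Fintype G] [Finite Ω]
    (h : classInner (fun g : G => (Nat.card (fixedBy Ω g) : ℂ))
      (fun g : G => (Nat.card (fixedBy Ω g) : ℂ)) = 2) : IsMultiplyPretransitive G Ω 2 := by
  rw [classInner_fixedBy_fixedBy] at h
  refine is_two_pretransitive_iff.2 fun {a b c d} hab hcd => ?_
  have h1 : ∀ a b u : Ω, a ≠ b → (Quotient.mk'' (a, b) : orbitRel.Quotient G (Ω × Ω)) ≠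
      Quotient.mk'' (u, u) := fun a b u hab e => by
    obtain ⟨g, hg⟩ := orbitRel_apply.1 (Quotient.exact' e)
    exact hab ((congrArg Prod.fst hg).symm.trans (congrArg Prod.snd hg))
  obtain ⟨y, -, hy⟩ := (Nat.card_eq_two_iff' (Quotient.mk'' (a, a) : orbitRel.Quotient G (Ω × Ω))).1
    (by exact_mod_cast h)
  obtain ⟨g, hg⟩ := orbitRel_apply.1 (Quotient.exact' ((hy _ (h1 c d a hcd)).trans
    (hy _ (h1 a b a hab)).symm))
  exact ⟨g, congrArg Prod.fst hg, congrArg Prod.snd hg⟩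

theorem two_trans_of_irr [Fintype G] [Finite Ω] {χ : IrrCharacter G} (h1 : χ ≠ oneI G)
    (h : ∀ g, (Nat.card (fixedBy Ω g) : ℂ) = 1 + (χ : G → ℂ) g) : IsMultiplyPretransitive G Ω 2 := by
  refine two_trans_of_inner ?_
  rw [show (fun g : G => (Nat.card (fixedBy Ω g) : ℂ)) = (oneI G : G → ℂ) + χ from funext h]
  simp only [classInner_add_left, classInner_add_right, irr_inner, h1, h1.symm, if_true, if_false]
  norm_num

theorem inner_fixedBy_oneI [Fintype G] [Finite Ω] [Nonempty Ω] [IsPretransitive G Ω] :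
    classInner (fun g : G => (Nat.card (fixedBy Ω g) : ℂ)) (oneI G : G → ℂ) = 1 := by
  refine (classInner_fixedBy_one Ω).trans ?_
  rw [Nat.card_eq_one_iff_unique.2 ⟨(pretransitive_iff_subsingleton_quotient G Ω).1 ‹_›, ⟨Quotient.mk'' (Classical.arbitrary Ω)⟩⟩,
    Nat.cast_one]

theorem charDegree_fixedBy : charDegree (fun g : G => (Nat.card (fixedBy Ω g) : ℂ)) = Nat.card Ω :=
  charDegree_eq (by simp)

variable [Fintype K] {h : D1 p x K} {X Y : Finset (IrrCharacter G)} {δ : IrrCharacter G → ℤ} {ε : ℤ}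

theorem Br.prime_degree [Fintype G] [FaithfulSMul G Ω] (hB : Br h X Y δ ε) (hK : Nat.card K = 1)
    (hc : Nat.card Ω = p) : (Subgroup.zpowers x).Normal ∨
      ∃ χ : IrrCharacter G, χ ≠ oneI G ∧ (χ ∈ X ∨ Y.card = 1) ∧
        ∀ g, (Nat.card (fixedBy Ω g) : ℂ) = 1 + (χ : G → ℂ) g := by
  classical
  haveI : Finite Ω := Nat.finite_of_card_ne_zero (hc ▸ hp.out.ne_zero)
  haveI : Nontrivial Ω := Finite.one_lt_card_iff_nontrivial.1 (hc ▸ hp.out.one_lt)
  haveI : IsPretransitive G Ω :=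
    ⟨fun a b => ((trans_of_order hc h.ord).exists_smul_eq a b).elim fun g hg => ⟨g, hg⟩⟩
  obtain ⟨n, m, h1, h2, h3, h4, h5⟩ := hB.dec_const (isCharacter_fixedBy Ω) (γ := 0) fun g hg => by
    rw [Int.cast_zero, Nat.cast_eq_zero, Nat.card_eq_zero]
    refine Or.inl ⟨fun ⟨a, ha⟩ => ?_⟩
    obtain ⟨b, hb⟩ := exists_ne a
    obtain ⟨y, hy⟩ := (trans_of_order hc (h.orderOf_eq hK hg)).exists_smul_eq a b
    exact hb (hy.symm.trans ((Subgroup.zpowers_le (H := stabilizer G a)).2 ha y.2))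
  rw [charDegree_fixedBy, hc] at h3
  have h6 : n (oneI G) = 1 := by exact_mod_cast (h1 _).symm.trans inner_fixedBy_oneI
  by_cases h7 : ∃ χ ∈ X, δ χ = -1 ∧ 1 ≤ n χ
  · obtain ⟨χ, a, b, c⟩ := h7
    have d : χ ≠ oneI G := by rintro rfl; rw [hB.δ_one] at b; omega
    obtain ⟨k, hk⟩ := hB.deg_X a
    have := χ.2.charDegree_pos
    have e : (p : ℤ) ≤ p * k := le_mul_of_one_le_right (by positivity) (by
      rcases k with _ | k
      · omega
      · omega)
    refine Or.inr ⟨χ, d, Or.inl a, fun g => ?_⟩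
    have f := (eq_sum_of_le (n := n) (T := {oneI G, χ}) (by simp [h6, c]) (by
      rw [h3, Finset.sum_pair d.symm, charDegree_oneI]; omega)).2.2
    rw [← h2, Finset.sum_pair d.symm] at f
    exact congrFun f g
  push Not at h7
  have h8 : 1 ≤ ∑ χ ∈ X, (n χ : ℤ) * δ χ := by
    refine le_trans ?_ (Finset.single_le_sum (f := fun χ => (n χ : ℤ) * δ χ) (fun χ hχ => ?_) hB.one_mem)
    · simp [h6, hB.δ_one]
    · rcases hB.sign χ hχ with e | e
      · rw [e]; positivity
      · simp [show n χ = 0 by have := h7 χ hχ e; omega]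
  obtain ⟨rfl, hm⟩ : ε = 1 ∧ 1 ≤ m := by rcases hB.eps with e | e <;> rw [e] at h5 <;> omega
  obtain ⟨θ, hθ⟩ := hB.nonempty
  obtain ⟨k, hk⟩ := hB.deg_Y hθ
  have hs : ∑ θ' ∈ Y, charDegree (θ' : G → ℂ) = Y.card * charDegree (θ : G → ℂ) := by
    rw [Finset.sum_congr rfl fun θ' h' => hB.deg_const h' hθ, Finset.sum_const, smul_eq_mul]
  have hY := hB.cardY
  have hp2 := hp.out.two_le
  have h9 : Nat.card (Eg h) ≤ charDegree (θ : G → ℂ) := by nlinarith
  have f := (eq_sum_of_le (n := n) (T := insert (oneI G) Y) (by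
      simp only [Finset.mem_insert]; rintro χ (rfl | hχ)
      · omega
      · rw [h4 χ hχ]; exact hm) (by
      rw [h3, Finset.sum_insert hB.one_not_mem, charDegree_oneI, hs]
      have := Nat.mul_le_mul_left Y.card h9; omega)).2.2
  rw [← h2, Finset.sum_insert hB.one_not_mem] at f
  by_cases ht : Y.card = 1
  · obtain ⟨θ', e⟩ := Finset.card_eq_one.1 ht
    rw [e, Finset.sum_singleton] at f
    exact Or.inr ⟨θ', fun e' => hB.one_not_mem (by simp [e, e']), Or.inr ht, congrFun f⟩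
  have ht' : 2 ≤ Y.card := by have := Finset.card_pos.2 ⟨θ, hθ⟩; omega
  have h10 : ∀ g, ¬ p ∣ orderOf g → ∃ k : ℕ, (θ : G → ℂ) g = k ∧
      Nat.card (fixedBy Ω g) = 1 + Y.card * k := fun g hg => by
    have a := congrFun f g
    rw [Pi.add_apply, Finset.sum_apply, Finset.sum_congr rfl fun θ' h' => hB.agree θ' h' θ hθ g hg,
      Finset.sum_const, nsmul_eq_mul] at a
    change _ = 1 + _ at a
    have h0 : (Y.card : ℂ) ≠ 0 := Nat.cast_ne_zero.2 (by omega)
    have b : (θ : G → ℂ) g = ((Nat.card (fixedBy Ω g) - 1 : ℤ) : ℂ) / (Y.card : ℤ) := by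
      push_cast; rw [a]; field_simp; ring
    obtain ⟨k, hk⟩ := int_dvd_of_isIntegral_div (by omega) (b ▸ θ.2.isCharacter.isIntegral g)
    have c : 0 ≤ k := by nlinarith
    lift k to ℕ using c
    refine ⟨k, by rw [b, hk]; push_cast; field_simp, by omega⟩
  choose! k hk1 hk2 using h10
  have h11 : ∀ g, ¬ p ∣ orderOf g → k g ≤ Nat.card (Eg h) := fun g hg => by
    have := Finite.card_subtype_le (fun a : Ω => a ∈ fixedBy Ω g)
    refine Nat.le_of_mul_le_mul_left (c := Y.card) ?_ (by omega)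
    have := hk2 g hg
    change Nat.card (fixedBy Ω g) ≤ _ at *
    omega
  have s1 := hB.sum_reg hθ
  have s2 := h.sum_sing θ.2.isClassFunction
  obtain ⟨j, hj⟩ := hB.valY θ hθ
  simp only [fun b => cz_of_forall (hj b), ← Finset.mul_sum, sum_units_eta] at s2
  have s3 := card_mul_classInner (θ : G → ℂ) (oneI G : G → ℂ)
  rw [irr_inner, if_neg fun e : θ = oneI G => hB.one_not_mem (e ▸ hθ), ← Finset.sum_filter_add_sum_filter_not _
    (p ∣ orderOf ·)] at s3
  simp only [oneI, map_one, mul_one] at s3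
  have hr : ∀ g ∈ Finset.univ.filter (¬ p ∣ orderOf ·), (θ : G → ℂ) g = k g := fun g hg =>
    hk1 g (Finset.mem_filter.1 hg).2
  rw [Finset.sum_congr rfl hr] at s3
  rw [Finset.sum_congr rfl (g := fun g => (k g : ℂ) * k g) fun g hg => by rw [hr g hg, map_natCast]] at s1
  have he : (Nat.card (Eg h) : ℂ) ≠ 0 := Nat.cast_ne_zero.2 (card_Eg_pos h).ne'
  have s4 : p * ∑ g ∈ Finset.univ.filter (¬ p ∣ orderOf ·), k g = Nat.card G := by
    have : (p : ℂ) * ∑ g ∈ Finset.univ.filter (¬ p ∣ orderOf ·), (k g : ℂ) = Nat.card G :=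
      mul_left_cancel₀ he (by push_cast at s2; linear_combination -s2 - p * Nat.card (Eg h) * s3)
    exact_mod_cast this
  have s5 : ∑ g ∈ Finset.univ.filter (¬ p ∣ orderOf ·), k g * k g =
      ∑ g ∈ Finset.univ.filter (¬ p ∣ orderOf ·), Nat.card (Eg h) * k g := by
    rw [← Finset.mul_sum]
    refine Nat.eq_of_mul_eq_mul_left hp.out.pos ?_
    rw [mul_left_comm, s4]
    exact_mod_cast s1
  have s6 := (Finset.sum_eq_sum_iff_of_le fun g hg =>
    Nat.mul_le_mul_right _ (h11 g (Finset.mem_filter.1 hg).2)).1 s5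
  have h1p : ¬ p ∣ orderOf (1 : G) := by rw [orderOf_one]; exact hp.out.not_dvd_one
  rw [Finset.sum_eq_single_of_mem 1 (by simpa using hp.out.ne_one) fun g hg hg1 => by
    by_contra e
    have a := hk2 g (Finset.mem_filter.1 hg).2
    rw [Nat.eq_of_mul_eq_mul_right (Nat.pos_of_ne_zero e) (s6 g hg), hY] at a
    have b := Set.eq_of_subset_of_ncard_le (Set.subset_univ (fixedBy Ω g)) (by
      rw [Set.ncard_univ, hc, ← Nat.card_coe_set_eq, a]; omega)
    exact hg1 (eq_of_smul_eq_smul (α := Ω) fun a => by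
      rw [one_smul]; exact (b.ge (Set.mem_univ a) :))] at s4
  refine Or.inl (Subgroup.normalizer_eq_top_iff.1 (Subgroup.eq_top_of_le_card _ ?_))
  rw [h.card_normalizer hK, ← s4]
  exact Nat.mul_le_mul_left _ (h11 1 h1p)

omit [Fintype K] in
theorem D1.solvable_of_normal [Finite G] (h : D1 p x K) (hK : Nat.card K = 1)
    (hn : (Subgroup.zpowers x).Normal) : Group.IsSolvable G := by
  have h1 := h.commutator_le hK (N := Subgroup.zpowers x) (by rw [Nat.card_zpowers, h.ord])
  refine ⟨2, eq_bot_iff.2 ((Subgroup.commutator_mono h1 h1).trans (le_of_eq ?_))⟩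
  rw [Subgroup.commutator_eq_bot_iff_le_centralizer]
  exact Subgroup.le_centralizer _

omit [Fintype K] in
theorem exists_D1_prime_degree [Finite G] [FaithfulSMul G Ω] [IsPretransitive G Ω]
    (hc : Nat.card Ω = p) : ∃ (x : G) (K : Subgroup G), D1 p x K ∧ Nat.card K = 1 := by
  haveI : Finite Ω := Nat.finite_of_card_ne_zero (hc ▸ hp.out.ne_zero)
  obtain ⟨a⟩ : Nonempty Ω := (Nat.card_pos_iff.1 (hc ▸ hp.out.pos)).1
  obtain ⟨x, hx⟩ := exists_prime_orderOf_dvd_card' (G := G) p (by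
    rw [card_eq_card_mul_card_stabilizer (G := G) a, hc]; exact dvd_mul_right _ _)
  exact ⟨x, exists_D1_one hx (centralizer_eq_zpowers_of_faithful hp.out (α := Ω) (by omega) hx)⟩

omit [Fintype K] in
/-- Burnside's theorem on groups of prime degree -/
theorem burnside_prime [Finite G] [FaithfulSMul G Ω] [IsPretransitive G Ω] (hc : Nat.card Ω = p)
    (hG : ¬ Group.IsSolvable G) : IsMultiplyPretransitive G Ω 2 := by
  haveI : Finite Ω := Nat.finite_of_card_ne_zero (hc ▸ hp.out.ne_zero)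
  obtain ⟨x, K, h, hK⟩ := exists_D1_prime_degree (G := G) hc
  letI := Fintype.ofFinite G
  letI := Fintype.ofFinite K
  obtain ⟨X, Y, δ, ε, hB⟩ := h.exists_br
  obtain ⟨χ, a, -, b⟩ := (hB.prime_degree hK hc).resolve_left fun e => hG (h.solvable_of_normal hK e)
  exact two_trans_of_irr a b

omit [Fintype K] in
/-- simplicity when all normal subgroups have order divisible by `p` and `e` is prime -/
theorem D1.simple_of_prime [Finite G] (h : D1 p x K) (hK : Nat.card K = 1)
    (key : ∀ N : Subgroup G, N.Normal → N ≠ ⊥ → p ∣ Nat.card N) (hn : Nat.card (Sylow p G) ≠ 1)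
    (ht : (Nat.card (Eg h)).Prime) : IsSimpleGroup G ∧ ¬ IsMulCommutative G := by
  haveI : Nontrivial G := ⟨⟨x, 1, fun e => hp.out.one_lt.ne (by rw [← h.ord, e, orderOf_one])⟩⟩
  refine ⟨⟨fun N hN => or_iff_not_imp_left.2 fun h1 => ?_⟩, fun e => hn (card_sylow_comm e)⟩
  have h2 := key N hN h1
  refine Subgroup.index_eq_one.1 (((Nat.dvd_prime ht).1 (h.index_dvd hK h2)).resolve_right fun h3 => ?_)
  obtain ⟨K', h', hK'⟩ := h.sub_one hK (h.mem_of_normal h2)
  have h4 : Nat.card (Sylow p G) = Nat.card (Sylow p N) := card_sylow_of_normal fun e => by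
    letI := Fintype.ofFinite K
    have := hp.out.two_le
    have := Nat.le_of_dvd (by omega) ((h3 ▸ e).trans (card_Eg_dvd h))
    omega
  have h5 : Nat.card (Eg h') = 1 := by
    have h6 := N.card_mul_index
    rw [h3, h.card_G hK, h'.card_G hK', h4, mul_assoc, mul_assoc] at h6
    exact (Nat.mul_eq_right ht.ne_zero).1 (Nat.eq_of_mul_eq_mul_left hp.out.pos
      (Nat.eq_of_mul_eq_mul_left Nat.card_pos h6))
  have h6 : Nat.card ((commutator N).map N.subtype) = Nat.card (Sylow p G) := by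
    rw [Subgroup.card_map_of_injective N.subtype_injective, (h'.e_one hK' h5).2.2, h4]
  have h7 := key ((commutator N).map N.subtype) inferInstance fun e => by
    rw [e, Subgroup.card_bot] at h6; omega
  exact not_dvd_card_sylow p G (h6 ▸ h7)

omit [Fintype K] in
theorem card_sylow_of_normalizer [Finite G] (P : Sylow p G) {e : ℕ} (he : ¬ p ∣ e)
    (hN : Nat.card (Subgroup.normalizer ((P : Subgroup G) : Set G)) = e * p) : Nat.card P = p := by
  rw [(H2.sylIn_of_le P Subgroup.le_normalizer).card_eq_pow, hN,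
    Nat.factorization_mul (by rintro rfl; simp at he) hp.out.ne_zero]
  simp [Nat.factorization_eq_zero_of_not_dvd he, hp.out.factorization_self]

end Cfsg.Agent.H7
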