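import Mathlib
import Cfsg.Agent.H7.PD
import Cfsg.Agent.H7.Perm2

/-! Small permutation group lemmas. -/

namespace Cfsg.Agent.H7

open Finset Cfsg.Agent.H3 MulAction

variable {G Ω : Type*} [Group G] [MulAction G Ω]

theorem irr_of_two_trans [Finite G] [Finite Ω] [Nontrivial Ω] (h2 : IsMultiplyPretransitive G Ω 2) :
    IsIrrCharacter G ((fun g : G => (Nat.card (fixedBy Ω g) : ℂ)) - fun _ => 1) := by
  have := Fintype.ofFinite G
  have : IsPretransitive G Ω := is_one_pretransitive_iff.1 (mt_le h2 Finite.one_lt_card one_le_two)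
  set π : G → ℂ := fun g => (Nat.card (fixedBy Ω g) : ℂ) with hπ
  have h1 : classInner π (fun _ => 1) = 1 := inner_fixedBy_oneI
  have h3 : classInner π π = 2 := by
    rw [classInner_fixedBy_fixedBy]
    obtain ⟨a, b, hab⟩ := exists_pair_ne Ω
    refine Nat.cast_inj.2 ((Nat.card_eq_two_iff' (Quotient.mk'' (a, a))).2 ⟨Quotient.mk'' (a, b), fun e => ?_, ?_⟩)
    · obtain ⟨g, hg⟩ := orbitRel_apply.1 (Quotient.exact' e)
      exact hab ((congrArg Prod.fst hg).symm.trans (congrArg Prod.snd hg))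
    · rintro ⟨c, d⟩ h
      have hcd : c ≠ d := by
        rintro rfl
        obtain ⟨g, hg⟩ := exists_smul_eq G a c
        exact h (Quotient.sound' (orbitRel_apply.2 ⟨g, Prod.ext hg hg⟩))
      obtain ⟨g, hg⟩ := mt_two h2 hab hcd
      exact Quotient.sound' (orbitRel_apply.2 ⟨g, Prod.ext hg.1 hg.2⟩)
  exact ((isCharacter_fixedBy Ω).sub_of_inner_ne_zero isIrrCharacter_one (h1.trans_ne one_ne_zero)).irr_of_inner_self (by
    rw [classInner_sub_left, classInner_sub_right, classInner_sub_right, h3, ← conj_classInner π, h1,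
      isIrrCharacter_one.inner_self]; norm_num)

theorem two_trans_of_stab [IsPretransitive G Ω] (a : Ω)
    (h : ∀ x y, x ≠ a → y ≠ a → ∃ g : G, g • a = a ∧ g • x = y) : IsMultiplyPretransitive G Ω 2 :=
  mt_succ_of (is_one_pretransitive_iff.2 ‹_›) {a} (card_singleton a) fun x y hx hy => by
    simpa using h x y (by simpa using hx) (by simpa using hy)

/-- orbital graphs of primitive groups are connected -/
theorem univ_of_closed [Finite G] [IsPreprimitive G Ω] {a y : Ω} (hy : y ≠ a) {B : Set Ω} (ha : a ∈ B)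
    (h : ∀ g : G, g • a ∈ B → g • y ∈ B) : B = Set.univ := by
  have : Nontrivial Ω := ⟨_, _, hy⟩
  let X : Submonoid G := ⟨⟨{u | ∀ g : G, g • a ∈ B → (g * u) • a ∈ B}, fun hu hv g hg =>
    mul_assoc g _ _ ▸ hv _ (hu g hg)⟩, fun g hg => by rwa [mul_one]⟩
  let Y : Subgroup G := ⟨X, fun {u} hu => Submonoid.powers_le.2 hu
    ((isOfFinOrder_of_finite u).mem_powers_iff_mem_zpowers.2 (inv_mem (Subgroup.mem_zpowers u)))⟩
  obtain ⟨u, hu⟩ := exists_smul_eq G a y
  have h1 : stabilizer G a ≤ Y := fun v hv g hg => by rwa [mul_smul, hv]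
  have h2 := (IsPreprimitive.isCoatom_stabilizer_of_isPreprimitive G a).2 Y (lt_of_le_of_ne h1 fun e =>
    hy (hu.symm.trans (e.ge (show u ∈ Y from fun g hg => by rw [mul_smul, hu]; exact h g hg))))
  refine Set.eq_univ_of_forall fun z => ?_
  obtain ⟨g, rfl⟩ := exists_smul_eq G a z
  simpa using h2.ge (Subgroup.mem_top g) 1 (by rwa [one_smul])

theorem comm_of_card_le [Finite G] {q : ℕ} (hq : q.Prime) {x : G} (hx : x ^ q = 1) (N : Subgroup G) [N.Normal]
    (hN : Nat.card N ≤ q) : x ∈ Subgroup.centralizer (N : Set G) := fun n hn => by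
  have h1 := card_fixedBy_modEq (α := N) (n := 1) hq (g := (MulAut.conjNormal x : MulAut N)) (by rw [pow_one, ← map_pow, hx, map_one])
  have : Nonempty (fixedBy N (MulAut.conjNormal x : MulAut N)) := ⟨⟨1, map_one _⟩⟩
  have h2 := Nat.card_pos (α := fixedBy N (MulAut.conjNormal x : MulAut N))
  have h3 : Nat.card (fixedBy N (MulAut.conjNormal x : MulAut N)) ≤ Nat.card N := Finite.card_subtype_le _
  have h4 := Set.eq_of_subset_of_ncard_le (Set.subset_univ (fixedBy N (MulAut.conjNormal x : MulAut N)))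
    (by rw [Set.ncard_univ, ← Nat.card_coe_set_eq]
        have := Nat.eq_zero_of_dvd_of_lt ((Nat.modEq_iff_dvd' h3).1 h1.symm) (by omega)
        omega)
  exact (mul_inv_eq_iff_eq_mul.1 (congrArg Subtype.val (h4.ge (Set.mem_univ ⟨n, hn⟩)))).symm

end Cfsg.Agent.H7
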