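import Cfsg.Agent.H7.Solv2

/-! Solubilizers in `PSL₂(q)`. -/

set_option autoImplicit false

namespace Cfsg.Agent.H7

open Cfsg.Agent.H4 Subgroup Matrix
open scoped MatrixGroups

section
variable {G : Type*} [Group G]

theorem ncard_class {x : G} {S : Set G} (h : ∀ g, g ∈ S ↔ IsConj x g) :
    S.ncard * Nat.card (centralizer ({x} : Set G)) = Nat.card G := by
  rw [← card_carrier_mul x, Nat.card_coe_set_eq]
  congr 2
  ext g
  rw [h, ConjClasses.mem_carrier_iff_mk_eq, ConjClasses.mk_eq_mk_iff_isConj, isConj_comm]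

theorem ncard_of_free (C : Subgroup G) (y : G) {S : Set G} (h1 : ∀ z, z ∈ S ↔ ∃ g ∈ C, g * y * g⁻¹ = z)
    (h2 : ∀ g ∈ C, g * y = y * g → g = 1) : S.ncard = Nat.card C := by
  have : S = (fun g => g * y * g⁻¹) '' (C : Set G) := Set.ext h1
  rw [this, Set.InjOn.ncard_image]
  · rfl
  · intro a ha b hb e
    have e' : a * y * a⁻¹ = b * y * b⁻¹ := e
    have := h2 (b⁻¹ * a) (mul_mem (inv_mem hb) ha) (by
      calc b⁻¹ * a * y = b⁻¹ * (a * y * a⁻¹) * a := by group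
        _ = y * (b⁻¹ * a) := by rw [e']; group)
    exact (inv_mul_eq_one.1 this).symm

theorem ncard_mul_pre (x : G) (S : Set G) : {y | x * y ∈ S}.ncard = S.ncard :=
  Set.ncard_preimage_of_injective_subset_range (f := fun y => x * y) (mul_right_injective x)
    fun y _ => ⟨x⁻¹ * y, by simp⟩

/-- generators of `A₄` -/
structure TR (u t : G) : Prop where
  u3 : u ^ 3 = 1
  u1 : u ≠ 1
  t2 : t ^ 2 = 1
  t1 : t ≠ 1
  ut : (u * t) ^ 3 = 1

theorem TR.map {G' : Type*} [Group G'] {u t : G} (h : TR u t) (f : G →* G') (hf : Function.Injective f) :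
    TR (f u) (f t) :=
  ⟨by rw [← map_pow, h.u3, map_one], fun e => h.u1 (hf (by rw [e, map_one])), by rw [← map_pow, h.t2, map_one],
    fun e => h.t1 (hf (by rw [e, map_one])), by rw [← map_mul, ← map_pow, h.ut, map_one]⟩

theorem TR.conj {u t : G} (h : TR u t) (g : G) : TR (g * u * g⁻¹) (g * t * g⁻¹) :=
  h.map (MulAut.conj g).toMonoidHom (MulAut.conj g).injective

theorem eq_one_of_two_three {t : G} (h2 : t ^ 2 = 1) (h3 : t ^ 3 = 1) : t = 1 := by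
  rw [pow_succ, h2, one_mul] at h3; exact h3

theorem TR.ut1 {u t : G} (h : TR u t) : u * t ≠ 1 := fun e => by
  have : t = u⁻¹ := eq_inv_of_mul_eq_one_right e
  exact h.t1 (eq_one_of_two_three h.t2 (by rw [this, inv_pow, h.u3, inv_one]))

theorem TR.inv {u t : G} (h : TR u t) : TR u⁻¹ t := by
  have ht : t⁻¹ = t := inv_eq_of_mul_eq_one_right (by rw [← sq, h.t2])
  refine ⟨by rw [inv_pow, h.u3, inv_one], inv_ne_one.2 h.u1, h.t2, h.t1, ?_⟩
  have : u⁻¹ * t = t⁻¹ * (u * t)⁻¹ * t := by rw [_root_.mul_inv_rev, ht, ← mul_assoc t, ← sq, h.t2, one_mul]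
  rw [this, conj_pow', inv_pow, h.ut]; simp

theorem TR.kp {u t : G} (h : TR u t) : KP t (u * t * u⁻¹) ∧ u ∈ normalizer (V4 t (u * t * u⁻¹) : Set G) := by
  have t2 : t * t = 1 := by rw [← sq, h.t2]
  have ht : t⁻¹ = t := inv_eq_of_mul_eq_one_right t2
  have hu : u⁻¹ = u * u := inv_eq_of_mul_eq_one_right (by rw [← h.u3]; simp [pow_succ, mul_assoc])
  have e1 : u * t * u * t * u * t = 1 := by rw [← h.ut]; simp [pow_succ, mul_assoc]
  have e2 : u * (u * t * u⁻¹) * u⁻¹ = u * t * u⁻¹ * t := by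
    have e3 : u * t * u * t * u = t := by rw [← ht]; nth_rewrite 1 [ht, ht]; exact eq_inv_of_mul_eq_one_left e1
    have e4 : t * u * t = u⁻¹ * t * u⁻¹ := by nth_rewrite 3 [← e3]; group
    have e5 : t * u⁻¹ * t = u * t * u := by
      have := congrArg (·⁻¹) e4
      simpa [mul_assoc, ht] using this
    calc u * (u * t * u⁻¹) * u⁻¹ = u * (u * t * (u * u)⁻¹) := by group
      _ = u * (u * t * u) := by rw [← hu, inv_inv]
      _ = u * (t * u⁻¹ * t) := by rw [e5]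
      _ = _ := by group
  have b2 : u * t * u⁻¹ * (u * t * u⁻¹) = 1 := by
    rw [show u * t * u⁻¹ * (u * t * u⁻¹) = u * (t * t) * u⁻¹ by group, t2]; group
  have c2 : u * t * u⁻¹ * t * (u * t * u⁻¹ * t) = 1 := by
    rw [← e2, show u * (u * t * u⁻¹) * u⁻¹ * (u * (u * t * u⁻¹) * u⁻¹) =
      u * (u * t * u⁻¹ * (u * t * u⁻¹)) * u⁻¹ by group, b2]; group
  have kp : KP t (u * t * u⁻¹) := by
    refine ⟨h.t1, fun e => h.t1 (by simpa using e), fun e => h.t1 ?_, t2, b2, ?_⟩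
    · have hc : Commute u t := by
        have : u * t = t * u := by nth_rewrite 2 [e]; group
        exact this
      have := h.ut
      rw [hc.mul_pow, h.u3, one_mul] at this
      exact eq_one_of_two_three h.t2 this
    · have := eq_inv_of_mul_eq_one_left c2
      rw [this, _root_.mul_inv_rev, ht, inv_eq_of_mul_eq_one_right b2]
  exact ⟨kp, kp.mem_normalizer (right_mem_V4 _ _) (e2 ▸ mul_mem (right_mem_V4 _ _) (left_mem_V4 _ _))⟩

theorem exists_TR_A4 : ∃ u t : alternatingGroup (Fin 4), TR u t := by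
  have : ∃ u t : Equiv.Perm (Fin 4), Equiv.Perm.sign u = 1 ∧ Equiv.Perm.sign t = 1 ∧ u ^ 3 = 1 ∧ u ≠ 1 ∧
      t ^ 2 = 1 ∧ t ≠ 1 ∧ (u * t) ^ 3 = 1 := by decide +kernel
  obtain ⟨u, t, hu, ht, h1, h2, h3, h4, h5⟩ := this
  exact ⟨⟨u, hu⟩, ⟨t, ht⟩, Subtype.ext h1, fun e => h2 (congrArg Subtype.val e), Subtype.ext h3,
    fun e => h4 (congrArg Subtype.val e), Subtype.ext h5⟩

theorem A4_inv_cases {H : Subgroup G} (e : H ≃* alternatingGroup (Fin 4)) {x y : G} (hx : x ∈ H) (hy : y ∈ H)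
    (x2 : x ^ 2 = 1) (x1 : x ≠ 1) : y ^ 2 = 1 ∨ TR y x := by
  have : ∀ x y : Equiv.Perm (Fin 4), Equiv.Perm.sign x = 1 → Equiv.Perm.sign y = 1 → x ^ 2 = 1 →
      y ^ 2 = 1 ∨ (y ^ 3 = 1 ∧ (y * x) ^ 3 = 1) := by decide +kernel
  have key : ∀ (g : H) (n : ℕ), ((e g : alternatingGroup (Fin 4)) : Equiv.Perm (Fin 4)) ^ n = 1 ↔ (g : G) ^ n = 1 := by
    intro g n
    rw [← Subgroup.coe_pow, OneMemClass.coe_eq_one, ← map_pow, MulEquiv.map_eq_one_iff, ← Subgroup.coe_pow,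
      OneMemClass.coe_eq_one]
  rcases this _ _ (e ⟨x, hx⟩).2 (e ⟨y, hy⟩).2 ((key _ _).2 x2) with h | ⟨h1, h2⟩
  · exact Or.inl ((key _ _).1 h)
  · by_cases y1 : y = 1
    · left; rw [y1, one_pow]
    · rw [← Subgroup.coe_mul, ← map_mul, key] at h2
      exact Or.inr ⟨(key _ _).1 h1, y1, x2, x1, h2⟩

theorem A4_three_cases {H : Subgroup G} (e : H ≃* alternatingGroup (Fin 4)) {x y : G} (hx : x ∈ H) (hy : y ∈ H)
    (x3 : x ^ 3 = 1) (x1 : x ≠ 1) : y ∈ zpowers x ∨ TR x y ∨ TR x (x * y) ∨ TR x (x⁻¹ * y) := by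
  have : ∀ x y : Equiv.Perm (Fin 4), Equiv.Perm.sign x = 1 → Equiv.Perm.sign y = 1 → x ^ 3 = 1 → ¬ x ^ 1 = 1 →
      (y ^ 2 = 1 ∧ (x * y) ^ 3 = 1) ∨ ((x * y) ^ 2 = 1 ∧ (x * (x * y)) ^ 3 = 1) ∨
        ((x⁻¹ * y) ^ 2 = 1 ∧ (x * (x⁻¹ * y)) ^ 3 = 1) := by decide +kernel
  have key : ∀ (g : H) (n : ℕ), ((e g : alternatingGroup (Fin 4)) : Equiv.Perm (Fin 4)) ^ n = 1 ↔ (g : G) ^ n = 1 := by
    intro g n
    rw [← Subgroup.coe_pow, OneMemClass.coe_eq_one, ← map_pow, MulEquiv.map_eq_one_iff, ← Subgroup.coe_pow,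
      OneMemClass.coe_eq_one]
  have := this _ _ (e ⟨x, hx⟩).2 (e ⟨y, hy⟩).2 ((key _ _).2 x3) (mt (key _ _).1 (by simpa using x1))
  simp only [← Subgroup.coe_mul, ← map_mul, ← Subgroup.coe_inv, ← map_inv, key] at this
  rcases this with ⟨h1, h2⟩ | ⟨h1, h2⟩ | ⟨h1, h2⟩
  · by_cases y1 : y = 1
    · left; rw [y1]; exact one_mem _
    · exact Or.inr (Or.inl ⟨x3, x1, h1, y1, h2⟩)
  · by_cases y1 : x * y = 1
    · left; rw [eq_inv_of_mul_eq_one_right y1]; exact inv_mem (mem_zpowers x)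
    · exact Or.inr (Or.inr (Or.inl ⟨x3, x1, h1, y1, h2⟩))
  · by_cases y1 : x⁻¹ * y = 1
    · left; rw [← inv_mul_eq_one.1 y1]; exact mem_zpowers x
    · exact Or.inr (Or.inr (Or.inr ⟨x3, x1, h1, y1, h2⟩))

variable {p : ℕ} {Ω : Type*} [MulAction G Ω]

theorem solv_of_fix (D : DAct p G Ω) {x y : G} {z : Ω} (hx : x • z = z) (hy : y • z = z) :
    Group.IsSolvable (V4 x y) :=
  solv_fix D (x := z) (V4_le (H := MulAction.stabilizer G z) hx hy)

theorem solv_of_PS (D : DAct p G Ω) {x y : G} {z w : Ω} (h : z ≠ w) (hx : x ∈ PS G z w) (hy : y ∈ PS G z w) :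
    Group.IsSolvable (V4 x y) :=
  solv_PS D h (V4_le hx hy)

theorem solv_of_inv (D : DAct p G Ω) {x c : G} (h : x⁻¹ * c * x = c⁻¹) : Group.IsSolvable (V4 x c) := by
  by_cases c1 : c = 1
  · obtain ⟨z, hz⟩ := D.fix x
    exact solv_of_fix D hz (by rw [c1, one_smul])
  obtain ⟨z, hz⟩ := D.fix c
  by_cases hp : c ^ p = 1
  · exact solv_of_fix D (D.fix_of_conj_U c1 ⟨hz, hp⟩ (by rw [h, inv_smul_eq_iff, hz])) hz
  · obtain ⟨w, hw, hw'⟩ := D.two hz hp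
    exact solv_of_PS D hw.symm (D.mem_PS_of_conj c1 hw.symm hz hw' (by rw [h, inv_smul_eq_iff, hz])
      (by rw [h, inv_smul_eq_iff, hw'])) (Or.inl ⟨hz, hw'⟩)

theorem V4_mul_left (x y : G) : V4 x (x * y) = V4 x y :=
  le_antisymm (V4_le (left_mem_V4 _ _) (mul_mem (left_mem_V4 _ _) (right_mem_V4 _ _)))
    (V4_le (left_mem_V4 _ _) (by simpa using mul_mem (inv_mem (left_mem_V4 x (x * y))) (right_mem_V4 x (x * y))))

theorem V4_inv_mul_left (x y : G) : V4 x (x⁻¹ * y) = V4 x y := by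
  rw [← V4_mul_left, mul_inv_cancel_left]

theorem solv_of_sq (D : DAct p G Ω) {x y : G} (hx : x ^ 2 = 1) (hy : y ^ 2 = 1) : Group.IsSolvable (V4 x y) := by
  rw [← V4_mul_left]
  refine solv_of_inv D ?_
  have h1 : x⁻¹ = x := inv_eq_of_mul_eq_one_right (by rw [← sq, hx])
  have h2 : y⁻¹ = y := inv_eq_of_mul_eq_one_right (by rw [← sq, hy])
  rw [inv_mul_cancel_left, _root_.mul_inv_rev, h1, h2]

end

variable {F : Type*} [Field F]

theorem conj_of_tau {g h : PGL(2, F)} (hg : g ∈ LL F) (hh : h ∈ LL F) (g1 : g ≠ 1) (h1 : h ≠ 1)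
    (e : tau g = tau h) : IsConj g h := by
  obtain ⟨x, rfl⟩ := hg
  obtain ⟨y, rfl, hy⟩ := exists_lift_tr hh (t := tr x) (by rw [← e, tau_toPGL'])
  obtain ⟨k, rfl⟩ := exists_slc_of_tr g1 h1 hy.symm
  exact isConj_iff.2 ⟨_, (toPGL_slc k x).symm⟩

theorem TR.mem_LL {u t : PGL(2, F)} (h : TR u t) : u ∈ LL F ∧ t ∈ LL F := by
  have h1 := mem_LL_of_odd (by decide) h.u3
  exact ⟨h1, by simpa using mul_mem (inv_mem h1) (mem_LL_of_odd (by decide) h.ut)⟩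

theorem TR.lift {u t : PGL(2, F)} (h : TR u t) : ∃ U T : SL(2, F), Matrix.SpecialLinearGroup.toPGL U = u ∧
    Matrix.SpecialLinearGroup.toPGL T = t ∧ tr U = -1 ∧ tr T = 0 ∧ tr (U * T) = 1 := by
  obtain ⟨U, rfl, hU⟩ := exists_lift_tr h.mem_LL.1 (t := -1) (by rw [(pow_three_eq_one_iff h.u1).1 h.u3]; ring)
  obtain ⟨T, rfl, hT⟩ := exists_lift_tr h.mem_LL.2 (t := 0) (by rw [(pow_two_eq_one_iff h.t1).1 h.t2]; ring)
  have := (pow_three_eq_one_iff h.ut1).1 h.ut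
  rw [← map_mul, tau_toPGL'] at this
  rcases sq_eq_sq_iff_eq_or_eq_neg.1 (this.trans (one_pow 2).symm) with e | e
  · exact ⟨U, T, rfl, rfl, hU, hT, e⟩
  · exact ⟨U, -T, rfl, toPGL_neg T, hU, by rw [tr_neg, hT, neg_zero], by rw [mul_neg, tr_neg, e, neg_neg]⟩

theorem TR.rigid (h2 : (2 : F) ≠ 0) {u t u' t' : PGL(2, F)} (h : TR u t) (h' : TR u' t') :
    ∃ g, g * u * g⁻¹ = u' ∧ g * t * g⁻¹ = t' := by
  obtain ⟨U, T, rfl, rfl, h1, h3, h4⟩ := h.lift
  obtain ⟨U', T', rfl, rfl, h1', h3', h4'⟩ := h'.lift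
  obtain ⟨g, rfl, rfl⟩ := H4.rigid (h1'.trans h1.symm) (h3'.trans h3.symm) (h4'.trans h4.symm)
    (by rw [h1, h3, h4, kap]; intro e; exact h2 (by linear_combination -e))
  exact ⟨_, (toPGL_slc _ _).symm, (toPGL_slc _ _).symm⟩

theorem TR.free [CharP F 3] {u t g : PGL(2, F)} (h : TR u t) (hu : g * u = u * g) (ht : g * t = t * g) : g = 1 := by
  haveI : Fact (Nat.Prime 3) := ⟨Nat.prime_three⟩
  by_contra g1
  obtain ⟨a, ha⟩ := (dact F 3).fix u
  have hg := (dact F 3).mem_U_of_comm h.u1 ⟨ha, h.u3⟩ hu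
  exact h.t1 (eq_one_of_two_three h.t2 ((dact F 3).mem_U_of_comm g1 hg ht.symm).2)

variable [Fintype F]

theorem TR.solv (h2 : (2 : F) ≠ 0) {u t : PGL(2, F)} (h : TR u t) : Group.IsSolvable (V4 u t) := by
  obtain ⟨kp, hu⟩ := h.kp
  have hc := kp.card_normalizer h2 h.mem_LL.2 (instNormalLL.conj_mem _ h.mem_LL.2 _)
  exact solv_of_le (V4_le hu (le_normalizer (left_mem_V4 _ _))) (solv_of_dvd (by rw [hc]))

theorem exists_TR (h2 : (2 : F) ≠ 0) : ∃ u t : PGL(2, F), TR u t := by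
  obtain ⟨H, -, ⟨e⟩⟩ := exists_A4_LL h2
  obtain ⟨u, t, h⟩ := exists_TR_A4
  exact ⟨_, _, h.map (H.subtype.comp e.symm.toMonoidHom) (H.subtype_injective.comp e.symm.injective)⟩

theorem ncard_TR_left [CharP F 3] {x : PGL(2, F)} (hx : x ∈ LL F) (x2 : x ^ 2 = 1) (x1 : x ≠ 1) :
    {y | TR y x}.ncard = Nat.card (centralizer ({x} : Set PGL(2, F))) := by
  haveI : Fact (Nat.Prime 3) := ⟨Nat.prime_three⟩
  have h2 : (2 : F) ≠ 0 := two_ne_zero_of_char (p := 3) (by norm_num)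
  obtain ⟨u, t, h⟩ := exists_TR h2
  obtain ⟨g, rfl⟩ := isConj_iff.1 (conj_of_tau h.mem_LL.2 hx h.t1 x1
    (by rw [(pow_two_eq_one_iff h.t1).1 h.t2, (pow_two_eq_one_iff x1).1 x2]))
  replace h := h.conj g
  generalize g * u * g⁻¹ = y, g * t * g⁻¹ = x at *
  refine ncard_of_free _ y (fun z => ⟨fun hz => ?_, ?_⟩) fun g hg e => h.free e (mem_centralizer_singleton_iff.1 hg)
  · obtain ⟨k, h3, h4⟩ := h.rigid h2 hz
    exact ⟨k, mem_centralizer_singleton_iff.2 (mul_inv_eq_iff_eq_mul.1 h4), h3⟩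
  · rintro ⟨k, hk, rfl⟩
    have := h.conj k
    rwa [mem_centralizer_singleton_iff.1 hk, mul_inv_cancel_right] at this

theorem ncard_TR_right [CharP F 3] {x : PGL(2, F)} (x3 : x ^ 3 = 1) (x1 : x ≠ 1) :
    {y | TR x y}.ncard = Nat.card (centralizer ({x} : Set PGL(2, F))) := by
  haveI : Fact (Nat.Prime 3) := ⟨Nat.prime_three⟩
  have h2 : (2 : F) ≠ 0 := two_ne_zero_of_char (p := 3) (by norm_num)
  obtain ⟨u, t, h⟩ := exists_TR h2
  obtain ⟨g, rfl⟩ := isConj_iff.1 (conj_of_tau h.mem_LL.1 (mem_LL_of_odd (by decide) x3) h.u1 x1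
    (by rw [(pow_three_eq_one_iff h.u1).1 h.u3, (pow_three_eq_one_iff x1).1 x3]))
  replace h := h.conj g
  generalize g * u * g⁻¹ = x, g * t * g⁻¹ = y at *
  refine ncard_of_free _ y (fun z => ⟨fun hz => ?_, ?_⟩) fun g hg e => h.free (mem_centralizer_singleton_iff.1 hg) e
  · obtain ⟨k, h3, h4⟩ := h.rigid h2 hz
    exact ⟨k, mem_centralizer_singleton_iff.2 (mul_inv_eq_iff_eq_mul.1 h3), h4⟩
  · rintro ⟨k, hk, rfl⟩
    have := h.conj k
    rwa [mem_centralizer_singleton_iff.1 hk, mul_inv_cancel_right] at this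

theorem ncard_sq_one {x : PGL(2, F)} (hx : x ∈ LL F) (x2 : x ^ 2 = 1) (x1 : x ≠ 1) :
    ∃ n, {y | y ∈ LL F ∧ y ^ 2 = 1}.ncard = n + 1 ∧ n * Nat.card (centralizer ({x} : Set PGL(2, F))) =
      Fintype.card F * (Fintype.card F ^ 2 - 1) := by
  refine ⟨({y | y ∈ LL F ∧ y ^ 2 = 1} \ {1}).ncard, (Set.ncard_sdiff_singleton_add_one
    (show (1 : PGL(2, F)) ∈ {y | y ∈ LL F ∧ y ^ 2 = 1} from ⟨one_mem _, one_pow _⟩)).symm, ?_⟩
  rw [← card_PGL2]
  refine ncard_class fun g => ⟨fun ⟨⟨h1, h2⟩, h3⟩ => conj_of_tau hx h1 x1 h3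
    (by rw [(pow_two_eq_one_iff h3).1 h2, (pow_two_eq_one_iff x1).1 x2]), fun h => ?_⟩
  obtain ⟨k, rfl⟩ := isConj_iff.1 h
  exact ⟨⟨instNormalLL.conj_mem _ hx _, by rw [conj_pow, x2]; simp⟩, fun e => x1 (by simpa using e)⟩

/-- the solubilizer -/
def SolSet (x : PGL(2, F)) : Set PGL(2, F) := {y | y ∈ LL F ∧ Group.IsSolvable (V4 x y)}

omit [Fintype F] in
theorem card_sol (x : PSL(2, F)) : Nat.card {y : PSL(2, F) // Group.IsSolvable ↥(closure ({x, y} : Set PSL(2, F)))} =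
    (SolSet (Matrix.ProjectiveSpecialLinearGroup.toPGL x)).ncard := by
  have key : ∀ y : PSL(2, F), Group.IsSolvable ↥(closure ({x, y} : Set PSL(2, F))) ↔ Group.IsSolvable
      (V4 (Matrix.ProjectiveSpecialLinearGroup.toPGL x) (Matrix.ProjectiveSpecialLinearGroup.toPGL y)) := by
    intro y
    rw [← map_V4]
    exact ⟨solv_congr (imEquiv (V4 x y)), solv_congr (imEquiv (V4 x y)).symm⟩
  refine (Nat.card_coe_set_eq {y : PSL(2, F) | Group.IsSolvable ↥(closure ({x, y} : Set PSL(2, F)))}).trans ?_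
  rw [← Set.ncard_image_of_injective _ Matrix.ProjectiveSpecialLinearGroup.toPGL_injective]
  congr 1
  ext y
  constructor
  · rintro ⟨y, hy, rfl⟩
    exact ⟨psl_mem_LL y, (key y).1 hy⟩
  · rintro ⟨h1, h2⟩
    obtain ⟨y, rfl⟩ := exists_psl h1
    exact ⟨y, (key y).2 h2, rfl⟩

theorem three_pow_mod_eight {r : ℕ} (hr : Odd r) : 3 ^ r % 8 = 3 := by
  obtain ⟨k, rfl⟩ := hr
  rw [pow_succ, pow_mul, Nat.mul_mod, Nat.pow_mod]; norm_num

theorem sol_cases (hq : (∃ r : ℕ, r.Prime ∧ Fintype.card F = 2 ^ r) ∨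
    (∃ r : ℕ, r.Prime ∧ r ≠ 2 ∧ Fintype.card F = 3 ^ r)) {H : Subgroup PGL(2, F)} (hL : H ≤ LL F)
    (hH : Group.IsSolvable H) : (∃ z : Pt F, Rat z ∧ ∀ g ∈ H, g • z = z) ∨
      (∃ z w : Pt F, TP z w ∧ H ≤ PS _ z w) ∨ ((2 : F) ≠ 0 ∧ Nonempty (H ≃* alternatingGroup (Fin 4))) := by
  classical
  have hm : MinQ (Fintype.card F) := hq.elim Or.inl fun h => Or.inr (Or.inl h)
  obtain ⟨p, _, _⟩ := exists_char F
  have hp : p = 2 ∨ p = 3 := by
    rcases hq with ⟨r, -, h⟩ | ⟨r, -, -, h⟩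
    exacts [Or.inl (char_eq_of_pow p Nat.prime_two h), Or.inr (char_eq_of_pow p Nat.prime_three h)]
  rcases dickson p H with h1 | h1 | ⟨hp', ⟨⟨e⟩⟩ | ⟨⟨e⟩⟩ | ⟨⟨e⟩⟩⟩ | ⟨hp', ⟨e⟩⟩ | ⟨K, k, h1⟩
  · exact Or.inl h1
  · exact Or.inr (Or.inl h1)
  · rw [card_of_A4 e] at hp'; rcases hp with rfl | rfl <;> omega
  · rw [card_of_S4 e] at hp'; rcases hp with rfl | rfl <;> omega
  · exact (not_solv_A5 (solv_congr e hH)).elim
  · exact (not_solv_A5 (solv_congr e hH)).elim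
  · rcases hm.subf h1 with h | ⟨hK, -⟩
    · exact (not_solv_LL hm.four_le (solv_of_le h hH)).elim
    · haveI := Fintype.ofFinite K
      rw [Nat.card_eq_fintype_card] at hK
      have hp3 : p = 3 := char_eq_of_pow (F := K) p Nat.prime_three (r := 1) hK
      subst hp3
      obtain ⟨r, hr, hr2, hq⟩ := hq.resolve_left fun ⟨r, _, h⟩ => by
        have := char_eq_of_pow 3 Nat.prime_two h; omega
      refine Or.inr (Or.inr ⟨two_ne_zero_of_char (p := 3) (by norm_num), ?_⟩)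
      rcases h1.2 with h | ⟨-, h⟩
      · exfalso
        have h3 := card_dvd_of_le hL
        rw [h, card_cjg, card_PK, hK] at h3
        have h8 := three_pow_mod_eight (hr.odd_of_ne_two hr2)
        rw [← hq] at h8
        have h4 := two_mul_card_LL (F := F) (Nat.odd_iff.2 (by omega))
        obtain ⟨m, hm, hm2⟩ := sq_sub_one_mod (Or.inl h8)
        rw [hm] at h4
        obtain ⟨s, hs⟩ := h3
        have : 2 ∣ Fintype.card F * m := ⟨3 * s, by
          rw [hs, mul_left_comm (Fintype.card F)] at h4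
          omega⟩
        rcases (Nat.Prime.dvd_mul Nat.prime_two).1 this with h | h
        · omega
        · exact hm2 h
      · obtain ⟨e⟩ := psl_three hK
        exact ⟨(MulEquiv.subgroupCongr h).trans ((cjgEquiv _ _).symm.trans ((lkEquiv _).symm.trans e))⟩

theorem ncard_sub {G : Type*} [Group G] (H : Subgroup G) : (H : Set G).ncard = Nat.card H := rfl

/-- solubilizer of a semisimple element of order `> 2` -/
theorem sol_ss (hq : (∃ r : ℕ, r.Prime ∧ Fintype.card F = 2 ^ r) ∨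
    (∃ r : ℕ, r.Prime ∧ r ≠ 2 ∧ Fintype.card F = 3 ^ r)) {x : PGL(2, F)} (hx : x ∈ LL F) (x2 : x ^ 2 ≠ 1)
    (x3 : (2 : F) ≠ 0 → x ^ 3 ≠ 1) {a b : Pt F} (h : TP a b) (ha : x • a = a) (hb : x • b = b) :
    (Rat a → (LL F).index * (SolSet x).ncard = 2 * (Fintype.card F * (Fintype.card F - 1))) ∧
      (¬ Rat a → (LL F).index * (SolSet x).ncard = 2 * (Fintype.card F + 1)) := by
  obtain ⟨p, _, _⟩ := exists_char F
  have D := dact F p
  have x1 : x ≠ 1 := by rintro rfl; exact x2 (one_pow _)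
  have key : ∀ y ∈ SolSet x, (Rat a ∧ (y ∈ St (LL F) a ∨ y ∈ St (LL F) b)) ∨ y ∈ LL F ⊓ PS _ a b := by
    rintro y ⟨hy, hs⟩
    rcases sol_cases hq (V4_le hx hy) hs with ⟨z, hz, h1⟩ | ⟨z, w, hzw, h1⟩ | ⟨h2, ⟨e⟩⟩
    · left
      rcases D.fix_or x1 h.1 ha hb (h1 x (left_mem_V4 _ _)) with rfl | rfl
      · exact ⟨hz, Or.inl ⟨hy, h1 y (right_mem_V4 _ _)⟩⟩
      · refine ⟨?_, Or.inr ⟨hy, h1 y (right_mem_V4 _ _)⟩⟩
        rcases h.2 with h | h
        exacts [h.1, (h.2.1.1 hz).elim]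
    · right
      refine ⟨hy, ?_⟩
      have hy' := h1 (right_mem_V4 _ _)
      rcases h1 (left_mem_V4 _ _) with ⟨h2, h3⟩ | ⟨h2, h3⟩
      · rcases D.fix_or x1 h.1 ha hb h2 with rfl | rfl <;> rcases D.fix_or x1 h.1 ha hb h3 with rfl | rfl
        · exact (hzw.1 rfl).elim
        · exact hy'
        · rw [PS_comm] at hy'; exact hy'
        · exact (hzw.1 rfl).elim
      · exact (x2 (D.swap_sq hzw.1 h2 h3)).elim
    · have h4 := orderOf_le_of_A4 e (left_mem_V4 x y)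
      have h5 := orderOf_pos x
      exfalso
      rcases (by omega : orderOf x = 1 ∨ orderOf x = 2 ∨ orderOf x = 3) with e | e | e
      · exact x1 (orderOf_eq_one_iff.1 e)
      · exact x2 (orderOf_dvd_iff_pow_eq_one.1 (dvd_of_eq e))
      · exact x3 h2 (orderOf_dvd_iff_pow_eq_one.1 (dvd_of_eq e))
  have hC : ∀ y ∈ LL F ⊓ PS _ a b, y ∈ SolSet x := fun y hy =>
    ⟨hy.1, solv_of_PS D h.1 (Or.inl ⟨ha, hb⟩) hy.2⟩
  have hn := h.card_normalizer (le_refl (LL F))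
  refine ⟨fun hr => ?_, fun hr => ?_⟩
  · have hr' : Rat b := by
      rcases h.2 with h | h
      exacts [h.2, (h.1.1 hr).elim]
    have e : SolSet x = ((St (LL F) a : Set _) ∪ (St (LL F) b : Set _)) ∪ (LL F ⊓ PS _ a b : Subgroup _) := by
      ext y
      refine ⟨fun hy => (key y hy).elim (fun h => Or.inl h.2) Or.inr, ?_⟩
      rintro ((hy | hy) | hy)
      · exact ⟨hy.1, solv_of_fix D ha hy.2⟩
      · exact ⟨hy.1, solv_of_fix D hb hy.2⟩
      · exact hC y hy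
    have e1 := Set.ncard_union_add_ncard_inter (St (LL F) a : Set PGL(2, F)) (St (LL F) b : Set _)
    have e2 := Set.ncard_union_add_ncard_inter ((St (LL F) a : Set PGL(2, F)) ∪ (St (LL F) b : Set _))
      (LL F ⊓ PS _ a b : Subgroup _)
    have e3 : ((St (LL F) a : Set PGL(2, F)) ∪ (St (LL F) b : Set _)) ∩ (LL F ⊓ PS _ a b : Subgroup _) =
        (St (LL F) a ⊓ St (LL F) b : Subgroup _) := by
      ext y
      constructor
      · rintro ⟨hy | hy, h1⟩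
        · exact ⟨hy, hy.1, fix_of_mem_PS h.1 h1.2 hy.2⟩
        · exact ⟨⟨hy.1, fix_of_mem_PS h.1.symm (by have := h1.2; rwa [PS_comm] at this) hy.2⟩, hy⟩
      · rintro ⟨h1, h2⟩
        exact ⟨Or.inl h1, h1.1, Or.inl ⟨h1.2, h2.2⟩⟩
    rw [e3, ← e, ncard_sub, ncard_sub, hn] at e2
    rw [← coe_inf, ncard_sub, ncard_sub, ncard_sub] at e1
    have e4 : (SolSet x).ncard = Nat.card (St (LL F) a) + Nat.card (St (LL F) b) := by omega
    rw [e4, mul_add, card_St_rat le_rfl hr, card_St_rat le_rfl hr', two_mul]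
  · have e : SolSet x = (LL F ⊓ PS _ a b : Subgroup _) :=
      Set.ext fun y => ⟨fun hy => (key y hy).resolve_left fun h => hr h.1, hC y⟩
    rw [e, ncard_sub, hn, mul_left_comm, h.card_qd le_rfl hr]

end Cfsg.Agent.H7
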