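import Cfsg.Agent.H7.Mac
import Cfsg.Agent.H3.Mackey

/-! Solvable subgroups of `PGL₂(q)`. -/

set_option autoImplicit false

namespace Cfsg.Agent.H7

open Cfsg.Agent.H4 Subgroup Matrix
open scoped MatrixGroups

section
variable {G : Type*} [Group G]

theorem solv_two_step {H : Subgroup G} (N : Subgroup G) (h1 : ∀ a ∈ H, ∀ b ∈ H, a * b * a⁻¹ * b⁻¹ ∈ N)
    (h2 : ∀ a ∈ N, ∀ b ∈ N, a * b = b * a) : Group.IsSolvable H := by
  have h3 : derivedSeries H 1 ≤ N.comap H.subtype := by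
    rw [derivedSeries_succ, derivedSeries_zero, commutator_le]
    intro a _ b _
    exact h1 a a.2 b b.2
  refine ⟨⟨2, ?_⟩⟩
  rw [derivedSeries_succ, eq_bot_iff, commutator_le]
  intro a ha b hb
  rw [mem_bot, commutatorElement_eq_one_iff_mul_comm]
  exact Subtype.ext (h2 _ (h3 ha) _ (h3 hb))

theorem solv_congr {G' : Type*} [Group G'] (e : G ≃* G') (h : Group.IsSolvable G) : Group.IsSolvable G' :=
  Group.isSolvable_of_surjective (f := e.toMonoidHom) e.surjective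

theorem solv_of_le {H K : Subgroup G} (h : H ≤ K) (hK : Group.IsSolvable K) : Group.IsSolvable H :=
  Group.isSolvable_of_isSolvable_injective (inclusion_injective h)

theorem solv_of_dvd [Finite G] (h : Nat.card G ∣ 24) : Group.IsSolvable G := by
  refine H3.burnside_pq Nat.prime_two Nat.prime_three fun r hr hd => ?_
  have := hd.trans h
  rw [show 24 = 2 ^ 3 * 3 by norm_num] at this
  rcases (Nat.Prime.dvd_mul hr).1 this with h | h
  · exact Or.inl ((Nat.prime_dvd_prime_iff_eq hr Nat.prime_two).1 (hr.dvd_of_dvd_pow h))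
  · exact Or.inr ((Nat.prime_dvd_prime_iff_eq hr Nat.prime_three).1 h)

theorem not_solv_A5 : ¬ Group.IsSolvable (alternatingGroup (Fin 5)) := by
  intro h
  obtain ⟨a, b, -, -, -, -, hab, -⟩ := A5_elts
  exact hab (IsSimpleGroup.comm_iff_isSolvable.2 h a b)

variable {p : ℕ} {Ω : Type*} [MulAction G Ω]

theorem solv_fix (D : DAct p G Ω) {H : Subgroup G} {x : Ω} (h : ∀ g ∈ H, g • x = x) : Group.IsSolvable H := by
  refine solv_two_step (D.U x) (fun a ha b hb => ⟨?_, D.comm (h a ha) (h b hb)⟩)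
    fun a ha b hb => D.ucomm ha.1 ha.2 hb.1 hb.2
  exact h _ (mul_mem (mul_mem (mul_mem ha hb) (inv_mem ha)) (inv_mem hb))

theorem solv_PS (D : DAct p G Ω) {H : Subgroup G} {x y : Ω} (hxy : x ≠ y) (h : H ≤ PS G x y) :
    Group.IsSolvable H := by
  refine solv_two_step (MulAction.stabilizer G x ⊓ MulAction.stabilizer G y) (fun a ha b hb => ?_)
    fun a ha b hb => D.two_comm hxy ha.1 ha.2 hb.1 hb.2
  have key : (a * b * a⁻¹ * b⁻¹) • x = x := by
    rcases h ha with ⟨a1, a2⟩ | ⟨a1, a2⟩ <;> rcases h hb with ⟨b1, b2⟩ | ⟨b1, b2⟩ <;>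
      rw [mul_smul, mul_smul, mul_smul]
    · rw [inv_smul_eq_iff.2 b1.symm, inv_smul_eq_iff.2 a1.symm, b1, a1]
    · rw [inv_smul_eq_iff.2 b2.symm, inv_smul_eq_iff.2 a2.symm, b2, a1]
    · rw [inv_smul_eq_iff.2 b1.symm, inv_smul_eq_iff.2 a2.symm, b2, a2]
    · rw [inv_smul_eq_iff.2 b2.symm, inv_smul_eq_iff.2 a1.symm, b1, a2]
  exact ⟨key, fix_of_mem_PS hxy (h (mul_mem (mul_mem (mul_mem ha hb) (inv_mem ha)) (inv_mem hb))) key⟩

end

variable {F : Type*} [Field F]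

theorem psl_not_comm : ¬ ∀ a b : PSL(2, F), a * b = b * a := by
  intro h
  have := h (sm 1 1 0 1 (by simp) : SL(2, F)) (sm 1 0 1 1 (by simp) : SL(2, F))
  rw [← QuotientGroup.mk_mul, ← QuotientGroup.mk_mul, psl_mk_eq, sm_mul, sm_mul, neg_sm, sm_inj, sm_inj] at this
  rcases this with ⟨h1, -⟩ | ⟨h1, h2, -⟩
  · exact one_ne_zero (by linear_combination h1 : (1 : F) = 0)
  · exact one_ne_zero (by linear_combination h1 - h2 : (1 : F) = 0)

theorem not_solv_psl [Fintype F] (h : 4 ≤ Fintype.card F) : ¬ Group.IsSolvable PSL(2, F) := by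
  haveI := PSL_simple (F := F) 2 le_rfl fun _ => h
  exact fun hs => psl_not_comm (IsSimpleGroup.comm_iff_isSolvable.2 hs)

theorem not_solv_LL [Fintype F] (h : 4 ≤ Fintype.card F) : ¬ Group.IsSolvable (LL F) :=
  fun hs => not_solv_psl h (solv_congr (pslEquiv F).symm hs)

/-- the fields over which `PSL₂` is minimal simple -/
def MinQ (q : ℕ) : Prop :=
  (∃ r : ℕ, r.Prime ∧ q = 2 ^ r) ∨ (∃ r : ℕ, r.Prime ∧ r ≠ 2 ∧ q = 3 ^ r) ∨
    (q.Prime ∧ 5 < q ∧ (q % 5 = 2 ∨ q % 5 = 3)) ∨ q = 5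

theorem MinQ.four_le {q : ℕ} (h : MinQ q) : 4 ≤ q := by
  rcases h with ⟨r, hr, rfl⟩ | ⟨r, hr, -, rfl⟩ | ⟨-, h, -⟩ | rfl
  · exact (Nat.pow_le_pow_right two_pos hr.two_le : 2 ^ 2 ≤ 2 ^ r)
  · have : 3 ^ 2 ≤ 3 ^ r := Nat.pow_le_pow_right (by norm_num) hr.two_le
    omega
  · omega
  · norm_num

theorem char_eq_of_pow [Fintype F] (p : ℕ) [hp : Fact p.Prime] [CharP F p] {l r : ℕ} (hl : l.Prime)
    (h : Fintype.card F = l ^ r) : p = l :=
  (Nat.prime_dvd_prime_iff_eq hp.out hl).1 (hp.out.dvd_of_dvd_pow (h ▸ char_dvd_card F p))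

theorem subfield_cases [Fintype F] {l r : ℕ} (hl : l.Prime) (hr : r.Prime) (h : Fintype.card F = l ^ r)
    (K : Subfield F) : Nat.card K = l ∨ Function.Surjective K.subtype := by
  classical
  haveI := Fintype.ofFinite K
  obtain ⟨m, -, hm⟩ := exists_card_eq_pow K.subtype
  have h1 : Fintype.card K ∣ l ^ r := by
    rw [← h, hm]
    exact dvd_pow_self _ (by rintro rfl; have := Fintype.one_lt_card (α := F); rw [pow_zero] at hm; omega)
  obtain ⟨j, -, hj⟩ := (Nat.dvd_prime_pow hl).1 h1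
  rw [h, hj, ← pow_mul] at hm
  have e := Nat.pow_right_injective hl.two_le hm
  rcases (Nat.dvd_prime hr).1 ⟨m, e⟩ with rfl | rfl
  · left; rw [Nat.card_eq_fintype_card, hj, pow_one]
  · right; exact surjective_of_card _ (by rw [h, hj])

theorem MinQ.not_A5 [Fintype F] (h : MinQ (Fintype.card F)) (p : ℕ) [Fact p.Prime] [CharP F p]
    {H : Subgroup PGL(2, F)} (e : H ≃* alternatingGroup (Fin 5)) (hp : ¬ p ∣ Nat.card H ∨ p = 3) : False := by
  have h5 := five_dvd_of_A5 e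
  rw [card_of_A5 e] at hp
  rcases h with ⟨r, hr, h⟩ | ⟨r, hr, h2, h⟩ | ⟨-, -, h⟩ | h
  · obtain rfl := char_eq_of_pow p Nat.prime_two h
    omega
  · rw [h] at h5
    exact not_five_dvd_three_pow (hr.odd_of_ne_two h2) h5
  · generalize Fintype.card F = q at *
    rcases (Nat.Prime.dvd_mul Nat.prime_five).1 h5 with h1 | h1
    · omega
    · have : q ^ 2 % 5 = 4 := by rcases h with h | h <;> simp [pow_two, Nat.mul_mod, h]
      omega
  · obtain rfl := char_eq_of_pow p Nat.prime_five (r := 1) h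
    omega

theorem MinQ.subf [Fintype F] (h : MinQ (Fintype.card F)) {H : Subgroup PGL(2, F)} {K : Subfield F}
    {g : PGL(2, F)} (hK : IsSubf H K g) : LL F ≤ H ∨ (Nat.card K = 3 ∧ (Nat.card H = 12 ∨ Nat.card H = 24)) := by
  have h3 := hK.1
  rcases h with ⟨r, hr, h⟩ | ⟨r, hr, h2, h⟩ | ⟨h, -⟩ | h
  · exact Or.inl (hK.LL_le ((subfield_cases Nat.prime_two hr h K).resolve_left (by omega)))
  · rcases subfield_cases Nat.prime_three hr h K with e | e
    · right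
      have := hK.card
      rw [e] at this
      omega
    · exact Or.inl (hK.LL_le e)
  · exact Or.inl (hK.LL_le (surj_of_prime _ h))
  · exact Or.inl (hK.LL_le (surj_of_prime _ (h ▸ Nat.prime_five)))

theorem MinQ.solv [Fintype F] (h : MinQ (Fintype.card F)) {H : Subgroup PGL(2, F)} (hH : ¬ LL F ≤ H) :
    Group.IsSolvable H := by
  obtain ⟨p, _, _⟩ := exists_char F
  rcases dickson p H with ⟨x, -, h1⟩ | ⟨x, y, htp, h1⟩ | ⟨hp, ⟨⟨e⟩⟩ | ⟨⟨e⟩⟩ | ⟨⟨e⟩⟩⟩ | ⟨hp, ⟨e⟩⟩ | ⟨K, k, h1⟩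
  · exact solv_fix (dact F p) h1
  · exact solv_PS (dact F p) htp.1 h1
  · exact solv_of_dvd (by rw [card_of_A4 e]; norm_num)
  · exact solv_of_dvd (by rw [card_of_S4 e])
  · exact (h.not_A5 p e (Or.inl hp)).elim
  · exact (h.not_A5 p e (Or.inr hp)).elim
  · rcases (h.subf h1).resolve_left hH with ⟨-, e | e⟩ <;> exact solv_of_dvd (by rw [e]; try norm_num)

end Cfsg.Agent.H7
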