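import Mathlib
import Cfsg.Prelude.Def_LieExceptional
import Cfsg.Prelude.Def_Sz

/-! The Suzuki groups as explicit matrix groups: basic matrices and the membership criterion. -/

set_option autoImplicit false
set_option linter.unusedSectionVars false

open Matrix Cfsg Cfsg.Lie
open scoped MatrixGroups

namespace Cfsg.Agent.H7.Suz

/-- `F` has `2 ^ (2m+1)` elements, `m ≥ 1`. -/
class SzF (F : Type*) [Field F] [Fintype F] (m : outParam ℕ) : Prop where
  hm : 1 ≤ m
  hF : Fintype.card F = 2 ^ (2 * m + 1)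

variable {F : Type*} [Field F] [Fintype F] {m : ℕ}

instance SzF.charP [h : SzF F m] : CharP F 2 := by
  obtain ⟨p, hp⟩ := CharP.exists F
  obtain ⟨n, hpp, hn⟩ := FiniteField.card F p
  have : p ∣ 2 ^ (2 * m + 1) := by
    rw [← h.hF, hn]; exact dvd_pow_self p n.ne_zero
  have : p = 2 := (Nat.prime_dvd_prime_iff_eq hpp Nat.prime_two).1 (hpp.dvd_of_dvd_pow this)
  exact this ▸ hp

variable [h : SzF F m]
include h

variable (F) in
/-- the Tits endomorphism -/
def th : F →+* F := iterateFrobenius F 2 (m + 1)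

variable (F) in
/-- the inverse of the Tits endomorphism -/
def sg : F →+* F := iterateFrobenius F 2 m

theorem th_def (x : F) : th F x = x ^ 2 ^ (m + 1) := rfl
theorem sg_def (x : F) : sg F x = x ^ 2 ^ m := rfl

theorem pow_q (x : F) : x ^ 2 ^ (2 * m + 1) = x := by
  rw [← h.hF]; exact FiniteField.pow_card x

@[simp] theorem th_sg (x : F) : th F (sg F x) = x := by
  rw [th_def, sg_def, ← pow_mul, ← pow_add, show m + (m + 1) = 2 * m + 1 by ring, pow_q]

@[simp] theorem sg_th (x : F) : sg F (th F x) = x := by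
  rw [th_def, sg_def, ← pow_mul, ← pow_add, show m + 1 + m = 2 * m + 1 by ring, pow_q]

theorem sg_sq (x : F) : sg F x ^ 2 = th F x := by
  rw [th_def, sg_def, ← pow_mul, pow_succ]

@[simp] theorem th_th (x : F) : th F (th F x) = x ^ 2 := by
  rw [← sg_sq (th F x), sg_th]

theorem th_inj {x y : F} (e : th F x = th F y) : x = y := (th F).injective e

theorem sg_inj {x y : F} (e : sg F x = sg F y) : x = y := (sg F).injective e

theorem th_ne {x : F} (hx : x ≠ 0) : th F x ≠ 0 := (map_ne_zero _).2 hx

theorem sg_ne {x : F} (hx : x ≠ 0) : sg F x ≠ 0 := (map_ne_zero _).2 hx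

theorem eight_le : 8 ≤ Fintype.card F := by
  rw [h.hF]
  calc 8 = 2 ^ 3 := rfl
    _ ≤ _ := Nat.pow_le_pow_right (by norm_num) (by have := h.hm; omega)

theorem exists_ne01 : ∃ y : F, y ≠ 0 ∧ y ≠ 1 := by
  classical
  by_contra hc
  push Not at hc
  have : (Finset.univ : Finset F) ⊆ {0, 1} := fun y _ => by
    by_cases hy : y = 0
    · simp [hy]
    · simp [hc y hy]
  have h1 := Finset.card_le_card this
  have h2 := Finset.card_le_two (a := (0 : F)) (b := 1)
  have := eight_le (F := F)
  rw [Finset.card_univ] at h1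
  omega

theorem sq_inj {x y : F} (e : x ^ 2 = y ^ 2) : x = y := by
  apply th_inj; apply th_inj; simpa using e

theorem eq_of_th_eq_self {y : F} (e : th F y = y) : y = 0 ∨ y = 1 := by
  have : y ^ 2 = y := by rw [← th_th, e, e]
  by_cases hy : y = 0
  · exact Or.inl hy
  · right; apply mul_left_cancel₀ hy; rw [← sq, this, mul_one]

theorem eq_of_th_eq_sq {y : F} (e : th F y = y ^ 2) : y = 0 ∨ y = 1 := by
  apply eq_of_th_eq_self
  apply th_inj
  rw [th_th, e]

/-- `x ↦ x θ(x)` is injective -/
theorem nm_inj {x y : F} (e : x * th F x = y * th F y) : x = y := by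
  have e' := congrArg (th F) e
  simp only [map_mul, th_th] at e'
  by_cases hx : x = 0
  · subst hx
    simp only [zero_mul, map_zero] at e
    rcases mul_eq_zero.1 e.symm with h0 | h0
    · exact h0.symm
    · exact ((map_eq_zero _).1 h0).symm
  · have h1 : x * th F x ≠ 0 := mul_ne_zero hx (th_ne hx)
    apply mul_left_cancel₀ h1
    calc x * th F x * x = th F x * x ^ 2 := by ring
      _ = y * th F y * y := by rw [e']; ring
      _ = _ := by rw [e]

theorem nm_surj (z : F) : ∃ x : F, x * th F x = z :=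
  (Finite.injective_iff_surjective.1 fun x y (e : x * th F x = y * th F y) => nm_inj e) z

theorem nm_eq_one {x : F} (e : x * th F x = 1) : x = 1 := nm_inj (by simpa using e)

/-- the ovoid function -/
def ff (x y : F) : F := x * y + x ^ 2 * th F x + th F y

theorem th_ff (x y : F) : th F (ff x y) = th F x * th F y + th F x ^ 2 * x ^ 2 + y ^ 2 := by
  simp [ff]

theorem ff_eq_zero {x y : F} (e : ff x y = 0) : x = 0 ∧ y = 0 := by
  have e' := th_ff x y
  rw [e, map_zero] at e'
  unfold ff at e
  have h1 : y * (y + x * th F x) = 0 := by grind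
  have h2 : y = 0 := by
    rcases mul_eq_zero.1 h1 with h2 | h2
    · exact h2
    · have h3 : y = x * th F x := by grind
      have h4 : th F y = th F x * x ^ 2 := by rw [h3]; simp
      have h5 : x * y = 0 := by grind
      rcases mul_eq_zero.1 h5 with h6 | h6
      · rw [h3, h6]; simp
      · exact h6
  refine ⟨?_, h2⟩
  subst h2
  simp only [mul_zero, map_zero, zero_add, add_zero, mul_eq_zero, map_eq_zero] at e
  rcases e with e | e
  · exact pow_eq_zero_iff (two_ne_zero) |>.1 e
  · exact e

theorem ff_ne {x y : F} (e : ¬ (x = 0 ∧ y = 0)) : ff x y ≠ 0 := fun h0 => e (ff_eq_zero h0)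

theorem ff_inv {x y : F} (e : ff x y ≠ 0) : ff (y / ff x y) (x / ff x y) = (ff x y)⁻¹ := by
  have e' := th_ff x y
  have e2 := th_ne e
  generalize hf : ff x y = f at *
  unfold ff at hf ⊢
  simp only [map_div₀]
  generalize th F f = g at *
  generalize th F x = X at *
  generalize th F y = Y at *
  field_simp
  subst hf e'
  grind

/-- unipotent elements -/
def um (a b : F) : Matrix (Fin 4) (Fin 4) F :=
  !![1, a, b + a * th F a, ff a b; 0, 1, th F a, b; 0, 0, 1, a; 0, 0, 0, 1]

/-- torus elements -/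
def dm (l : F) : Matrix (Fin 4) (Fin 4) F :=
  !![l * th F l, 0, 0, 0; 0, l, 0, 0; 0, 0, l⁻¹, 0; 0, 0, 0, (l * th F l)⁻¹]

variable (F) in
/-- the Weyl involution -/
abbrev wm : Matrix (Fin 4) (Fin 4) F := suzukiForm F

/-- the fixed point description -/
structure IsSz (g : Matrix (Fin 4) (Fin 4) F) : Prop where
  sp : gᵀ * wm F * g = wm F
  st : star4 g = g.map (th F)

omit [Fintype F] h in
theorem wm_sq : wm F * wm F = 1 := by
  ext i j; fin_cases i <;> fin_cases j <;> simp [suzukiForm, Matrix.mul_apply, Fin.sum_univ_four]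

omit [Fintype F] h in
theorem wm_T : (wm F)ᵀ = wm F := by
  ext i j; fin_cases i <;> fin_cases j <;> simp [suzukiForm]

omit [Fintype F] h in
theorem sp_T {g : Matrix (Fin 4) (Fin 4) F} (e : gᵀ * wm F * g = wm F) :
    g * wm F * gᵀ = wm F := by
  have h1 : (wm F * gᵀ * wm F) * g = 1 := by
    rw [mul_assoc (wm F), mul_assoc (wm F), e, wm_sq]
  have h2 := mul_eq_one_comm.1 h1
  calc g * wm F * gᵀ = g * (wm F * gᵀ * wm F) * wm F := by
        simp only [mul_assoc, wm_sq, mul_one]
    _ = _ := by rw [h2, one_mul]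

omit [Fintype F] h in
theorem sp_col {g : Matrix (Fin 4) (Fin 4) F} (e : gᵀ * wm F * g = wm F) (i j : Fin 4) :
    g 0 i * g 3 j + g 1 i * g 2 j + g 2 i * g 1 j + g 3 i * g 0 j = wm F i j := by
  rw [← congrFun (congrFun e i) j]
  simp [suzukiForm, Matrix.mul_apply, Fin.sum_univ_four]
  ring

omit [Fintype F] h in
theorem sp_row {g : Matrix (Fin 4) (Fin 4) F} (e : gᵀ * wm F * g = wm F) (i j : Fin 4) :
    g i 0 * g j 3 + g i 1 * g j 2 + g i 2 * g j 1 + g i 3 * g j 0 = wm F i j := by
  have := sp_col (g := gᵀ) (by simpa using sp_T e) i j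
  simpa using this

omit [Fintype F] h in
theorem wm_pair (p : Fin 4) : wm F (pairOf p).1 (pairOf p).2 = 0 := by
  fin_cases p <;> simp [suzukiForm, pairOf]

theorem star4_mul {g k : Matrix (Fin 4) (Fin 4) F} (hg : gᵀ * wm F * g = wm F)
    (hk : kᵀ * wm F * k = wm F) : star4 (g * k) = star4 g * star4 k := by
  ext p r
  have h1 := sp_row hg (pairOf p).1 (pairOf p).2
  have h2 := sp_col hk (pairOf r).1 (pairOf r).2
  rw [wm_pair] at h1 h2
  simp only [star4, Matrix.mul_apply, Fin.sum_univ_four, of_apply]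
  generalize (pairOf p).1 = a at *
  generalize (pairOf p).2 = b at *
  generalize (pairOf r).1 = c at *
  generalize (pairOf r).2 = d at *
  simp only [pairOf, cons_val_zero, cons_val_one, cons_val]
  have e1 : g a 0 * g b 3 - g b 0 * g a 3 = g a 1 * g b 2 - g b 1 * g a 2 := by grind
  have e2 : k 0 c * k 3 d - k 3 c * k 0 d = k 1 c * k 2 d - k 2 c * k 1 d := by grind
  have e3 : (2 : F) = 0 := CharTwo.two_eq_zero
  linear_combination (k 0 c * k 3 d - k 3 c * k 0 d) * e1 + (g a 1 * g b 2 - g b 1 * g a 2) * e2 +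
    (g a 1 * g b 2 - g b 1 * g a 2) * (k 1 c * k 2 d - k 2 c * k 1 d) * e3

theorem IsSz.mul {g k : Matrix (Fin 4) (Fin 4) F} (hg : IsSz g) (hk : IsSz k) : IsSz (g * k) where
  sp := by
    rw [transpose_mul]
    calc kᵀ * gᵀ * wm F * (g * k) = kᵀ * (gᵀ * wm F * g) * k := by simp only [mul_assoc]
      _ = _ := by rw [hg.sp, hk.sp]
  st := by rw [star4_mul hg.sp hk.sp, hg.st, hk.st, Matrix.map_mul]

theorem IsSz.det {g : Matrix (Fin 4) (Fin 4) F} (hg : IsSz g) : g.det = 1 := by
  have h1 := congrArg Matrix.det hg.sp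
  have h2 := congrArg Matrix.det (wm_sq (F := F))
  simp only [det_mul, det_transpose, det_one] at h1 h2
  apply sq_inj
  linear_combination (wm F).det * h1 + (1 - g.det ^ 2) * h2

theorem isSz_um (a b : F) : IsSz (um a b) where
  sp := by
    ext i j
    fin_cases i <;> fin_cases j <;>
      simp [um, suzukiForm, Matrix.mul_apply, Fin.sum_univ_four] <;> grind [ff]
  st := by
    ext i j
    fin_cases i <;> fin_cases j <;> simp [um, star4, pairOf, ff] <;> grind

theorem isSz_dm {l : F} (hl : l ≠ 0) : IsSz (dm l) where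
  sp := by
    have := th_ne hl
    ext i j
    fin_cases i <;> fin_cases j <;>
      simp [dm, suzukiForm, Matrix.mul_apply, Fin.sum_univ_four] <;> field_simp
  st := by
    have := th_ne hl
    ext i j
    fin_cases i <;> fin_cases j <;> simp [dm, star4, pairOf] <;> field_simp

theorem isSz_wm : IsSz (wm F) where
  sp := by rw [wm_T, wm_sq, one_mul]
  st := by
    ext i j
    fin_cases i <;> fin_cases j <;> simp [suzukiForm, star4, pairOf] <;> grind

/-- the first column of an element of the fixed point group spans a point of the ovoid -/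
theorem IsSz.col {g : Matrix (Fin 4) (Fin 4) F} (hg : IsSz g) :
    (g 1 0 = 0 ∧ g 2 0 = 0 ∧ g 3 0 = 0) ∨
      (g 3 0 ≠ 0 ∧ g 0 0 / g 3 0 = ff (g 2 0 / g 3 0) (g 1 0 / g 3 0)) := by
  have s0 := congrFun (congrFun hg.st 0) 0
  have s1 := congrFun (congrFun hg.st 1) 0
  have s2 := congrFun (congrFun hg.st 2) 0
  have s3 := congrFun (congrFun hg.st 3) 0
  have c := sp_col hg.sp 0 1
  simp [star4, pairOf, suzukiForm] at s0 s1 s2 s3 c
  by_cases h3 : g 3 0 = 0
  · left
    have h2 : g 2 0 = 0 := by
      have : g 2 0 * th F (g 2 0) = 0 * th F 0 := by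
        have : th F (g 3 0) = 0 := by rw [h3, map_zero]
        grind
      exact nm_inj this
    refine ⟨?_, h2, h3⟩
    have h4 : th F (g 2 0) = 0 := by rw [h2, map_zero]
    have : g 1 0 * (g 1 0 * th F (g 1 0)) = 0 := by grind
    rcases mul_eq_zero.1 this with h1 | h1
    · exact h1
    · exact nm_inj (by simpa using h1)
  · right
    refine ⟨h3, ?_⟩
    have := th_ne h3
    unfold ff
    simp only [map_div₀]
    field_simp
    grind

end Cfsg.Agent.H7.Suz
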