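import Cfsg.Agent.H7.Sz1
import Cfsg.Agent.H7.Zass6

/-! The Suzuki group acting on the ovoid. -/

set_option autoImplicit false
set_option linter.unusedSectionVars false

open Matrix Cfsg Cfsg.Lie MulAction
open scoped MatrixGroups Pointwise

namespace Cfsg.Agent.H7.Suz

variable {F : Type*} [Field F] [Fintype F] {m : ℕ} [h : SzF F m]
include h

/-- vectors of the affine points of the ovoid -/
def ov (x y : F) : Fin 4 → F := ![ff x y, y, x, 1]

theorem ov_ne (x y : F) : ov x y ≠ 0 := fun e => by simpa [ov] using congrFun e 3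

theorem ov_eq (x y : F) :
    ov x y = ![x * y + x ^ (2 ^ (m + 1) + 2) + y ^ (2 ^ (m + 1)), y, x, 1] := by
  simp only [ov, ff, th_def, pow_add]; congr 1; ring

omit [Fintype F] h in
theorem e0_ne : (![1, 0, 0, 0] : Fin 4 → F) ≠ 0 := by simp

theorem mem_ovoid {p : Projectivization F (Fin 4 → F)} : p ∈ suzukiOvoid F m ↔
    p = Projectivization.mk F ![1, 0, 0, 0] e0_ne ∨
      ∃ x y : F, p = Projectivization.mk F (ov x y) (ov_ne x y) := by
  constructor
  · rintro ⟨v, hv, rfl, rfl | ⟨x, y, e⟩⟩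
    · exact Or.inl rfl
    · rw [← ov_eq] at e; subst e; exact Or.inr ⟨x, y, rfl⟩
  · rintro (rfl | ⟨x, y, rfl⟩)
    · exact ⟨_, _, rfl, Or.inl rfl⟩
    · exact ⟨_, _, rfl, Or.inr ⟨x, y, ov_eq x y⟩⟩

variable (F) in
/-- the point at infinity -/
def inf : suzukiOvoid F m := ⟨Projectivization.mk F ![1, 0, 0, 0] e0_ne, mem_ovoid.2 (Or.inl rfl)⟩

/-- the affine points -/
def pt (x y : F) : suzukiOvoid F m :=
  ⟨Projectivization.mk F (ov x y) (ov_ne x y), mem_ovoid.2 (Or.inr ⟨x, y, rfl⟩)⟩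

variable (F) in
/-- the origin -/
abbrev zer : suzukiOvoid F m := pt (0 : F) 0

theorem pt_cases (p : suzukiOvoid F m) : p = inf F ∨ ∃ x y : F, p = pt x y := by
  rcases mem_ovoid.1 p.2 with e | ⟨x, y, e⟩
  · exact Or.inl (Subtype.ext e)
  · exact Or.inr ⟨x, y, Subtype.ext e⟩

theorem pt_ne_inf (x y : F) : pt x y ≠ inf F := fun e => by
  obtain ⟨c, hc⟩ := (Projectivization.mk_eq_mk_iff' F _ _ _ _).1 (congrArg Subtype.val e)
  simpa [ov] using congrFun hc 3

theorem exists_pt {p : suzukiOvoid F m} (hp : p ≠ inf F) : ∃ x y : F, p = pt x y :=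
  (pt_cases p).resolve_left hp

theorem pt_inj {x y x' y' : F} : pt x y = pt x' y' ↔ x = x' ∧ y = y' := by
  refine ⟨fun e => ?_, fun ⟨a, b⟩ => by rw [a, b]⟩
  obtain ⟨c, hc⟩ := (Projectivization.mk_eq_mk_iff' F _ _ _ _).1 (congrArg Subtype.val e)
  have h1 := congrFun hc 1
  have h2 := congrFun hc 2
  have h3 := congrFun hc 3
  simp [ov] at h1 h2 h3
  subst h3
  exact ⟨by simpa using h2.symm, by simpa using h1.symm⟩

variable (F) in
/-- coordinates on the ovoid -/
noncomputable def ptEquiv : Option (F × F) ≃ suzukiOvoid F m :=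
  Equiv.ofBijective (fun o => o.elim (inf F) fun p => pt p.1 p.2) ⟨by
    rintro (_ | p) (_ | q) e
    · rfl
    · exact absurd e.symm (pt_ne_inf _ _)
    · exact absurd e (pt_ne_inf _ _)
    · obtain ⟨a, b⟩ := pt_inj.1 e
      rw [Prod.ext a b], fun p => by
    rcases pt_cases p with rfl | ⟨x, y, rfl⟩
    · exact ⟨none, rfl⟩
    · exact ⟨some (x, y), rfl⟩⟩

instance finO : Finite (suzukiOvoid F m) := Finite.of_equiv _ (ptEquiv F)

theorem card_O : Nat.card (suzukiOvoid F m) = Fintype.card F ^ 2 + 1 := by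
  rw [← Nat.card_congr (ptEquiv F), Finite.card_option, Nat.card_prod, Nat.card_eq_fintype_card,
    sq]

theorem smul_mk (g : SL(4, F)) {v : Fin 4 → F} (hv : v ≠ 0) {v' : Fin 4 → F} (hv' : v' ≠ 0)
    (c : F) (e : (g : Matrix (Fin 4) (Fin 4) F) *ᵥ v = c • v') :
    g • Projectivization.mk F v hv = Projectivization.mk F v' hv' := by
  rw [Projectivization.smul_mk, Projectivization.mk_eq_mk_iff']
  exact ⟨c, e.symm⟩

theorem exists_of_smul_mk {g : SL(4, F)} {v : Fin 4 → F} {hv : v ≠ 0} {v' : Fin 4 → F}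
    {hv' : v' ≠ 0} (e : g • Projectivization.mk F v hv = Projectivization.mk F v' hv') :
    ∃ c : F, c ≠ 0 ∧ (g : Matrix (Fin 4) (Fin 4) F) *ᵥ v = c • v' := by
  rw [Projectivization.smul_mk, Projectivization.mk_eq_mk_iff] at e
  obtain ⟨c, hc⟩ := e
  exact ⟨c, c.ne_zero, hc.symm⟩

theorem IsSz.smul_inf {g : SL(4, F)} (hg : IsSz (g : Matrix (Fin 4) (Fin 4) F)) :
    g • Projectivization.mk F ![1, 0, 0, 0] e0_ne ∈ suzukiOvoid F m := by
  rw [mem_ovoid]
  rcases hg.col with ⟨h1, h2, h3⟩ | ⟨h3, h0⟩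
  · left
    refine smul_mk g _ _ (g 0 0) ?_
    ext i; fin_cases i <;> simp [mulVec, dotProduct, Fin.sum_univ_four, h1, h2, h3]
  · right
    refine ⟨g 2 0 / g 3 0, g 1 0 / g 3 0, smul_mk g _ _ (g 3 0) ?_⟩
    ext i; fin_cases i <;> simp [mulVec, dotProduct, Fin.sum_univ_four, ov, ← h0] <;> field_simp

theorem IsSz.mem {g : SL(4, F)} (hg : IsSz (g : Matrix (Fin 4) (Fin 4) F)) : g ∈ Sz F m := by
  rw [mem_stabilizer_set_iff_smul_set_subset (Set.toFinite _)]
  rintro _ ⟨p, hp, rfl⟩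
  rcases mem_ovoid.1 hp with rfl | ⟨x, y, rfl⟩
  · exact hg.smul_inf
  · have h1 := (isSz_um x y).mul (isSz_wm (F := F))
    obtain ⟨k, hk⟩ : ∃ k : SL(4, F), (k : Matrix (Fin 4) (Fin 4) F) = um x y * wm F :=
      ⟨⟨_, h1.det⟩, rfl⟩
    have e : Projectivization.mk F (ov x y) (ov_ne x y) =
        k • Projectivization.mk F (![1, 0, 0, 0] : Fin 4 → F) e0_ne := by
      refine (smul_mk _ _ _ 1 ?_).symm
      rw [hk]
      ext i
      fin_cases i <;> simp [mulVec, dotProduct, Fin.sum_univ_four, ov, um, suzukiForm]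
    show g • _ ∈ _
    rw [e, ← mul_smul]
    exact IsSz.smul_inf (hg.mul (hk ▸ h1))

/-- the element of the Suzuki group given by a matrix -/
def mkS (g : Matrix (Fin 4) (Fin 4) F) (hg : IsSz g) : Sz F m := ⟨⟨g, hg.det⟩, IsSz.mem hg⟩

/-- the matrix of an element -/
def mat (g : Sz F m) : Matrix (Fin 4) (Fin 4) F := (g : SL(4, F))

@[simp] theorem mat_mkS (g : Matrix (Fin 4) (Fin 4) F) (hg : IsSz g) : mat (mkS g hg) = g := rfl

theorem mat_mul (g k : Sz F m) : mat (g * k) = mat g * mat k := rfl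

theorem mat_one : mat (1 : Sz F m) = 1 := rfl

theorem mat_inj {g k : Sz F m} (e : mat g = mat k) : g = k := Subtype.ext (Subtype.ext e)

variable (F) in
/-- the natural representation -/
def matHom : Sz F m →* Matrix (Fin 4) (Fin 4) F where
  toFun := mat
  map_one' := rfl
  map_mul' _ _ := rfl

/-- unipotent elements -/
def u (a b : F) : Sz F m := mkS (um a b) (isSz_um a b)

variable (F) in
/-- the Weyl involution -/
def w : Sz F m := mkS (wm F) isSz_wm

/-- torus elements -/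
def hh (c : Fˣ) : Sz F m := mkS (dm (sg F c)) (isSz_dm (sg_ne c.ne_zero))

theorem smul_eq {g : Sz F m} {p p' : suzukiOvoid F m} {v v' : Fin 4 → F} {hv : v ≠ 0}
    {hv' : v' ≠ 0} (hp : p.1 = Projectivization.mk F v hv) (hp' : p'.1 = Projectivization.mk F v' hv')
    (c : F) (e : mat g *ᵥ v = c • v') : g • p = p' := by
  apply Subtype.ext
  show (g : SL(4, F)) • p.1 = _
  rw [hp, hp']
  exact smul_mk _ _ _ c e

theorem of_smul_eq {g : Sz F m} {p p' : suzukiOvoid F m} {v v' : Fin 4 → F} {hv : v ≠ 0}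
    {hv' : v' ≠ 0} (hp : p.1 = Projectivization.mk F v hv) (hp' : p'.1 = Projectivization.mk F v' hv')
    (e : g • p = p') : ∃ c : F, c ≠ 0 ∧ mat g *ᵥ v = c • v' := by
  have e' : (g : SL(4, F)) • p.1 = p'.1 := congrArg Subtype.val e
  rw [hp, hp'] at e'
  exact exists_of_smul_mk e'

theorem u_inf (a b : F) : u a b • inf F = inf F := by
  refine smul_eq rfl rfl 1 ?_
  ext i; fin_cases i <;> simp [mulVec, dotProduct, Fin.sum_univ_four, u, um]

theorem u_pt (a b x y : F) : u a b • pt x y = pt (a + x) (b + y + th F a * x) := by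
  refine smul_eq rfl rfl 1 ?_
  ext i
  fin_cases i <;> simp [mulVec, dotProduct, Fin.sum_univ_four, u, um, ov, ff] <;> grind

theorem u_zero (a b : F) : u a b • zer F = pt a b := by simp [u_pt]

theorem hh_inf (c : Fˣ) : hh c • inf F = inf F := by
  refine smul_eq rfl rfl (sg F c * c) ?_
  ext i; fin_cases i <;> simp [mulVec, dotProduct, Fin.sum_univ_four, hh, dm]

theorem hh_pt (c : Fˣ) (x y : F) : hh c • pt x y = pt (c * x) (c * th F c * y) := by
  refine smul_eq rfl rfl (sg F c * c)⁻¹ ?_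
  have h1 := sg_ne c.ne_zero
  have h2 := sg_sq (c : F)
  ext i
  fin_cases i <;> simp [mulVec, dotProduct, Fin.sum_univ_four, hh, dm, ov, ff, ← h2] <;>
    field_simp

theorem w_inf : w F • inf F = zer F := by
  refine smul_eq rfl rfl 1 ?_
  ext i; fin_cases i <;> simp [mulVec, dotProduct, Fin.sum_univ_four, w, suzukiForm, ov, ff]

theorem w_zero : w F • zer F = inf F := by
  refine smul_eq rfl rfl 1 ?_
  ext i; fin_cases i <;> simp [mulVec, dotProduct, Fin.sum_univ_four, w, suzukiForm, ov, ff]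

theorem w_pt {x y : F} (e : ff x y ≠ 0) : w F • pt x y = pt (y / ff x y) (x / ff x y) := by
  refine smul_eq rfl rfl (ff x y) ?_
  ext i
  fin_cases i <;> simp [mulVec, dotProduct, Fin.sum_univ_four, w, suzukiForm, ov, ff_inv e] <;>
    field_simp

theorem w_sq : w F * w F = 1 := mat_inj wm_sq

theorem w_inv : (w F)⁻¹ = w F := inv_eq_of_mul_eq_one_right w_sq

theorem u_mul (a b c d : F) : u a b * u c d = u (a + c) (b + d + th F a * c) := by
  apply mat_inj
  ext i j
  fin_cases i <;> fin_cases j <;>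
    simp [mat_mul, u, um, Matrix.mul_apply, Fin.sum_univ_four, ff] <;> grind

theorem u_00 : u (0 : F) 0 = 1 := by
  apply mat_inj
  ext i j
  fin_cases i <;> fin_cases j <;> simp [mat_one, u, um, ff]

theorem u_inv (a b : F) : (u a b)⁻¹ = u a (b + a * th F a) := by
  apply inv_eq_of_mul_eq_one_right
  rw [u_mul, ← u_00]; congr 1 <;> grind

theorem u_inj {a b c d : F} : u a b = u c d ↔ a = c ∧ b = d := by
  refine ⟨fun e => ?_, fun ⟨x, y⟩ => by rw [x, y]⟩
  rw [← pt_inj, ← u_zero a, ← u_zero c, e]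

theorem u_eq_one {a b : F} : u a b = 1 ↔ a = 0 ∧ b = 0 := by rw [← u_00, u_inj]

theorem u_sq (a b : F) : u a b * u a b = u 0 (a * th F a) := by
  rw [u_mul]; congr 1 <;> grind

theorem hh_mul (c d : Fˣ) : hh (c * d) = hh c * hh d := by
  apply mat_inj
  ext i j
  fin_cases i <;> fin_cases j <;>
    simp [mat_mul, hh, dm, Matrix.mul_apply, Fin.sum_univ_four] <;> ring

theorem hh_one : hh (1 : Fˣ) = 1 := by
  apply mat_inj
  ext i j
  fin_cases i <;> fin_cases j <;> simp [mat_one, hh, dm]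

variable (F) in
/-- the split torus -/
def hHom : Fˣ →* Sz F m where
  toFun := hh
  map_one' := hh_one
  map_mul' := hh_mul

theorem hh_inv (c : Fˣ) : hh c⁻¹ = (hh c)⁻¹ := map_inv (hHom F) c

theorem hh_inj {c d : Fˣ} (e : hh c = hh d) : c = d := by
  have := hh_pt c 1 0
  rw [e, hh_pt, pt_inj] at this
  exact Units.ext (by simpa using this.1.symm)

theorem hh_eq_one {c : Fˣ} : hh c = 1 ↔ c = 1 :=
  ⟨fun e => hh_inj (by rw [e, hh_one]), fun e => by rw [e, hh_one]⟩

theorem hh_u (c : Fˣ) (a b : F) : hh c * u a b * (hh c)⁻¹ = u (c * a) (c * th F c * b) := by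
  rw [mul_inv_eq_iff_eq_mul]
  apply mat_inj
  have h1 := sg_ne c.ne_zero
  have h2 := sg_sq (c : F)
  ext i j
  fin_cases i <;> fin_cases j <;>
    simp [mat_mul, hh, dm, u, um, Matrix.mul_apply, Fin.sum_univ_four, ff, ← h2] <;> field_simp

theorem w_hh (c : Fˣ) : w F * hh c * (w F)⁻¹ = (hh c)⁻¹ := by
  rw [← hh_inv, mul_inv_eq_iff_eq_mul]
  apply mat_inj
  ext i j
  fin_cases i <;> fin_cases j <;>
    simp [mat_mul, hh, dm, w, suzukiForm, Matrix.mul_apply, Fin.sum_univ_four, mul_comm]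

theorem row_three {g : Sz F m} (h1 : g • inf F = inf F) :
    mat g 1 0 = 0 ∧ mat g 2 0 = 0 ∧ mat g 3 0 = 0 ∧ mat g 3 1 = 0 ∧ mat g 3 2 = 0 := by
  obtain ⟨c, -, e⟩ := of_smul_eq rfl rfl h1
  have e1 := congrFun e 1
  have e2 := congrFun e 2
  have e3 := congrFun e 3
  simp [mulVec, dotProduct, Fin.sum_univ_four] at e1 e2 e3
  have key : ∀ x y : F, mat g 3 1 * y + mat g 3 2 * x + mat g 3 3 ≠ 0 := fun x y => by
    have : g • pt x y ≠ inf F := fun e => pt_ne_inf x y (by rwa [← h1, smul_left_cancel_iff] at e)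
    obtain ⟨x', y', e⟩ := exists_pt this
    obtain ⟨d, hd, e⟩ := of_smul_eq rfl rfl e
    have e4 := congrFun e 3
    simp [mulVec, dotProduct, Fin.sum_univ_four, ov, e3] at e4
    rw [e4]; exact hd
  refine ⟨e1, e2, e3, ?_, ?_⟩
  · by_contra h0
    exact key 0 (-mat g 3 3 / mat g 3 1) (by field_simp; ring)
  · by_contra h0
    exact key (-mat g 3 3 / mat g 3 2) 0 (by field_simp; ring)

theorem three_mon {A B C : F} (e : ∀ y : F, A * y ^ 2 + B * (y ^ 2 * th F y) + C * th F y = 0) :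
    A = 0 ∧ B = 0 ∧ C = 0 := by
  obtain ⟨y, h0, h1⟩ := exists_ne01 (F := F)
  have hy : th F y + y ^ 2 ≠ 0 := fun e => by
    rcases eq_of_th_eq_sq (y := y) (by grind) with e | e
    · exact h0 e
    · exact h1 e
  have e1 := e y
  have e2 := e 1
  have e3 := e (y + 1)
  simp only [map_add, map_one] at e2 e3
  have hB : B = 0 := by
    apply mul_left_cancel₀ hy
    grind
  have hA : A = 0 := by
    apply mul_left_cancel₀ hy
    grind
  grind

theorem exists_hh {g : Sz F m} (h1 : g • inf F = inf F) (h2 : g • zer F = zer F) :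
    ∃ c : Fˣ, g = hh c := by
  obtain ⟨a10, a20, a30, a31, a32⟩ := row_three h1
  obtain ⟨a23, a13, a03, a02, a01⟩ := row_three (g := w F * g * w F)
    (by rw [mul_smul, mul_smul, w_inf, h2, w_zero])
  simp [mat_mul, w, suzukiForm, Matrix.mul_apply, Fin.sum_univ_four, vecMul, dotProduct]
    at a23 a13 a03 a02 a01
  have hdet : (mat g).det = 1 := (g : SL(4, F)).2
  have key : ∀ x y : F, mat g 3 3 ≠ 0 ∧ mat g 0 0 / mat g 3 3 * ff x y =
      ff ((mat g 2 1 * y + mat g 2 2 * x) / mat g 3 3)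
        ((mat g 1 1 * y + mat g 1 2 * x) / mat g 3 3) := fun x y => by
    have : g • pt x y ≠ inf F := fun e => pt_ne_inf x y (by rwa [← h1, smul_left_cancel_iff] at e)
    obtain ⟨x', y', e⟩ := exists_pt this
    obtain ⟨d, hd, e⟩ := of_smul_eq rfl rfl e
    have e0 := congrFun e 0
    have e1 := congrFun e 1
    have e2 := congrFun e 2
    have e3 := congrFun e 3
    simp [mulVec, dotProduct, Fin.sum_univ_four, ov, *] at e0 e1 e2 e3
    rw [e1, e2, e3, mul_div_cancel_left₀ _ hd, mul_div_cancel_left₀ _ hd]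
    refine ⟨hd, ?_⟩
    field_simp
    exact e0
  have h33 := (key 0 0).1
  set d := mat g 3 3
  obtain ⟨-, b1, b2⟩ := three_mon (A := mat g 2 1 / d * (mat g 1 1 / d))
    (B := (mat g 2 1 / d) ^ 2 * th F (mat g 2 1 / d))
    (C := th F (mat g 1 1 / d) + mat g 0 0 / d) fun y => by
      have := (key 0 y).2
      simp only [ff, map_div₀, map_mul, map_add, map_zero] at this ⊢
      grind
  obtain ⟨-, b3, b4⟩ := three_mon (A := mat g 2 2 / d * (mat g 1 2 / d))
    (B := (mat g 2 2 / d) ^ 2 * th F (mat g 2 2 / d) + mat g 0 0 / d)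
    (C := th F (mat g 1 2 / d)) fun y => by
      have := (key y 0).2
      simp only [ff, map_div₀, map_mul, map_add, map_zero] at this ⊢
      grind
  have a21 : mat g 2 1 = 0 := by simpa [h33] using b1
  have a12 : mat g 1 2 = 0 := by simpa [h33] using b4
  have b5 := (key 1 1).2
  simp only [ff, a21, a12, mul_one, zero_add, add_zero, map_one] at b5
  have hdiag : mat g = diagonal ![mat g 0 0, mat g 1 1, mat g 2 2, d] := by
    ext i j
    fin_cases i <;> fin_cases j <;> simp [*, d]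
  rw [hdiag, det_diagonal, Fin.prod_univ_four] at hdet
  simp only [cons_val_zero, cons_val_one, cons_val] at hdet
  obtain ⟨c, hc⟩ : ∃ c, mat g 0 0 = c * d := ⟨mat g 0 0 / d, by field_simp⟩
  obtain ⟨δ, hδ⟩ : ∃ c, mat g 1 1 = c * d := ⟨mat g 1 1 / d, by field_simp⟩
  obtain ⟨α, hα⟩ : ∃ c, mat g 2 2 = c * d := ⟨mat g 2 2 / d, by field_simp⟩
  simp only [hc, hδ, hα, mul_div_cancel_right₀ _ h33] at b2 b3 b5 hdet hdiag
  have hα0 : α ≠ 0 := by rintro rfl; simp at hdet
  have e1 : c = α ^ 2 * th F α := by grind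
  have e2 : δ = α * th F α := by
    apply mul_left_cancel₀ hα0; grind
  have hl := sg_ne hα0
  have h3 := sg_sq α
  have e3 : d * (sg F α * α) = 1 := by
    apply sq_inj; apply sq_inj
    rw [e1, e2, ← h3] at hdet
    linear_combination hdet
  have e4 : d = (sg F α * α)⁻¹ := eq_inv_of_mul_eq_one_left e3
  refine ⟨Units.mk0 α hα0, mat_inj ?_⟩
  rw [hdiag, e4, e1, e2, ← h3]
  ext i j
  fin_cases i <;> fin_cases j <;> simp [hh, dm] <;> field_simp

theorem exists_uh {g : Sz F m} (h1 : g • inf F = inf F) :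
    ∃ (a b : F) (c : Fˣ), g = u a b * hh c := by
  have : g • zer F ≠ inf F := fun e => pt_ne_inf (0 : F) 0 (by rwa [← h1, smul_left_cancel_iff] at e)
  obtain ⟨a, b, e⟩ := exists_pt this
  obtain ⟨c, hc⟩ := exists_hh (g := (u a b)⁻¹ * g) (by rw [mul_smul, h1, inv_smul_eq_iff, u_inf])
    (by rw [mul_smul, e, inv_smul_eq_iff, u_zero])
  exact ⟨a, b, c, by rw [← hc]; group⟩

theorem bruhat {g : Sz F m} (h1 : g • inf F ≠ inf F) :
    ∃ (a b a' b' : F) (c : Fˣ), g = u a b * w F * (u a' b' * hh c) := by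
  obtain ⟨a, b, e⟩ := exists_pt h1
  obtain ⟨a', b', c, hc⟩ := exists_uh (g := (u a b * w F)⁻¹ * g)
    (by rw [mul_smul, e, inv_smul_eq_iff, mul_smul, w_inf, u_zero])
  exact ⟨a, b, a', b', c, by rw [← hc]; group⟩

theorem isSz_mat (g : Sz F m) : IsSz (mat g) := by
  by_cases h1 : g • inf F = inf F
  · obtain ⟨a, b, c, rfl⟩ := exists_uh h1
    exact (isSz_um a b).mul (isSz_dm (sg_ne c.ne_zero))
  · obtain ⟨a, b, a', b', c, rfl⟩ := bruhat h1
    exact ((isSz_um a b).mul isSz_wm).mul ((isSz_um a' b').mul (isSz_dm (sg_ne c.ne_zero)))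

end Cfsg.Agent.H7.Suz
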