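import Cfsg.Agent.H7.ZT1

/-! Tori (centralisers of fixed point free elements) in Zassenhaus groups of odd degree. -/

set_option autoImplicit false
set_option linter.unusedSectionVars false

open Cfsg MulAction Subgroup Cfsg.Agent.H8
open scoped Pointwise commutatorElement

namespace Cfsg.Agent.H7

variable {G Ω : Type*} [Group G] [MulAction G Ω] {a b : Ω} {Q A A' : Subgroup G}

theorem card_cj_class [Finite G] (A : Subgroup G) :
    Nat.card {K : Subgroup G // ∃ g, K = cj A g} = (normalizer (A : Set G)).index := by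
  symm
  refine Nat.card_congr (Equiv.ofBijective (fun x => Quotient.liftOn' x
    (fun g => (⟨cj A g, g, rfl⟩ : {K : Subgroup G // ∃ g, K = cj A g})) fun x y e => ?_) ⟨?_, ?_⟩)
  · apply Subtype.ext
    have := cj_eq_of_mem_normalizer (QuotientGroup.leftRel_apply.1 e)
    show cj A x = cj A y
    rw [← this, cj_cj, this, mul_inv_cancel_left]
  · intro x y
    induction x using Quotient.inductionOn'
    induction y using Quotient.inductionOn'
    rename_i x y
    intro e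
    have e' : cj A x = cj A y := congrArg Subtype.val e
    apply Quotient.sound'
    rw [QuotientGroup.leftRel_apply, mem_normalizer_iff_cj, ← cj_cj, ← e', cj_inv_cj]
  · rintro ⟨_, g, rfl⟩
    exact ⟨Quotient.mk'' g, rfl⟩

theorem exists_center_of_nil [Finite G] {P : Subgroup G} (hP : Group.IsNilpotent P) (h : P ≠ ⊥) :
    ∃ z ∈ P, z ≠ 1 ∧ ∀ x ∈ P, x * z = z * x := by
  haveI := (nontrivial_iff_ne_bot P).2 h
  obtain ⟨z, hz, z1⟩ := (center P).bot_or_exists_ne_one.resolve_left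
    (Group.IsNilpotent.center_ne_bot P)
  exact ⟨z, z.2, fun e => z1 (Subtype.ext e), fun x hx =>
    congrArg Subtype.val (mem_center_iff.1 hz ⟨x, hx⟩)⟩

/-- a system of representatives of the conjugacy classes of subgroups with a property -/
theorem exists_reps [Finite G] (T : Subgroup G → Prop) (hT : ∀ A g, T A → T (cj A g)) :
    ∃ R : Finset (Subgroup G), (∀ A ∈ R, T A) ∧ (∀ A, T A → ∃ A' ∈ R, ∃ g, A = cj A' g) ∧
      ∀ A ∈ R, ∀ g, cj A g ∈ R → cj A g = A := by
  classical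
  haveI := Fintype.ofFinite (Subgroup G)
  let s : Setoid (Subgroup G) := ⟨fun A A' => ∃ g, A' = cj A g, fun A => ⟨1, by simp⟩,
    fun ⟨g, e⟩ => ⟨g⁻¹, by rw [e, cj_inv_cj]⟩, fun ⟨g, e⟩ ⟨k, e'⟩ => ⟨k * g, by rw [e', e, cj_cj]⟩⟩
  refine ⟨(Finset.univ.filter T).image fun A => (Quotient.mk s A).out, ?_, ?_, ?_⟩
  · intro A hA
    obtain ⟨B, hB, rfl⟩ := Finset.mem_image.1 hA
    obtain ⟨g, e⟩ := s.symm (Quotient.mk_out (s := s) B)
    rw [e]; exact hT _ _ (Finset.mem_filter.1 hB).2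
  · intro A hA
    exact ⟨_, Finset.mem_image_of_mem _ (Finset.mem_filter.2 ⟨Finset.mem_univ _, hA⟩),
      Quotient.mk_out (s := s) A⟩
  · intro A hA g hg
    obtain ⟨B, -, rfl⟩ := Finset.mem_image.1 hA
    obtain ⟨C, -, e⟩ := Finset.mem_image.1 hg
    have h1 : Quotient.mk s C = Quotient.mk s B := by
      rw [← Quotient.out_eq (Quotient.mk s C), ← Quotient.out_eq (Quotient.mk s B), e]
      have : ∃ k, cj (Quotient.mk s B).out g = cj (Quotient.mk s B).out k := ⟨g, rfl⟩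
      exact (Quotient.sound (s := s) this).symm
    rw [← e, h1]

theorem sum_reps [Fintype (Subgroup G)] [Finite G] {T : Subgroup G → Prop} [DecidablePred T]
    (hT : ∀ A g, T A → T (cj A g)) {R : Finset (Subgroup G)} (h1 : ∀ A ∈ R, T A)
    (h2 : ∀ A, T A → ∃ A' ∈ R, ∃ g, A = cj A' g) (h3 : ∀ A ∈ R, ∀ g, cj A g ∈ R → cj A g = A)
    (f : ℕ → ℕ) : ∑ A ∈ Finset.univ.filter T, f (Nat.card A) =
      ∑ A ∈ R, (normalizer (A : Set G)).index * f (Nat.card A) := by
  classical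
  choose! r hr using h2
  rw [← Finset.sum_fiberwise_of_maps_to (t := R) (g := r)
    fun A hA => (hr A (Finset.mem_filter.1 hA).2).1]
  refine Finset.sum_congr rfl fun A hA => ?_
  have key : ∀ K, K ∈ (Finset.univ.filter T).filter (fun K => r K = A) ↔ ∃ g, K = cj A g := by
    intro K
    simp only [Finset.mem_filter, Finset.mem_univ, true_and]
    constructor
    · rintro ⟨hK, rfl⟩; exact (hr K hK).2
    · rintro ⟨g, rfl⟩
      have hK := hT A g (h1 A hA)
      obtain ⟨h4, k, e⟩ := hr _ hK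
      have e' : r (cj A g) = cj A (k⁻¹ * g) := by rw [← cj_cj, e, cj_inv_cj, ← e]
      exact ⟨hK, by rw [e'] at h4 ⊢; exact h3 A hA _ h4⟩
  rw [Finset.sum_congr rfl (g := fun _ => f (Nat.card A)) fun K hK => by
    obtain ⟨g, rfl⟩ := (key K).1 hK
    rw [card_cj]]
  rw [Finset.sum_const, smul_eq_mul, ← card_cj_class]
  congr 1
  rw [Nat.card_eq_fintype_card, Fintype.card_subtype]
  congr 1
  ext K
  rw [key]; simp

variable (Ω) in
/-- centralisers of fixed point free elements -/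
def Tor (A : Subgroup G) : Prop := ∃ g, Fpf Ω g ∧ A = centralizer {g}

theorem Tor.cj' (h : Tor Ω A) (g : G) : Tor Ω (cj A g) := by
  obtain ⟨x, hx, rfl⟩ := h
  exact ⟨_, hx.conj g, cj_centralizer_singleton x g⟩

theorem Tor.ne_bot [Nonempty Ω] (h : Tor Ω A) : A ≠ ⊥ := by
  obtain ⟨x, hx, rfl⟩ := h
  intro e
  have : x ∈ centralizer {x} := mem_centralizer_singleton_iff.2 rfl
  rw [e] at this
  exact hx.ne_one (mem_bot.1 this)

variable [Finite G] [Finite Ω]

/-- the centralisers of fixed point free elements are abelian -/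
structure ZTT (a b : Ω) (Q : Subgroup G) : Prop extends ZT a b Q where
  ab : ∀ g : G, Fpf Ω g → ∀ x y, x * g = g * x → y * g = g * y → x * y = y * x

namespace ZTT

theorem fpf (h : ZTT a b Q) (hA : Tor Ω A) {x : G} (hx : x ∈ A) (h1 : x ≠ 1) : Fpf Ω x := by
  obtain ⟨g, hg, rfl⟩ := hA
  exact h.fpf_of_comm hg h1 (mem_centralizer_singleton_iff.1 hx).symm

theorem tcomm (h : ZTT a b Q) (hA : Tor Ω A) {x y : G} (hx : x ∈ A) (hy : y ∈ A) :
    x * y = y * x := by
  obtain ⟨g, hg, rfl⟩ := hA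
  exact h.ab g hg x y (mem_centralizer_singleton_iff.1 hx) (mem_centralizer_singleton_iff.1 hy)

theorem cent (h : ZTT a b Q) (hA : Tor Ω A) {x : G} (hx : x ∈ A) (h1 : x ≠ 1) :
    centralizer {x} = A := by
  have hx' := h.fpf hA hx h1
  refine le_antisymm (fun y hy => ?_) fun y hy =>
    mem_centralizer_singleton_iff.2 (h.tcomm hA hy hx)
  obtain ⟨g, hg, rfl⟩ := hA
  exact mem_centralizer_singleton_iff.2 (h.ab x hx' y g (mem_centralizer_singleton_iff.1 hy)
    (mem_centralizer_singleton_iff.1 hx).symm)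

theorem eq_of_mem (h : ZTT a b Q) (hA : Tor Ω A) (hA' : Tor Ω A') {x : G} (hx : x ∈ A)
    (hx' : x ∈ A') (h1 : x ≠ 1) : A = A' := by rw [← h.cent hA hx h1, h.cent hA' hx' h1]

theorem mem_normalizer (h : ZTT a b Q) (hA : Tor Ω A) {x g : G} (hx : x ∈ A) (h1 : x ≠ 1)
    (hg : g * x * g⁻¹ ∈ A) : g ∈ normalizer (A : Set G) :=
  mem_normalizer_iff_cj.2 (h.eq_of_mem (hA.cj' g) hA (conj_mem_cj hx) hg (by simpa using h1))

theorem card_dvd (h : ZTT a b Q) (hA : Tor Ω A) : Nat.card A ∣ Nat.card Q + 1 :=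
  h.card_dvd_of_fpf fun _ hx h1 => h.fpf hA hx h1

theorem odd_card (h : ZTT a b Q) (hA : Tor Ω A) : Odd (Nat.card A) :=
  h.even.add_one.of_dvd_nat (h.card_dvd hA)

theorem exists_tor (h : ZTT a b Q) {p : ℕ} [Fact p.Prime] (hp : p ∣ Nat.card Q + 1)
    {P : Subgroup G} (hP : IsPGroup p P) (h1 : P ≠ ⊥) : ∃ A, Tor Ω A ∧ P ≤ A := by
  obtain ⟨z, hz, z1, hc⟩ := exists_center_of_nil hP.isNilpotent h1
  obtain ⟨k, hk⟩ := IsPGroup.iff_orderOf.1 hP ⟨z, hz⟩
  rw [Subgroup.orderOf_mk] at hk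
  refine ⟨_, ⟨z, fun c e => ?_, rfl⟩, fun x hx => mem_centralizer_singleton_iff.2 (hc x hx)⟩
  haveI := h.trans
  have h2 : orderOf z ∣ Nat.card (stabilizer G c) := (stabilizer G c).orderOf_dvd_natCard e
  rw [← card_stabilizer_eq_of_transitive a c, h.card_N, hk] at h2
  rcases k with _ | k
  · exact z1 (orderOf_eq_one_iff.1 hk)
  · exact (Fact.out : p.Prime).ne_one (Nat.eq_one_of_dvd_coprimes h.coprime_succ hp
      ((dvd_pow_self p k.succ_ne_zero).trans h2))

theorem exists_syl_le (h : ZTT a b Q) (hA : Tor Ω A) {p : ℕ} [hp : Fact p.Prime]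
    (hd : p ∣ Nat.card A) : ∃ P : Sylow p G, (P : Subgroup G) ≤ A ∧ (P : Subgroup G) ≠ ⊥ := by
  obtain ⟨x, hx⟩ := exists_prime_orderOf_dvd_card' p hd
  have x1 : (x : G) ≠ 1 := fun e => by
    rw [show x = 1 from Subtype.ext e, orderOf_one] at hx; exact hp.out.ne_one hx.symm
  have : IsPGroup p (zpowers (x : G)) :=
    IsPGroup.of_card (n := 1) (by rw [Nat.card_zpowers, Subgroup.orderOf_coe, hx, pow_one])
  obtain ⟨P, hP⟩ := this.exists_le_sylow
  have h2 : (P : Subgroup G) ≠ ⊥ := fun e => x1 (mem_bot.1 (e ▸ hP (mem_zpowers _)))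
  obtain ⟨B, hB, h3⟩ := h.exists_tor (hd.trans (h.card_dvd hA)) P.2 h2
  exact ⟨P, h.eq_of_mem hB hA (h3 (hP (mem_zpowers _))) x.2 x1 ▸ h3, h2⟩

theorem conj_of_dvd (h : ZTT a b Q) (hA : Tor Ω A) (hA' : Tor Ω A') {p : ℕ} (hp : p.Prime)
    (hd : p ∣ Nat.card A) (hd' : p ∣ Nat.card A') : ∃ g, A' = cj A g := by
  haveI := Fact.mk hp
  obtain ⟨P, h1, h2⟩ := h.exists_syl_le hA hd
  obtain ⟨P', h3, h4⟩ := h.exists_syl_le hA' hd'
  obtain ⟨g, rfl⟩ := exists_smul_eq G P P'
  obtain ⟨x, hx, x1⟩ := (bot_or_exists_ne_one _).resolve_left h4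
  exact ⟨g, h.eq_of_mem hA' (hA.cj' g) (h3 hx) (cj_mono h1 g hx) x1⟩

theorem coprime_index (h : ZTT a b Q) (hA : Tor Ω A) : (Nat.card A).Coprime A.index := by
  refine Nat.coprime_of_dvd fun p hp h1 h2 => ?_
  haveI := Fact.mk hp
  obtain ⟨P, h3, -⟩ := h.exists_syl_le hA h1
  exact P.not_dvd_index (h2.trans (index_dvd_of_le h3))

/-- systems of representatives of the classes of tori -/
structure Reps (Ω : Type*) [MulAction G Ω] (R : Finset (Subgroup G)) : Prop where
  tor : ∀ A ∈ R, Tor Ω A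
  ex : ∀ A, Tor Ω A → ∃ A' ∈ R, ∃ g, A = cj A' g
  uniq : ∀ A ∈ R, ∀ g, cj A g ∈ R → cj A g = A

theorem exists_Reps : ∃ R : Finset (Subgroup G), Reps Ω R := by
  obtain ⟨R, h1, h2, h3⟩ := exists_reps (G := G) (Tor Ω) fun A g hA => hA.cj' g
  exact ⟨R, h1, h2, h3⟩

variable {R : Finset (Subgroup G)}

theorem coprime_reps (h : ZTT a b Q) (hR : Reps Ω R) (hA : A ∈ R) (hA' : A' ∈ R) (hne : A ≠ A') :
    (Nat.card A).Coprime (Nat.card A') := by
  refine Nat.coprime_of_dvd fun p hp h1 h2 => ?_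
  obtain ⟨g, rfl⟩ := h.conj_of_dvd (hR.tor _ hA) (hR.tor _ hA') hp h1 h2
  exact hne (hR.uniq _ hA g hA').symm

theorem prod_reps (h : ZTT a b Q) (hR : Reps Ω R) : ∏ A ∈ R, Nat.card A = Nat.card Q + 1 := by
  apply Nat.dvd_antisymm
  · exact Finset.prod_dvd_of_isRelPrime
      (fun A hA A' hA' hne => Nat.coprime_iff_isRelPrime.1 (h.coprime_reps hR hA hA' hne))
      fun A hA => h.card_dvd (hR.tor A hA)
  · rw [Nat.dvd_iff_prime_pow_dvd_dvd]
    intro p k hp hk
    rcases k with _ | k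
    · simp
    haveI := Fact.mk hp
    obtain ⟨P⟩ : Nonempty (Sylow p G) := inferInstance
    have h1 : p ^ (k + 1) ∣ Nat.card P := by
      rw [P.card_eq_multiplicity]
      refine pow_dvd_pow p ((hp.pow_dvd_iff_le_factorization Nat.card_pos.ne').1 (hk.trans ?_))
      rw [h.card_G]; exact dvd_mul_right _ _
    obtain ⟨B, hB, h3⟩ := h.exists_tor ((dvd_pow_self p k.succ_ne_zero).trans hk) P.2 fun e => by
      rw [e, card_bot] at h1
      exact hp.ne_one (Nat.dvd_one.1 ((dvd_pow_self p k.succ_ne_zero).trans h1))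
    obtain ⟨A, hA, g, rfl⟩ := hR.ex B hB
    exact (h1.trans (card_cj A g ▸ card_dvd_of_le h3)).trans (Finset.dvd_prod_of_mem _ hA)

theorem sum_fpf [Fintype G] [DecidablePred (Fpf (G := G) Ω)] (h : ZTT a b Q) (hR : Reps Ω R)
    (f : ℕ → ℕ) :
    ∑ x ∈ Finset.univ.filter (Fpf (G := G) Ω), f (Nat.card (centralizer ({x} : Set G))) =
      ∑ A ∈ R, (normalizer (A : Set G)).index * ((Nat.card A - 1) * f (Nat.card A)) := by
  classical
  haveI := Fintype.ofFinite (Subgroup G)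
  haveI : Nonempty Ω := ⟨a⟩
  rw [← sum_reps (T := Tor Ω) (fun A g hA => hA.cj' g) hR.tor hR.ex hR.uniq
    (fun n => (n - 1) * f n), ← Finset.sum_fiberwise_of_maps_to (t := Finset.univ.filter (Tor Ω))
    (g := fun x => centralizer ({x} : Set G)) fun x hx =>
      Finset.mem_filter.2 ⟨Finset.mem_univ _, x, (Finset.mem_filter.1 hx).2, rfl⟩]
  refine Finset.sum_congr rfl fun A hA => ?_
  replace hA := (Finset.mem_filter.1 hA).2
  rw [Finset.sum_congr rfl (g := fun _ => f (Nat.card A)) fun x hx => by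
    rw [(Finset.mem_filter.1 hx).2], Finset.sum_const, smul_eq_mul]
  congr 1
  rw [Nat.card_eq_fintype_card, Fintype.card_subtype,
    ← Finset.card_erase_of_mem (a := 1) (by simp)]
  congr 1
  ext x
  simp only [Finset.mem_filter, Finset.mem_univ, true_and, Finset.mem_erase]
  exact ⟨fun ⟨h1, h2⟩ => ⟨h1.ne_one, h2 ▸ mem_centralizer_singleton_iff.2 rfl⟩,
    fun ⟨h1, h2⟩ => ⟨h.fpf hA h2 h1, h.cent hA h2 h1⟩⟩

/-- the automizer index of a subgroup -/
noncomputable abbrev ee (A : Subgroup G) : ℕ := A.relIndex (normalizer (A : Set G))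

theorem card_normalizer (A : Subgroup G) :
    Nat.card (normalizer (A : Set G)) = ee A * Nat.card A := by
  rw [← (A.subgroupOf (normalizer (A : Set G))).index_mul_card, card_subgroupOf_of_le le_normalizer]
  rfl

theorem ee_pos (A : Subgroup G) : 0 < ee A := Nat.pos_of_ne_zero FiniteIndex.index_ne_zero

theorem index_normalizer (A : Subgroup G) :
    ((normalizer (A : Set G)).index : ℚ) = Nat.card G / (ee A * Nat.card A) := by
  have h1 := ee_pos A
  have h2 : 0 < Nat.card A := Nat.card_pos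
  rw [eq_div_iff (by positivity), ← (normalizer (A : Set G)).index_mul_card, card_normalizer]
  push_cast; ring

/-- the class equation for the fixed point free elements -/
theorem class_eq (h : ZTT a b Q) (hR : Reps Ω R) :
    ∑ A ∈ R, ((Nat.card A : ℚ) - 1) / (ee A * Nat.card A) =
      1 / 2 - ((Nat.card Q : ℚ) - 1) / (2 * (Nat.card Q + 1) * Nat.card (St G a b)) := by
  classical
  haveI := Fintype.ofFinite G
  have h1 := h.sum_fpf hR fun _ => 1
  have h2 := h.card_fpf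
  rw [Finset.sum_const, smul_eq_mul, mul_one] at h1
  rw [h1] at h2
  have h3 := congrArg (Nat.cast : ℕ → ℚ) h2
  have h4 := h.two_le
  have h5 := h.three_le
  push_cast [Nat.cast_sub (show 1 ≤ Nat.card Q by omega)] at h3
  have h8 : ∑ A ∈ R, ((normalizer (A : Set G)).index : ℚ) * (((Nat.card A - 1 : ℕ) : ℚ) * 1) =
      ∑ A ∈ R, Nat.card G * (((Nat.card A : ℚ) - 1) / (ee A * Nat.card A)) :=
    Finset.sum_congr rfl fun A _ => by
      rw [index_normalizer, Nat.cast_sub Nat.card_pos]; push_cast; ring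
  rw [h8, ← Finset.mul_sum, h.card_G] at h3
  generalize ∑ A ∈ R, ((Nat.card A : ℚ) - 1) / (ee A * Nat.card A) = S at h3 ⊢
  push_cast at h3
  have h6 : (0 : ℚ) < Nat.card Q := by positivity
  have h7 : (0 : ℚ) < Nat.card (St G a b) := by positivity
  field_simp
  apply mul_left_cancel₀ h6.ne'
  linear_combination h3

end ZTT

end Cfsg.Agent.H7
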