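import Cfsg.Agent.H7.Sz2
import Cfsg.Agent.H7.ZT2

/-! The Suzuki group as a Zassenhaus group; the two models are isomorphic. -/

set_option autoImplicit false
set_option linter.unusedSectionVars false

open Matrix Cfsg Cfsg.Lie MulAction Subgroup Cfsg.Agent.H8
open scoped MatrixGroups Pointwise commutatorElement

namespace Cfsg.Agent.H7.Suz

variable {F : Type*} [Field F] [Fintype F] {m : ℕ} [h : SzF F m]
include h

instance finG : Finite (Sz F m) := inferInstance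

variable (F) in
/-- the standard Sylow 2-subgroup -/
def QQ : Subgroup (Sz F m) where
  carrier := {g | ∃ a b, g = u a b}
  one_mem' := ⟨0, 0, u_00.symm⟩
  mul_mem' := by rintro _ _ ⟨a, b, rfl⟩ ⟨c, d, rfl⟩; exact ⟨_, _, u_mul a b c d⟩
  inv_mem' := by rintro _ ⟨a, b, rfl⟩; exact ⟨_, _, u_inv a b⟩

variable (F) in
/-- its centre -/
def ZZ : Subgroup (Sz F m) where
  carrier := {g | ∃ b, g = u 0 b}
  one_mem' := ⟨0, u_00.symm⟩
  mul_mem' := by rintro _ _ ⟨b, rfl⟩ ⟨d, rfl⟩; exact ⟨b + d, by simp [u_mul]⟩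
  inv_mem' := by rintro _ ⟨b, rfl⟩; exact ⟨b, by simp [u_inv]⟩

variable (F) in
/-- the split torus -/
abbrev HH : Subgroup (Sz F m) := St (Sz F m) (inf F) (zer F)

variable (F) in
/-- the Borel subgroup -/
abbrev BB : Subgroup (Sz F m) := stabilizer (Sz F m) (inf F)

theorem mem_QQ {g : Sz F m} : g ∈ QQ F ↔ ∃ a b, g = u a b := Iff.rfl
theorem mem_ZZ {g : Sz F m} : g ∈ ZZ F ↔ ∃ b, g = u 0 b := Iff.rfl
theorem u_mem (a b : F) : u a b ∈ QQ F := ⟨a, b, rfl⟩
theorem u_mem_ZZ {a b : F} : u a b ∈ ZZ F ↔ a = 0 :=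
  ⟨fun ⟨_, e⟩ => (u_inj.1 e).1, fun e => ⟨b, by rw [e]⟩⟩
theorem ZZ_le : ZZ F ≤ QQ F := by rintro _ ⟨b, rfl⟩; exact u_mem 0 b

theorem hh_zer (c : Fˣ) : hh c • zer F = zer F := by simp [hh_pt]

theorem hh_mem (c : Fˣ) : hh c ∈ HH F := ⟨hh_inf c, hh_zer c⟩

theorem mem_HH {g : Sz F m} : g ∈ HH F ↔ ∃ c, g = hh c :=
  ⟨fun e => exists_hh e.1 e.2, by rintro ⟨c, rfl⟩; exact hh_mem c⟩

theorem inf_ne_zer : inf F ≠ zer F := (pt_ne_inf 0 0).symm

variable (F) in
/-- the split torus is the multiplicative group -/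
noncomputable def hEquiv : Fˣ ≃* HH F :=
  MulEquiv.ofBijective ((hHom F).codRestrict _ hh_mem) ⟨fun _ _ e => hh_inj (congrArg Subtype.val e),
    fun g => by obtain ⟨c, e⟩ := mem_HH.1 g.2; exact ⟨c, Subtype.ext e.symm⟩⟩

theorem card_HH : Nat.card (HH F) = Fintype.card F - 1 := by
  rw [← Nat.card_congr (hEquiv F).toEquiv, Nat.card_units, Nat.card_eq_fintype_card]

theorem cyclic_HH : IsCyclic (HH F) := isCyclic_of_surjective _ (hEquiv F).surjective

theorem card_QQ : Nat.card (QQ F) = Fintype.card F ^ 2 := by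
  rw [← Nat.card_congr (Equiv.ofBijective (fun p : F × F => (⟨u p.1 p.2, u_mem _ _⟩ : QQ F))
    ⟨fun p q e => by simpa [u_inj, Prod.ext_iff] using e,
      by rintro ⟨_, a, b, rfl⟩; exact ⟨(a, b), rfl⟩⟩), Nat.card_prod, Nat.card_eq_fintype_card, sq]

theorem card_ZZ : Nat.card (ZZ F) = Fintype.card F := by
  rw [← Nat.card_congr (Equiv.ofBijective (fun b : F => (⟨u 0 b, b, rfl⟩ : ZZ F))
    ⟨fun p q e => (u_inj.1 (congrArg Subtype.val e)).2,
      by rintro ⟨_, b, rfl⟩; exact ⟨b, rfl⟩⟩), Nat.card_eq_fintype_card]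

theorem exists_u_smul {y z : suzukiOvoid F m} (hy : y ≠ inf F) (hz : z ≠ inf F) :
    ∃ a b : F, u a b • y = z := by
  obtain ⟨a, b, rfl⟩ := exists_pt hy
  obtain ⟨c, d, rfl⟩ := exists_pt hz
  exact ⟨a + c, b + d + th F (a + c) * a, by rw [u_pt, pt_inj]; constructor <;> grind⟩

theorem ker : Ker (inf F) (QQ F) where
  fix := by rintro _ ⟨a, b, rfl⟩; exact u_inf a b
  norm g hg := by
    obtain ⟨a, b, c, rfl⟩ := exists_uh hg
    rintro _ ⟨x, y, rfl⟩
    rw [show u a b * hh c * u x y * (u a b * hh c)⁻¹ =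
      u a b * (hh c * u x y * (hh c)⁻¹) * (u a b)⁻¹ by group, hh_u]
    exact mul_mem (mul_mem (u_mem _ _) (u_mem _ _)) (inv_mem (u_mem _ _))
  reg y z hy hz := by
    obtain ⟨a, b, e⟩ := exists_u_smul hy hz
    refine ⟨⟨_, u_mem a b⟩, e, ?_⟩
    rintro ⟨_, c, d, rfl⟩ e'
    obtain ⟨x, y, rfl⟩ := exists_pt hy
    simp only [← e, u_pt, pt_inj] at e'
    obtain rfl : c = a := by simpa using e'.1
    obtain rfl : d = b := by simpa using e'.2
    rfl

theorem two_trans : IsMultiplyPretransitive (Sz F m) (suzukiOvoid F m) 2 := by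
  have h1 : ∀ p : suzukiOvoid F m, ∃ g : Sz F m, g • p = inf F := fun p => by
    by_cases hp : p = inf F
    · exact ⟨1, by simp [hp]⟩
    · obtain ⟨a, b, e⟩ := exists_u_smul hp inf_ne_zer.symm
      exact ⟨w F * u a b, by rw [mul_smul, e, w_zero]⟩
  rw [is_two_pretransitive_iff]
  intro a b c d hab hcd
  obtain ⟨g, hg⟩ := h1 a
  obtain ⟨k, hk⟩ := h1 c
  obtain ⟨x, y, e⟩ := exists_u_smul (y := g • b) (z := k • d)
    (fun e => hab (smul_left_cancel g (hg.trans e.symm)))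
    (fun e => hcd (smul_left_cancel k (hk.trans e.symm)))
  exact ⟨k⁻¹ * u x y * g, by rw [mul_smul, mul_smul, hg, u_inf, inv_smul_eq_iff, hk],
    by rw [mul_smul, mul_smul, e, inv_smul_smul]⟩

theorem eq_one_of_fix {c : Fˣ} {x y : F} (h0 : ¬ (x = 0 ∧ y = 0)) (e : hh c • pt x y = pt x y) :
    c = 1 := by
  rw [hh_pt, pt_inj] at e
  apply Units.ext
  by_cases hx : x = 0
  · have hy : y ≠ 0 := fun hy => h0 ⟨hx, hy⟩
    exact nm_eq_one ((mul_eq_right₀ hy).1 e.2)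
  · exact (mul_eq_right₀ hx).1 e.1

theorem z3 : Z3 (Sz F m) (suzukiOvoid F m) where
  two := two_trans
  three g a b c hab hbc hac h1 h2 h3 := by
    obtain ⟨k, e1, e2⟩ := mt_two two_trans inf_ne_zer hab
    obtain ⟨d, hd⟩ := exists_hh (g := k⁻¹ * g * k) (by simp [mul_smul, e1, h1, inv_smul_eq_iff])
      (by simp [mul_smul, e2, h2, inv_smul_eq_iff])
    obtain ⟨x, y, e⟩ := exists_pt (p := k⁻¹ • c) (fun e => hac (by rw [← e1, ← e, smul_inv_smul]))
    have := eq_one_of_fix (c := d) (x := x) (y := y) (by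
      rintro ⟨rfl, rfl⟩
      exact hbc (by rw [← e2, zer, ← e, smul_inv_smul])) (by
      rw [← hd, ← e]; simp [mul_smul, h3])
    rw [this, hh_one] at hd
    calc g = k * (k⁻¹ * g * k) * k⁻¹ := by group
      _ = 1 := by rw [hd]; group

theorem two_dvd_card : 2 ∣ Fintype.card F := by rw [h.hF]; exact dvd_pow_self 2 (by omega)

theorem zt : ZT (inf F) (zer F) (QQ F) where
  z := z3
  h3 := by
    rw [card_O]; have := eight_le (F := F); nlinarith
  ne := inf_ne_zer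
  k := ker
  odd := by
    rw [card_HH]
    exact Nat.Even.sub_odd Fintype.card_pos (even_iff_two_dvd.2 two_dvd_card) odd_one
  nt e := by
    have h1 := card_HH (F := F)
    have := eight_le (F := F)
    rw [HH, e, card_bot] at h1
    omega
  ex := ⟨w F, w_inf, w_zero⟩
  inv s h1 h2 x hx := by
    obtain ⟨c, rfl⟩ := mem_HH.1 hx
    obtain ⟨d, hd⟩ := exists_hh (g := (w F)⁻¹ * s) (by rw [mul_smul, h1, inv_smul_eq_iff, w_inf])
      (by rw [mul_smul, h2, inv_smul_eq_iff, w_zero])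
    rw [inv_mul_eq_iff_eq_mul] at hd
    rw [hd, ← w_hh, show w F * hh d * hh c * (w F * hh d)⁻¹ =
      w F * (hh d * hh c * (hh d)⁻¹) * (w F)⁻¹ by group, ← hh_mul, mul_comm d c, hh_mul,
      mul_inv_cancel_right]
  two := IsPGroup.of_card (n := (2 * m + 1) * 2) (by rw [card_QQ, h.hF, ← pow_mul])

theorem card_G : Nat.card (Sz F m) =
    Fintype.card F ^ 2 * (Fintype.card F ^ 2 + 1) * (Fintype.card F - 1) := by
  rw [zt.card_G, card_QQ, card_HH]; ring

theorem card_BB : Nat.card (BB F) = Fintype.card F ^ 2 * (Fintype.card F - 1) := by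
  rw [zt.card_N, card_QQ, card_HH]

instance simple : IsSimpleGroup (Sz F m) := zt.simple

theorem u_comm (a b c d : F) : ⁅u a b, u c d⁆ = u 0 (a * th F c + c * th F a) := by
  rw [commutatorElement_def, u_inv, u_inv, u_mul, u_mul, u_mul, u_inj]
  simp only [map_add]
  constructor <;> grind

theorem u_commute {a b c d : F} : u a b * u c d = u c d * u a b ↔ a = 0 ∨ c = 0 ∨ a = c := by
  rw [← commutatorElement_eq_one_iff_mul_comm, u_comm, u_eq_one]
  refine ⟨fun ⟨_, e⟩ => ?_, ?_⟩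
  · by_cases hc : c = 0
    · exact Or.inr (Or.inl hc)
    have := th_ne hc
    rcases eq_of_th_eq_self (y := a / c) (by rw [map_div₀]; field_simp; grind) with e | e
    · exact Or.inl (by simpa [hc] using e)
    · exact Or.inr (Or.inr (by rwa [div_eq_one_iff_eq hc] at e))
  · rintro (rfl | rfl | rfl)
    · simp
    · simp
    · exact ⟨rfl, CharTwo.add_self_eq_zero _⟩

theorem mem_ZZ_of_comm {g : Sz F m} (hg : g ∈ QQ F) (e : ∀ x ∈ QQ F, x * g = g * x) :
    g ∈ ZZ F := by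
  obtain ⟨a, b, rfl⟩ := hg
  rw [u_mem_ZZ]
  by_contra ha
  obtain ⟨y, y0, y1⟩ := exists_ne01 (F := F)
  rcases u_commute.1 (e _ (u_mem (y * a) 0)) with e | e | e
  · exact mul_ne_zero y0 ha e
  · exact ha e
  · exact y1 ((mul_eq_right₀ ha).1 e)

theorem ZZ_comm {g x : Sz F m} (hg : g ∈ ZZ F) (hx : x ∈ QQ F) : x * g = g * x := by
  obtain ⟨b, rfl⟩ := hg
  obtain ⟨c, d, rfl⟩ := hx
  exact u_commute.2 (Or.inr (Or.inl rfl))

theorem inf_centralizer_QQ : QQ F ⊓ centralizer (QQ F : Set (Sz F m)) = ZZ F := by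
  ext g
  exact ⟨fun hg => mem_ZZ_of_comm hg.1 hg.2, fun hg => ⟨ZZ_le hg, fun x hx => ZZ_comm hg hx⟩⟩

theorem center_QQ : (center (QQ F)).map (QQ F).subtype = ZZ F := by
  rw [center_map_subtype, inf_centralizer_QQ]

theorem sq_mem_ZZ {g : Sz F m} (hg : g ∈ QQ F) : g * g ∈ ZZ F := by
  obtain ⟨a, b, rfl⟩ := hg
  exact ⟨_, u_sq a b⟩

theorem sq_eq_one_iff {g : Sz F m} (hg : g ∈ QQ F) : g * g = 1 ↔ g ∈ ZZ F := by
  obtain ⟨a, b, rfl⟩ := hg
  simp [u_sq, u_eq_one, u_mem_ZZ]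

theorem exists_comm_eq (z : F) : ∃ a c : F, a * th F c + c * th F a = z := by
  obtain ⟨y, y0, y1⟩ := exists_ne01 (F := F)
  have h1 : th F y + y ≠ 0 := fun e => by
    rcases eq_of_th_eq_self (y := y) (by grind) with e | e
    · exact y0 e
    · exact y1 e
  obtain ⟨a, ha⟩ := nm_surj (z / (th F y + y))
  refine ⟨a, y * a, ?_⟩
  rw [eq_div_iff h1] at ha
  rw [map_mul, ← ha]; ring

theorem commutator_QQ : ⁅QQ F, QQ F⁆ = ZZ F := by
  refine le_antisymm (commutator_le.2 ?_) ?_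
  · rintro _ ⟨a, b, rfl⟩ _ ⟨c, d, rfl⟩
    exact ⟨_, u_comm a b c d⟩
  · rintro _ ⟨z, rfl⟩
    obtain ⟨a, c, rfl⟩ := exists_comm_eq z
    rw [← u_comm a 0 c 0]
    exact commutator_mem_commutator (u_mem _ _) (u_mem _ _)

theorem orderOf_u {a : F} (ha : a ≠ 0) (b : F) : orderOf (u a b) = 4 := by
  refine orderOf_eq_prime_pow (p := 2) (n := 1) ?_ ?_
  · rw [pow_one, sq, sq_eq_one_iff (u_mem a b), u_mem_ZZ]; exact ha
  · rw [show 2 ^ (1 + 1) = 2 * 2 by rfl, pow_mul, sq, sq, sq_eq_one_iff (ZZ_le (sq_mem_ZZ (u_mem a b)))]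
    exact sq_mem_ZZ (u_mem a b)

theorem orderOf_u0 {b : F} (hb : b ≠ 0) : orderOf (u 0 b) = 2 :=
  orderOf_eq_prime (by rw [sq, sq_eq_one_iff (u_mem _ _), u_mem_ZZ]) (by simp [u_eq_one, hb])

theorem pow_four {g : Sz F m} (hg : g ∈ QQ F) : g ^ 4 = 1 := by
  show g ^ (2 * 2) = 1
  rw [pow_mul, sq, sq, sq_eq_one_iff (ZZ_le (sq_mem_ZZ hg))]
  exact sq_mem_ZZ hg

omit [Fintype F] h in
theorem altForm4_eq (x y : Fin 4 → F) : altForm4 x y = x ⬝ᵥ (wm F *ᵥ y) := by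
  simp [altForm4, suzukiForm, mulVec, dotProduct, Fin.sum_univ_four]

omit [Fintype F] h in
theorem mem_Sp4 {g : GL (Fin 4) F} :
    g ∈ Sp4 F ↔ g.1ᵀ * wm F * g.1 = wm F := by
  have key : ∀ x y : Fin 4 → F, altForm4 (g.1 *ᵥ x) (g.1 *ᵥ y) =
      x ⬝ᵥ ((g.1ᵀ * wm F * g.1) *ᵥ y) := fun x y => by
    rw [altForm4_eq, ← mulVec_mulVec, ← mulVec_mulVec, dotProduct_mulVec x, vecMul_transpose]
  constructor
  · intro e
    ext i j
    have := e (Pi.single i 1) (Pi.single j 1)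
    erw [key, altForm4_eq] at this
    simpa using this
  · intro e x y
    erw [key, e, altForm4_eq]

theorem map_toGL : (Cfsg.Sz F m).map (SpecialLinearGroup.toGL) = Lie.Sz F (2 ^ (m + 1)) := by
  refine le_antisymm ?_ ((closure_le _).2 ?_)
  · rintro _ ⟨g, hg, rfl⟩
    have := isSz_mat ⟨g, hg⟩
    exact subset_closure ⟨mem_Sp4.2 this.sp, this.st⟩
  · rintro g ⟨h1, h2⟩
    have : IsSz (g : Matrix (Fin 4) (Fin 4) F) := ⟨mem_Sp4.1 h1, h2⟩
    exact ⟨⟨g, this.det⟩, IsSz.mem this, Units.ext rfl⟩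

variable (F) in
/-- the two models of the Suzuki group are isomorphic -/
noncomputable def lieEquiv : Cfsg.Sz F m ≃* Lie.Sz F (2 ^ (m + 1)) :=
  ((Cfsg.Sz F m).equivMapOfInjective _ SpecialLinearGroup.toGL_injective).trans
    (MulEquiv.subgroupCongr map_toGL)

end Cfsg.Agent.H7.Suz
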