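import Cfsg.Agent.H7.Sz3

/-! The non-split tori of the Suzuki groups. -/

set_option autoImplicit false
set_option linter.unusedSectionVars false

open Matrix Cfsg Cfsg.Lie MulAction Subgroup Cfsg.Agent.H8 Module
open scoped MatrixGroups Pointwise commutatorElement

namespace Cfsg.Agent.H7

section LA
variable {F : Type*} [Field F] [Fintype F]

theorem card_modEq_ker {W : Type*} [AddCommGroup W] [Module F W] [Finite W] {p : ℕ}
    [Fact p.Prime] {T : End F W} (hT : T ^ p = 1) :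
    Nat.card W ≡ Nat.card (LinearMap.ker (T - 1)) [MOD p] := by
  classical
  haveI := Fintype.ofFinite W
  let f : End F W →* Function.End W := ⟨⟨fun S => (S : W → W), rfl⟩, fun _ _ => rfl⟩
  have := Equiv.Perm.card_fixedPoints_modEq (f := f T) (p := p) (n := 1) (by
    rw [pow_one, ← map_pow, hT, map_one])
  rw [Nat.card_eq_fintype_card]
  convert this using 1
  rw [← Nat.card_eq_fintype_card]
  exact Nat.card_congr (Equiv.subtypeEquivRight fun x => by
    rw [LinearMap.mem_ker, LinearMap.sub_apply, sub_eq_zero]; rfl)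

theorem dim_cases {p d : ℕ} (hp : p.Prime) (h2 : p ≠ 2) (hd : p ∣ Fintype.card F ^ 2 + 1)
    (h : Fintype.card F ^ d ≡ 1 [MOD p]) (h4 : d ≤ 4) : d = 0 ∨ d = 4 := by
  haveI := Fact.mk hp
  rw [← ZMod.natCast_eq_natCast_iff] at h
  rw [← ZMod.natCast_eq_zero_iff] at hd
  push_cast at h hd
  generalize (Fintype.card F : ZMod p) = x at h hd
  have h3 : (2 : ZMod p) ≠ 0 := fun e => h2 ((Nat.prime_dvd_prime_iff_eq hp Nat.prime_two).1
    ((ZMod.natCast_eq_zero_iff 2 p).1 e))
  interval_cases d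
  · exact Or.inl rfl
  · exact absurd (by linear_combination hd - (x + 1) * h) h3
  · exact absurd (by linear_combination hd - h) h3
  · exact absurd (by linear_combination (1 - x ^ 2 + x) * hd + (x - 1) * h) h3
  · exact Or.inr rfl

variable {A : Matrix (Fin 4) (Fin 4) F} {p : ℕ}

theorem irr_of_order (hp : p.Prime) (h2 : p ≠ 2) (hd : p ∣ Fintype.card F ^ 2 + 1)
    (hA : A ^ p = 1) (h1 : A ≠ 1) (W : Submodule F (Fin 4 → F)) (hW : ∀ v ∈ W, A *ᵥ v ∈ W) :
    W = ⊥ ∨ W = ⊤ := by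
  haveI := Fact.mk hp
  have hT : toLin' A ^ p = 1 := by rw [← toLin'_pow, hA, toLin'_one]; rfl
  have hle : ∀ W : Submodule F (Fin 4 → F), finrank F W ≤ 4 := fun W => by
    simpa using W.finrank_le
  have hcard : ∀ W : Submodule F (Fin 4 → F), Nat.card W = Fintype.card F ^ finrank F W :=
    fun W => by rw [Module.natCard_eq_pow_finrank (K := F), Nat.card_eq_fintype_card]
  have h4 : Fintype.card F ^ 4 ≡ 1 [MOD p] := by
    refine ((Nat.modEq_iff_dvd' (Nat.one_le_pow _ _ Fintype.card_pos)).2 ?_).symm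
    rw [show Fintype.card F ^ 4 - 1 = (Fintype.card F ^ 2 + 1) * (Fintype.card F ^ 2 - 1) by
      rw [← Nat.sq_sub_sq, ← pow_mul, one_pow]]
    exact hd.mul_right _
  have h0 : LinearMap.ker (toLin' A - 1) = ⊥ := by
    have := card_modEq_ker hT
    rw [hcard, Nat.card_pi, Finset.prod_const, Finset.card_univ, Fintype.card_fin,
      Nat.card_eq_fintype_card] at this
    rcases dim_cases hp h2 hd (this.symm.trans h4) (hle _) with e | e
    · exact Submodule.finrank_eq_zero.1 e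
    · have := Submodule.eq_top_of_finrank_eq (S := LinearMap.ker (toLin' A - 1)) (by simpa using e)
      rw [LinearMap.ker_eq_top, sub_eq_zero] at this
      exact absurd (toLin'.injective (by rw [this, toLin'_one]; rfl)) h1
  have hW' : ∀ v ∈ W, toLin' A v ∈ W := hW
  have := card_modEq_ker (T := (toLin' A).restrict hW') (p := p) (by
    ext v : 1
    apply Subtype.ext
    rw [End.pow_restrict, LinearMap.restrict_coe_apply, hT]; rfl)
  rw [show LinearMap.ker ((toLin' A).restrict hW' - 1) = ⊥ by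
    rw [eq_bot_iff]
    intro v hv
    have : (v : Fin 4 → F) ∈ LinearMap.ker (toLin' A - 1) := congrArg Subtype.val hv
    rw [h0] at this
    exact Subtype.ext this, hcard] at this
  rcases dim_cases hp h2 hd (by simpa using this) (hle _) with e | e
  · exact Or.inl (Submodule.finrank_eq_zero.1 e)
  · exact Or.inr (Submodule.eq_top_of_finrank_eq (by simpa using e))

theorem isField_centralizer (hp : p.Prime) (h2 : p ≠ 2) (hd : p ∣ Fintype.card F ^ 2 + 1)
    (hA : A ^ p = 1) (h1 : A ≠ 1) : IsField (Subalgebra.centralizer F {A}) := by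
  haveI : NoZeroDivisors (Subalgebra.centralizer F {A}) := ⟨fun {x y} e => by
    have hx : A * x = x * A := x.2 A rfl
    rcases irr_of_order hp h2 hd hA h1 (LinearMap.ker (toLin' x.1)) fun v hv => by
      rw [LinearMap.mem_ker, toLin'_apply] at hv ⊢
      rw [mulVec_mulVec, ← hx, ← mulVec_mulVec, hv, mulVec_zero] with h3 | h3
    · right
      apply Subtype.ext
      apply toLin'.injective
      refine LinearMap.ext fun v => ?_
      have : toLin' y.1 v ∈ LinearMap.ker (toLin' x.1) := by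
        rw [LinearMap.mem_ker, toLin'_apply, toLin'_apply, mulVec_mulVec,
          show x.1 * y.1 = 0 from congrArg Subtype.val e, zero_mulVec]
      rw [h3] at this
      simpa using this
    · left
      exact Subtype.ext (toLin'.injective (by simpa using LinearMap.ker_eq_top.1 h3))⟩
  haveI := NoZeroDivisors.to_isDomain (Subalgebra.centralizer F {A})
  exact Finite.isDomain_to_isField _

theorem la_main {G : Type*} [Group G] [Finite G] (ρ : G →* Matrix (Fin 4) (Fin 4) F)
    (hρ : Function.Injective ρ) {g : G} (hp : p.Prime) (h2 : p ≠ 2)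
    (hd : p ∣ Fintype.card F ^ 2 + 1) (hg : orderOf g = p) :
    IsCyclic (centralizer ({g} : Set G)) ∧
      Nat.card {x : G // IsConj g x ∧ x ∈ centralizer ({g} : Set G)} ≤ 4 := by
  classical
  have hK := isField_centralizer hp h2 hd (A := ρ g) (by rw [← map_pow, ← hg, pow_orderOf_eq_one, map_one])
    fun e => hp.ne_one (by rw [← hg, orderOf_eq_one_iff]; exact hρ (by rw [e, map_one]))
  letI := hK.toField
  have hm : ∀ x ∈ centralizer ({g} : Set G), ρ x ∈ Subalgebra.centralizer F {ρ g} := by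
    rintro x hx _ rfl
    rw [← map_mul, ← map_mul, mem_centralizer_singleton_iff.1 hx]
  let φ : centralizer ({g} : Set G) →* Subalgebra.centralizer F {ρ g} :=
    { toFun x := ⟨ρ x, hm x x.2⟩
      map_one' := Subtype.ext (map_one ρ)
      map_mul' x y := Subtype.ext (map_mul ρ _ _) }
  refine ⟨isCyclic_of_injective_ringHom φ fun x y e => Subtype.ext (hρ (congrArg Subtype.val e)), ?_⟩
  have h3 : (ρ g).charpoly ≠ 0 := (ρ g).charpoly_monic.ne_zero
  calc _ ≤ Nat.card ((ρ g).charpoly.rootSet (Subalgebra.centralizer F {ρ g})) := by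
        refine Nat.card_le_card_of_injective (fun x => ⟨⟨ρ x, hm x x.2.2⟩, ?_⟩) fun x y e =>
          Subtype.ext (hρ (congrArg (fun z => z.1.1) e))
        rw [Polynomial.mem_rootSet_of_ne h3]
        apply Subtype.ext
        rw [Polynomial.aeval_subalgebra_coe]
        obtain ⟨k, hk⟩ := isConj_iff.1 x.2.1
        have : (ρ x).charpoly = (ρ g).charpoly := by
          rw [← hk, map_mul, charpoly_mul_comm, ← map_mul, inv_mul_cancel_left]
        rw [← this]
        exact aeval_self_charpoly _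
    _ ≤ 4 := by
        rw [Nat.card_coe_set_eq]
        simpa using Polynomial.ncard_rootSet_le (ρ g).charpoly (Subalgebra.centralizer F {ρ g})

end LA

theorem two_tori {ι : Type*} {R : Finset ι} {a e : ι → ℕ} {q r : ℕ} (hr : 2 ≤ r) (hq : q = 2 * r ^ 2)
    (ha : ∀ i ∈ R, 5 ≤ a i) (he : ∀ i ∈ R, e i = 1 ∨ e i = 2 ∨ e i = 4)
    (hp : ∏ i ∈ R, a i = q ^ 2 + 1)
    (hs : ∑ i ∈ R, ((a i : ℚ) - 1) / (e i * a i) = 1 / 2 - (q + 1) / (2 * (q ^ 2 + 1))) :
    (∀ i ∈ R, e i = 4) ∧ ∃ i j, (∀ k, k ∈ R ↔ k = i ∨ k = j) ∧ a i = q + 2 * r + 1 ∧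
      a j + 2 * r = q + 1 := by
  classical
  have hq8 : 8 ≤ q := by nlinarith
  have hq' : (8 : ℚ) ≤ q := by exact_mod_cast hq8
  have hlt : ∑ i ∈ R, ((a i : ℚ) - 1) / (e i * a i) < 1 / 2 := by
    rw [hs]; have : (0 : ℚ) < (q + 1) / (2 * (q ^ 2 + 1)) := by positivity
    linarith
  have t1 : ∀ i ∈ R, 1 / 5 ≤ ((a i : ℚ) - 1) / (e i * a i) ∧
      (e i ≠ 4 → 2 / 5 ≤ ((a i : ℚ) - 1) / (e i * a i)) := fun i hi => by
    have h5 : (5 : ℚ) ≤ a i := by exact_mod_cast ha i hi
    rcases he i hi with e | e | e <;> rw [e] <;> push_cast <;>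
      refine ⟨?_, fun h => ?_⟩ <;> first | exact absurd rfl h | (rw [le_div_iff₀ (by positivity)]; linarith)
  have hc : R.card ≤ 2 := by
    have := Finset.card_nsmul_le_sum R _ _ fun i hi => (t1 i hi).1
    rw [nsmul_eq_mul] at this
    have h3 : (R.card : ℚ) < 3 := by linarith
    exact_mod_cast Nat.lt_succ_iff.1 (show R.card < 3 by exact_mod_cast h3)
  rcases hc.lt_or_eq with hc | hc
  · exfalso
    rcases (Nat.lt_succ_iff.1 hc).lt_or_eq with hc | hc
    · rw [Nat.lt_one_iff, Finset.card_eq_zero] at hc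
      rw [hc, Finset.prod_empty] at hp
      nlinarith
    · obtain ⟨i, rfl⟩ := Finset.card_eq_one.1 hc
      rw [Finset.prod_singleton] at hp
      rw [Finset.sum_singleton, hp] at hs
      push_cast at hs
      rcases he i (by simp) with e | e | e <;> rw [e] at hs <;> push_cast at hs <;>
        field_simp at hs <;> nlinarith
  obtain ⟨i, j, hij, rfl⟩ := Finset.card_eq_two.1 hc
  rw [Finset.sum_pair hij] at hs hlt
  rw [Finset.prod_pair hij] at hp
  have ti := t1 i (by simp)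
  have tj := t1 j (by simp)
  have ei : e i = 4 := by by_contra h; linarith [ti.2 h, tj.1]
  have ej : e j = 4 := by by_contra h; linarith [tj.2 h, ti.1]
  have hi : (5 : ℚ) ≤ a i := by exact_mod_cast ha i (by simp)
  have hj : (5 : ℚ) ≤ a j := by exact_mod_cast ha j (by simp)
  have hp' : (a i : ℚ) * a j = q ^ 2 + 1 := by exact_mod_cast hp
  have hsum : (a i : ℚ) + a j = 2 * q + 2 := by
    rw [ei, ej, ← hp'] at hs
    push_cast at hs
    field_simp at hs
    linarith
  have hsum' : a i + a j = 2 * q + 2 := by exact_mod_cast hsum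
  have hq2 : (q : ℚ) = 2 * r ^ 2 := by exact_mod_cast hq
  have hf : ((a i : ℚ) - (q + 2 * r + 1)) * (a i + 2 * r - (q + 1)) = 0 := by
    linear_combination (a i : ℚ) * hsum - hp' + 2 * hq2
  refine ⟨by simp [ei, ej], ?_⟩
  rcases mul_eq_zero.1 hf with h | h
  · have : a i = q + 2 * r + 1 := by exact_mod_cast sub_eq_zero.1 h
    exact ⟨i, j, by simp, this, by omega⟩
  · have : a i + 2 * r = q + 1 := by exact_mod_cast sub_eq_zero.1 h
    exact ⟨j, i, by simp [or_comm], by omega, this⟩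

namespace Suz
variable {F : Type*} [Field F] [Fintype F] {m : ℕ} [h : SzF F m]
include h

theorem matHom_inj : Function.Injective (matHom F (m := m)) := fun _ _ e => mat_inj e

theorem exists_prime_pow {g : Sz F m} (hg : Fpf (suzukiOvoid F m) g) :
    ∃ k p : ℕ, p.Prime ∧ p ≠ 2 ∧ p ∣ Fintype.card F ^ 2 + 1 ∧ orderOf (g ^ k) = p := by
  haveI : Nonempty (suzukiOvoid F m) := ⟨inf F⟩
  have h1 := zt.dvd_of_fpf hg
  obtain ⟨p, hp, h2⟩ := Nat.exists_prime_and_dvd (n := orderOf g)
    fun e => hg.ne_one (orderOf_eq_one_iff.1 e)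
  refine ⟨orderOf g / p, p, hp, ?_, card_QQ (F := F) ▸ h2.trans h1,
    orderOf_pow_orderOf_div (orderOf_pos g).ne' h2⟩
  rintro rfl
  exact (Nat.not_even_iff_odd.2 zt.even.add_one) (even_iff_two_dvd.2 (h2.trans h1))

theorem ztt : ZTT (inf F) (zer F) (QQ F) where
  toZT := zt
  ab g hg x y hx hy := by
    obtain ⟨k, p, hp, h2, h3, h4⟩ := exists_prime_pow hg
    haveI := (la_main (matHom F) matHom_inj hp h2 h3 h4).1
    exact congrArg Subtype.val (mul_comm' (⟨x, mem_centralizer_singleton_iff.2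
      (Commute.pow_right hx k).eq⟩ : centralizer {g ^ k})
      ⟨y, mem_centralizer_singleton_iff.2 (Commute.pow_right hy k).eq⟩)

variable {A : Subgroup (Sz F m)}

theorem tor_aux (hA : Tor (suzukiOvoid F m) A) : IsCyclic A ∧ ZTT.ee A ≤ 4 := by
  obtain ⟨g, hg, e⟩ := id hA
  obtain ⟨k, p, hp, h2, h3, h4⟩ := exists_prime_pow hg
  have h5 : g ^ k ∈ A := A.pow_mem (e ▸ mem_centralizer_singleton_iff.2 rfl) k
  have h6 : g ^ k ≠ 1 := fun e => hp.ne_one (by rw [← h4, e, orderOf_one])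
  have := la_main (matHom F) matHom_inj hp h2 h3 h4
  have h7 := card_conj_mem (g ^ k) (· ∈ A)
  rw [ztt.cent hA h5 h6] at this h7
  refine ⟨this.1, Nat.le_of_mul_le_mul_right ?_ (Nat.card_pos (α := A))⟩
  rw [← ZTT.card_normalizer, Nat.card_congr (Equiv.subtypeEquivRight (q := fun x => x * g ^ k * x⁻¹ ∈ A)
    fun x => ⟨fun hx => conj_mem_of_mem_normalizer hx h5, ztt.mem_normalizer hA h5 h6⟩), h7]
  exact Nat.mul_le_mul_right _ this.2

theorem tor_cyclic (hA : Tor (suzukiOvoid F m) A) : IsCyclic A := (tor_aux hA).1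

theorem q_mod_three : Fintype.card F % 3 = 2 := by
  rw [h.hF, pow_succ, pow_mul, Nat.mul_mod, Nat.pow_mod]; simp

theorem not_three_dvd : ¬ 3 ∣ Nat.card (Sz F m) := by
  rw [card_G]
  have h1 := q_mod_three (F := F)
  obtain ⟨k, hk⟩ : ∃ k, Fintype.card F = 3 * k + 2 := ⟨Fintype.card F / 3, by omega⟩
  rw [hk, show 3 * k + 2 - 1 = 3 * k + 1 by omega,
    show (3 * k + 2) ^ 2 * ((3 * k + 2) ^ 2 + 1) * (3 * k + 1) =
      3 * (6 + 56 * k + 183 * k ^ 2 + 297 * k ^ 3 + 243 * k ^ 4 + 81 * k ^ 5) + 2 by ring]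
  omega

theorem q_eq : Fintype.card F = 2 * (2 ^ m) ^ 2 := by rw [h.hF]; ring

theorem two_le_r : 2 ≤ 2 ^ m := by
  calc 2 = 2 ^ 1 := rfl
    _ ≤ _ := Nat.pow_le_pow_right (by norm_num) h.hm

theorem five_le (hA : Tor (suzukiOvoid F m) A) : 5 ≤ Nat.card A := by
  haveI : Nonempty (suzukiOvoid F m) := ⟨inf F⟩
  have h1 := ztt.odd_card hA
  have h2 : Nat.card A ≠ 1 := fun e => hA.ne_bot (eq_bot_of_card_eq _ e)
  have h3 : Nat.card A ≠ 3 := fun e => not_three_dvd (e ▸ A.card_subgroup_dvd_card)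
  obtain ⟨k, hk⟩ := h1
  omega

theorem tori_main : (∀ A : Subgroup (Sz F m), Tor (suzukiOvoid F m) A → ZTT.ee A = 4) ∧
    ∃ A₁ A₂ : Subgroup (Sz F m), Tor (suzukiOvoid F m) A₁ ∧ Tor (suzukiOvoid F m) A₂ ∧
      Nat.card A₁ = Fintype.card F + 2 * 2 ^ m + 1 ∧ Nat.card A₂ + 2 * 2 ^ m = Fintype.card F + 1 ∧
      ∀ A : Subgroup (Sz F m), Tor (suzukiOvoid F m) A →
        (∃ g, A = cj A₁ g) ∨ ∃ g, A = cj A₂ g := by
  classical
  obtain ⟨R, hR⟩ := ZTT.exists_Reps (G := Sz F m) (Ω := suzukiOvoid F m)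
  have h8 : (8 : ℚ) ≤ Fintype.card F := by exact_mod_cast eight_le
  obtain ⟨h1, A₁, A₂, h2, h3, h4⟩ := two_tori (R := R) (a := fun A => Nat.card A) (e := ZTT.ee)
    (two_le_r (F := F)) q_eq (fun A hA => five_le (hR.tor A hA)) (fun A hA => by
      have h1 := (tor_aux (hR.tor A hA)).2
      have h2 := ZTT.ee_pos A
      have h3 : ZTT.ee A ≠ 3 := fun e => not_three_dvd ((e ▸ Dvd.intro _
        (ZTT.card_normalizer A).symm).trans (normalizer _).card_subgroup_dvd_card)
      omega) (by rw [ztt.prod_reps hR, card_QQ]) (by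
      rw [ztt.class_eq hR, card_QQ, card_HH, Nat.cast_sub Fintype.card_pos]
      push_cast
      have : (Fintype.card F : ℚ) - 1 ≠ 0 := by linarith
      field_simp
      ring)
  refine ⟨fun A hA => ?_, A₁, A₂, hR.tor _ ((h2 _).2 (Or.inl rfl)), hR.tor _ ((h2 _).2 (Or.inr rfl)),
    h3, h4, fun A hA => ?_⟩
  · obtain ⟨B, hB, g, rfl⟩ := hR.ex A hA
    apply Nat.eq_of_mul_eq_mul_right (Nat.card_pos (α := cj B g))
    rw [← ZTT.card_normalizer, ← cj_normalizer, card_cj, card_cj, ZTT.card_normalizer, h1 B hB]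
  · obtain ⟨B, hB, g, rfl⟩ := hR.ex A hA
    rcases (h2 B).1 hB with rfl | rfl
    · exact Or.inl ⟨g, rfl⟩
    · exact Or.inr ⟨g, rfl⟩

theorem card_normalizer_tor (hA : Tor (suzukiOvoid F m) A) :
    Nat.card (normalizer (A : Set (Sz F m))) = 4 * Nat.card A := by
  rw [ZTT.card_normalizer, tori_main.1 A hA]

theorem card_tor (hA : Tor (suzukiOvoid F m) A) : Nat.card A = Fintype.card F + 2 * 2 ^ m + 1 ∨
    Nat.card A + 2 * 2 ^ m = Fintype.card F + 1 := by
  obtain ⟨A₁, A₂, -, -, h1, h2, hR⟩ := (tori_main (F := F)).2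
  rcases hR A hA with ⟨g, rfl⟩ | ⟨g, rfl⟩ <;> rw [card_cj]
  · exact Or.inl h1
  · exact Or.inr h2

end Suz

end Cfsg.Agent.H7
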