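import Cfsg.Agent.H7.ZT4
import Cfsg.Agent.H3.FS
import Cfsg.Prelude.Def_DegreeGraph

/-! Consequences of the character table of groups of Suzuki type. -/

set_option autoImplicit false
set_option linter.unusedSectionVars false

open Cfsg MulAction Subgroup Cfsg.Agent.H8 Cfsg.Agent.H3 Cfsg.Agent.PF
open scoped ComplexConjugate Classical

namespace Cfsg.Agent.H7

variable {G Ω : Type*} [Group G] [MulAction G Ω] {a b : Ω} {Q A A₁ A₂ : Subgroup G}
variable [Fintype G] [Finite Ω] {χ W α : G → ℂ} {σ ρ g x : G} {r : ℕ}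

/-- terms of the class multiplication formula -/
noncomputable def trm (x g : G) (χ : G → ℂ) : ℂ := χ x * χ x * conj (χ g) / χ 1

theorem trm_ge {B d : ℝ} (hg : ‖χ g‖ ≤ B) (h1 : χ 1 = d) (hd : 0 < d) :
    -(‖χ x‖ ^ 2 * (B / d)) ≤ (trm x g χ).re := by
  refine neg_le.1 ((Complex.neg_re _).symm.trans_le ((Complex.re_le_norm _).trans ?_))
  rw [norm_neg, trm, norm_div, norm_mul, norm_mul, Complex.norm_conj, h1, Complex.norm_real,
    Real.norm_of_nonneg hd.le, ← sq, mul_div_assoc]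
  gcongr

theorem trm_pos {c : ℝ} (hc : ∀ χ, IsIrrCharacter G χ → χ ≠ (fun _ => 1) → χ x ≠ 0 →
    ∃ B d : ℝ, ‖χ g‖ ≤ B ∧ χ 1 = d ∧ 0 < d ∧ B / d ≤ c)
    (h1 : c * (Nat.card (centralizer {x}) - 1) < 1) :
    0 < ∑ χ : IrrCharacter G, (trm x g χ).re := by
  have h2 := sum_irr_norm_sq x
  rw [← Finset.add_sum_erase _ _ (Finset.mem_univ ⟨_, isIrrCharacter_one⟩)] at h2 ⊢
  have h3 := Finset.sum_le_sum (s := Finset.univ.erase ⟨_, isIrrCharacter_one⟩)
    (f := fun χ : IrrCharacter G => -(‖χ.1 x‖ ^ 2 * c)) (g := fun χ => (trm x g χ).re) fun χ hχ => by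
      by_cases e : χ.1 x = 0
      · simp [trm, e]
      · obtain ⟨B, d, e1, e2, e3, e4⟩ := hc χ χ.2 (fun e => Finset.ne_of_mem_erase hχ (Subtype.ext e)) e
        exact le_trans (by gcongr) (trm_ge e1 e2 e3)
  rw [Finset.sum_neg_distrib, ← Finset.sum_mul] at h3
  simp only [trm, norm_one, map_one, one_pow, mul_one, div_one, Complex.one_re] at h2 h3 ⊢
  rw [← h2] at h1
  linarith

open ZO ZTT

theorem SzT.rep (h : SzT a b Q A₁ A₂ σ ρ r) (hg : g ≠ 1) : ∃ y, IsConj y g ∧ y ≠ 1 ∧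
    (y = σ ∨ (y = ρ ∨ y = ρ⁻¹) ∨ y ∈ St G a b ∨ y ∈ A₁ ∨ y ∈ A₂) := by
  have h1 : ∀ y, IsConj y g → y ≠ 1 := fun y e e' => hg (isConj_one_right.1 (e' ▸ e))
  have h2 : ∀ x : G, IsConj (x⁻¹ * g * x) g := fun x => isConj_iff.2 ⟨x, by group⟩
  have h3 : ∀ x : G, IsConj (x * g * x⁻¹) g := fun x => isConj_iff.2 ⟨x⁻¹, by group⟩
  rcases h.tri g with ⟨x, hx⟩ | ⟨x, hx⟩ | hf
  · rcases h.cls _ (mem_cj.1 hx) with e | e | e | e
    · exact absurd e (h1 _ (h2 x))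
    all_goals exact ⟨_, e.trans (h2 x), h1 _ (e.trans (h2 x)), by simp⟩
  · exact ⟨_, h2 x, h1 _ (h2 x), by simp only [mem_cj.1 hx, true_or, or_true]⟩
  · rcases h.cov g hf with ⟨x, hx⟩ | ⟨x, hx⟩ <;> exact ⟨_, h3 x, h1 _ (h3 x), by simp [hx]⟩

namespace Tab

theorem sum_re (t : Tab a b Q A₁ A₂ σ ρ r W) (f : (G → ℂ) → ℝ) :
    ∑ χ : IrrCharacter G, f χ = f (fun _ => 1) + f (stb G a) +
    ∑ χ ∈ PSs a b Q, f χ + (f W + f (fun g => conj (W g)) +
      (∑ α ∈ Al A₁, f (be a α - WW W) + ∑ α ∈ Al A₂, f (be a α + WW W))) := by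
  exact_mod_cast t.sum fun χ => f χ

theorem cases (t : Tab a b Q A₁ A₂ σ ρ r W) (hχ : IsIrrCharacter G χ) :
    χ = (fun _ => 1) ∨ χ = stb G a ∨ PS a b Q χ ∨ χ = W ∨ χ = (fun g => conj (W g)) ∨
      (∃ α ∈ Al A₁, χ = be a α - WW W) ∨ ∃ α ∈ Al A₂, χ = be a α + WW W := by
  by_contra! h
  have := t.sum fun ψ => if χ = ψ then 1 else 0
  rw [Finset.sum_eq_single ⟨χ, hχ⟩ (fun ψ _ e => if_neg fun e' => e (Subtype.ext e'.symm)) (by simp),
    Finset.sum_eq_zero fun ψ hψ => if_neg fun e : χ = ψ.1 => h.2.2.1 (e ▸ mem_PSs.1 hψ),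
    Finset.sum_eq_zero fun α hα => if_neg (h.2.2.2.2.2.1 α hα),
    Finset.sum_eq_zero fun α hα => if_neg (h.2.2.2.2.2.2 α hα)] at this
  simp [h] at this

variable (h : SzT a b Q A₁ A₂ σ ρ r) (t : Tab a b Q A₁ A₂ σ ρ r W)
include h t

theorem WW_one : WW W 1 = 2 * (r * (2 * r ^ 2 - 1)) := by simp [WW, t.one, two_mul]

theorem WW_σ : WW W σ = -(2 * r) := by simp [WW, t.atσ, two_mul]

theorem WW_ρ (hg : g = ρ ∨ g = ρ⁻¹) : WW W g = 0 := by
  rcases hg with rfl | rfl <;> simp [WW, t.irr.apply_inv, t.cjρ]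

theorem W_ρ (hg : g = ρ ∨ g = ρ⁻¹) : W g * W g = -r ^ 2 := by
  rcases hg with rfl | rfl <;> simp [t.irr.apply_inv, t.cjρ, ← sq, t.atρ]

theorem W_St (hg : g ∈ St G a b) (h1 : g ≠ 1) : W g = 0 := h.cusp_St t.irr.isCharacter t.cusp hg h1

theorem Y_one (hα : α ∈ Al A₁) :
    (be a α - WW W) 1 = (((2 * r ^ 2 - 1) * (2 * r ^ 2 - 2 * r + 1) : ℝ) : ℂ) := by
  rw [Pi.sub_apply, h.be_one (Finset.mem_union_left _ hα), t.WW_one h]; push_cast; ring

theorem Z_one (hα : α ∈ Al A₂) :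
    (be a α + WW W) 1 = (((2 * r ^ 2 - 1) * (2 * r ^ 2 + 2 * r + 1) : ℝ) : ℂ) := by
  rw [Pi.add_apply, h.be_one (Finset.mem_union_right _ hα), t.WW_one h]; push_cast; ring

theorem Y_σ (hα : α ∈ Al A₁) : (be a α - WW W) σ = ((2 * r - 1 : ℝ) : ℂ) := by
  rw [Pi.sub_apply, h.be_Q (Finset.mem_union_left _ hα) h.σQ h.σ1, t.WW_σ h]; push_cast; ring

theorem Z_σ (hα : α ∈ Al A₂) : (be a α + WW W) σ = -((2 * r + 1 : ℝ) : ℂ) := by
  rw [Pi.add_apply, h.be_Q (Finset.mem_union_right _ hα) h.σQ h.σ1, t.WW_σ h]; push_cast; ring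

omit t in
theorem ρQ (hg : g = ρ ∨ g = ρ⁻¹) : g ∈ Q ∧ g ≠ 1 := by
  rcases hg with rfl | rfl <;> simp [h.ρQ, h.ρ1]

theorem Y_ρ (hα : α ∈ Al A₁) (hg : g = ρ ∨ g = ρ⁻¹) : (be a α - WW W) g = -1 := by
  rw [Pi.sub_apply, h.be_Q (Finset.mem_union_left _ hα) (ρQ h hg).1 (ρQ h hg).2, t.WW_ρ h hg,
    sub_zero]

theorem Z_ρ (hα : α ∈ Al A₂) (hg : g = ρ ∨ g = ρ⁻¹) : (be a α + WW W) g = -1 := by
  rw [Pi.add_apply, h.be_Q (Finset.mem_union_right _ hα) (ρQ h hg).1 (ρQ h hg).2, t.WW_ρ h hg,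
    add_zero]

theorem Y_St (hα : α ∈ Al A₁) (hg : g ∈ St G a b) (h1 : g ≠ 1) : (be a α - WW W) g = 0 := by
  simp [h.be_St (Finset.mem_union_left _ hα) hg h1, WW, t.W_St h hg h1]

theorem Z_St (hα : α ∈ Al A₂) (hg : g ∈ St G a b) (h1 : g ≠ 1) : (be a α + WW W) g = 0 := by
  simp [h.be_St (Finset.mem_union_right _ hα) hg h1, WW, t.W_St h hg h1]

theorem Y_2 (hα : α ∈ Al A₁) (hg : g ∈ A₂) (h1 : g ≠ 1) : (be a α - WW W) g = 0 := by
  simp [be, h.zero12 hα hg, WW, t.at2 g hg h1, stb_fpf (h.fpf h.t2 hg h1)]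

theorem Z_1 (hα : α ∈ Al A₂) (hg : g ∈ A₁) (h1 : g ≠ 1) : (be a α + WW W) g = 0 := by
  simp [be, h.zero21 hα hg, WW, t.at1 g hg h1, stb_fpf (h.fpf h.t1 hg h1)]

theorem sum_Y (hg : g ∈ A₁) (h1 : g ≠ 1) :
    ∑ α ∈ Al A₁, ‖(be a α - WW W) g‖ ^ 2 = 2 * r ^ 2 + 2 * r - 3 := by
  have := t.sum_re fun χ => ‖χ g‖ ^ 2
  rw [sum_irr_norm_sq, h.cent h.t1 hg h1, h.c1, Finset.sum_eq_zero fun θ hθ => by
    simp [(mem_PSs.1 hθ).fpf g (h.fpf h.t1 hg h1)], Finset.sum_eq_zero (s := Al A₂) fun α hα => by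
    simp [t.Z_1 h hα hg h1], stb_fpf (h.fpf h.t1 hg h1), t.at1 g hg h1] at this
  simp only [norm_one, norm_neg, map_one, t.at1 g hg h1] at this
  push_cast at this
  linarith

theorem bounds (hg : g ≠ 1) : ‖stb G a g‖ ≤ 1 ∧ (∀ θ, IsClassFunction G θ → PS a b Q θ → ‖θ g‖ ≤ 2) ∧
    ‖W g‖ ≤ r ∧ (∀ α ∈ Al A₁, ‖(be a α - WW W) g‖ ≤ 2 * r - 1) ∧
    (∀ α ∈ Al A₂, ‖(be a α + WW W) g‖ ≤ 2 * r + 1) ∧ (WW W g).re ≤ 2 ∧ (-2 ≤ (WW W g).re ∨
      (WW W g).re = -(2 * r) ∧ ∀ α ∈ Al A₁, (be a α - WW W) g = ((2 * r - 1 : ℝ) : ℂ)) := by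
  obtain ⟨y, hy, h1, hc⟩ := h.rep hg
  have r2 : (2 : ℝ) ≤ r := by exact_mod_cast h.r2
  have e1 : ∀ α ∈ Al A₁, (be a α - WW W) g = (be a α - WW W) y := fun α hα =>
    ((t.irr1 α hα).isClassFunction.eq_of_isConj hy).symm
  have e2 : ∀ α ∈ Al A₂, (be a α + WW W) g = (be a α + WW W) y := fun α hα =>
    ((t.irr2 α hα).isClassFunction.eq_of_isConj hy).symm
  rw [← h.stb_irr.isClassFunction.eq_of_isConj hy, ← t.irr.isClassFunction.eq_of_isConj hy,
    ← (WW_gen t.irr).isClassFunction.eq_of_isConj hy]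
  simp +contextual only [e1, e2, fun θ (hθ : IsClassFunction G θ) => (hθ.eq_of_isConj hy).symm]
  clear e1 e2 hy hg
  rcases hc with rfl | hc | hc | hc | hc
  · refine ⟨by simp [h.stb_Q h.σQ h1], fun θ _ p => by simp [p.onQ _ h.σQ h1], by simp [t.atσ],
      fun α hα => ?_, fun α hα => ?_, ?_, Or.inr ⟨by simp [t.WW_σ h], fun α => t.Y_σ h⟩⟩
    · rw [t.Y_σ h hα, Complex.norm_real, Real.norm_of_nonneg (by linarith)]
    · rw [t.Z_σ h hα, norm_neg, Complex.norm_real, Real.norm_of_nonneg (by linarith)]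
    · simp [t.WW_σ h]; linarith
  · refine ⟨by simp [h.stb_Q (ρQ h hc).1 h1], fun θ _ p => by simp [p.onQ _ (ρQ h hc).1 h1], ?_,
      fun α hα => ?_, fun α hα => ?_, by simp [t.WW_ρ h hc], Or.inl (by simp [t.WW_ρ h hc])⟩
    · have := congrArg norm (t.W_ρ h hc)
      simp only [norm_mul, norm_neg, norm_pow, Complex.norm_natCast] at this
      nlinarith [norm_nonneg (W y)]
    · simp [t.Y_ρ h hα hc]; linarith
    · simp [t.Z_ρ h hα hc]
  · refine ⟨by simp [h.stb_St hc h1], fun θ _ p => p.onH _ hc h1, by simp [t.W_St h hc h1],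
      fun α hα => ?_, fun α hα => ?_, by simp [WW, t.W_St h hc h1],
      Or.inl (by simp [WW, t.W_St h hc h1])⟩
    · simp [t.Y_St h hα hc h1]; linarith
    · simp [t.Z_St h hα hc h1]; linarith
  · have hf := h.fpf h.t1 hc h1
    refine ⟨by simp [stb_fpf hf], fun θ _ p => by simp [p.fpf _ hf], by simp [t.at1 _ hc h1]; linarith [h.r2],
      fun α hα => ?_, fun α hα => ?_, by norm_num [WW, t.at1 _ hc h1],
      Or.inl (by norm_num [WW, t.at1 _ hc h1])⟩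
    · have := Finset.single_le_sum (f := fun α => ‖(be a α - WW W) y‖ ^ 2)
        (fun _ _ => sq_nonneg _) hα
      rw [t.sum_Y h hc h1] at this
      exact (sq_le_sq₀ (norm_nonneg _) (by linarith)).1 (by nlinarith)
    · simp [t.Z_1 h hα hc h1]; linarith
  · have hf := h.fpf h.t2 hc h1
    refine ⟨by simp [stb_fpf hf], fun θ _ p => by simp [p.fpf _ hf], by simp [t.at2 _ hc h1]; linarith [h.r2],
      fun α hα => ?_, fun α hα => ?_, by norm_num [WW, t.at2 _ hc h1],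
      Or.inl (by norm_num [WW, t.at2 _ hc h1])⟩
    · simp [t.Y_2 h hα hc h1]; linarith
    · have := Finset.single_le_sum (f := fun χ : IrrCharacter G => ‖χ.1 y‖ ^ 2)
        (fun _ _ => sq_nonneg _) (Finset.mem_univ ⟨_, t.irr2 α hα⟩)
      rw [sum_irr_norm_sq, h.cent h.t2 hc h1] at this
      have e : (Nat.card A₂ + 2 * r : ℝ) = 2 * r ^ 2 + 1 := by exact_mod_cast h.c2
      exact (sq_le_sq₀ (norm_nonneg _) (by linarith)).1 (by nlinarith)

theorem pos (hx : 2 < orderOf x) (hg : g ≠ 1) : 0 < ∑ χ : IrrCharacter G, (trm x g χ).re := by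
  obtain ⟨y, hy, h1, hc⟩ := h.rep (g := x) (by rintro rfl; simp at hx)
  have e0 : orderOf y = orderOf x := by
    obtain ⟨c, rfl⟩ := isConj_iff.1 hy
    exact ((MulAut.conj c).orderOf_eq y).symm
  rw [Finset.sum_congr rfl (g := fun χ : IrrCharacter G => (trm y g χ).re) fun χ _ => by
    simp only [trm, χ.2.isClassFunction.eq_of_isConj hy]]
  rw [← e0] at hx
  clear e0 hy
  obtain ⟨b1, b2, b3, b4, b5, b6, b7⟩ := t.bounds h hg
  have r2 : (2 : ℝ) ≤ r := by exact_mod_cast h.r2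
  obtain ⟨s, hs, rs⟩ : ∃ s : ℝ, 0 ≤ s ∧ (r : ℝ) = s + 2 := ⟨r - 2, by linarith, by ring⟩
  have p1 : (0 : ℝ) < 2 * r ^ 2 - 1 := by nlinarith
  have p2 : (0 : ℝ) < 2 * r ^ 2 - 2 * r + 1 := by nlinarith
  have p3 : (0 : ℝ) < 2 * r ^ 2 + 2 * r + 1 := by nlinarith
  have d1 : stb G a 1 = (((2 * r ^ 2) ^ 2 : ℝ) : ℂ) := by rw [h.stb_one, h.cQ]; push_cast; rfl
  have d2 : ∀ θ, PS a b Q θ → θ 1 = (((2 * r ^ 2) ^ 2 + 1 : ℝ) : ℂ) := fun θ p => by
    rw [p.one, h.cQ]; push_cast; rfl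
  have d3 : W 1 = ((r * (2 * r ^ 2 - 1) : ℝ) : ℂ) := by rw [t.one]; push_cast; rfl
  have w : ∀ c : ℝ, W y * W y = c → (trm y g W).re + (trm y g fun g => conj (W g)).re =
      c * (WW W g).re / (r * (2 * r ^ 2 - 1)) := fun c e => by
    simp only [trm, ← map_mul, e, d3, Complex.conj_ofReal, Complex.conj_conj, Complex.div_ofReal_re,
      Complex.re_ofReal_mul, WW, Pi.add_apply, Complex.add_re]
    ring
  have q1 : 1 / ((2 * r ^ 2) ^ 2 : ℝ) ≤ 1 / 64 := by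
    have : (4 : ℝ) ≤ r ^ 2 := by nlinarith
    gcongr; nlinarith
  rcases hc with rfl | hc | hc | hc | hc
  · have := orderOf_le_of_pow_eq_one two_pos ((sq y).trans h.σ2)
    omega
  · have u1 := Finset.sum_le_sum (s := PSs a b Q) fun θ hθ =>
      trm_ge (x := y) (b2 _ θ.2.isClassFunction (mem_PSs.1 hθ)) (d2 _ (mem_PSs.1 hθ)) (by positivity)
    have u2 := Finset.sum_le_sum fun α hα => trm_ge (x := y) (b4 α hα) (t.Y_one h hα) (by positivity)
    have u3 := Finset.sum_le_sum fun α hα => trm_ge (x := y) (b5 α hα) (t.Z_one h hα) (by positivity)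
    rw [Finset.sum_congr rfl fun θ hθ => by rw [(mem_PSs.1 hθ).onQ _ (ρQ h hc).1 h1]] at u1
    rw [Finset.sum_congr rfl fun α hα => by rw [t.Y_ρ h hα hc]] at u2
    rw [Finset.sum_congr rfl fun α hα => by rw [t.Z_ρ h hα hc]] at u3
    have n1 : ((Al A₁).card : ℝ) = (r ^ 2 + r) / 2 := by
      have : (2 * (Al A₁).card : ℝ) = r ^ 2 + r := by exact_mod_cast h.n1
      linarith
    have n2 : ((Al A₂).card : ℝ) = (r ^ 2 - r) / 2 := by
      have : (2 * (Al A₂).card + r : ℝ) = r ^ 2 := by exact_mod_cast h.n2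
      linarith
    have nP : ((PSs a b Q).card : ℝ) = r ^ 2 - 1 := by
      have : ((PSs a b Q).card + 1 : ℝ) = r ^ 2 := by exact_mod_cast h.nP
      linarith
    simp only [Finset.sum_const, nsmul_eq_mul, norm_one, norm_neg, one_pow, one_mul, n1, n2, nP,
      mul_neg, ← mul_div_assoc] at u1 u2 u3
    rw [t.sum_re fun χ => (trm y g χ).re, w (-r ^ 2) (by rw [t.W_ρ h hc]; simp)]
    have v1 : (r ^ 2 - 1 : ℝ) * 2 / ((2 * r ^ 2) ^ 2 + 1) ≤ 1 / 10 := by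
      rw [div_le_div_iff₀ (by positivity) (by positivity), rs, ← sub_nonneg]; ring_nf; positivity
    have v2 : (r ^ 2 + r : ℝ) / 2 * (2 * r - 1) / ((2 * r ^ 2 - 1) * (2 * r ^ 2 - 2 * r + 1)) ≤
        9 / 35 := by
      rw [div_le_div_iff₀ (by positivity) (by positivity), rs, ← sub_nonneg]; ring_nf; positivity
    have v3 : (r ^ 2 - r : ℝ) / 2 * (2 * r + 1) / ((2 * r ^ 2 - 1) * (2 * r ^ 2 + 2 * r + 1)) ≤
        1 / 16 := by
      rw [div_le_div_iff₀ (by positivity) (by positivity), rs, ← sub_nonneg]; ring_nf; positivity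
    have v4 : -(4 / 7 : ℝ) ≤ -r ^ 2 * (WW W g).re / (r * (2 * r ^ 2 - 1)) := by
      rw [le_div_iff₀ (by positivity)]
      have : (0 : ℝ) ≤ 4 / 7 * (r * (2 * r ^ 2 - 1)) - r ^ 2 * 2 := by
        rw [rs]; ring_nf; positivity
      nlinarith
    have v5 : trm y g (stb G a) = 0 := by simp [trm, h.stb_Q (ρQ h hc).1 h1]
    simp only [v5, Complex.zero_re, show trm y g (fun _ => 1) = 1 by simp [trm], Complex.one_re]
    linarith
  · refine trm_pos (c := 2 / ((2 * r ^ 2) ^ 2 + 1)) (fun χ hχ e1 e2 => ?_) ?_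
    · rcases t.cases hχ with rfl | rfl | p | rfl | rfl | ⟨α, hα, rfl⟩ | ⟨α, hα, rfl⟩
      · exact absurd rfl e1
      · refine ⟨_, _, b1, d1, by positivity, ?_⟩
        rw [div_le_div_iff₀ (by positivity) (by positivity)]; nlinarith
      · exact ⟨_, _, b2 _ hχ.isClassFunction p, d2 _ p, by positivity, le_rfl⟩
      · exact absurd (t.W_St h hc h1) e2
      · simp [t.W_St h hc h1] at e2
      · exact absurd (t.Y_St h hα hc h1) e2
      · exact absurd (t.Z_St h hα hc h1) e2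
    · have e : (Nat.card (St G a b) + 1 : ℝ) = 2 * r ^ 2 := by exact_mod_cast h.cH
      rw [h.centralizer_St hc h1, div_mul_eq_mul_div, div_lt_one (by positivity)]
      nlinarith
  · have hf := h.fpf h.t1 hc h1
    have u1 := trm_ge (x := y) b1 d1 (by positivity)
    rw [stb_fpf hf, norm_neg, norm_one, one_pow, one_mul] at u1
    rw [t.sum_re fun χ => (trm y g χ).re, w 1 (by simp [t.at1 y hc h1]), Finset.sum_eq_zero
      fun θ hθ => by simp [trm, (mem_PSs.1 hθ).fpf _ hf], Finset.sum_eq_zero (s := Al A₂)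
      fun α hα => by simp only [trm, t.Z_1 h hα hc h1]; simp,
      show trm y g (fun _ => 1) = 1 by simp [trm], Complex.one_re, one_mul]
    rcases b7 with b7 | ⟨b7, b8⟩
    · have u2 := Finset.sum_le_sum fun α hα => trm_ge (x := y) (b4 α hα) (t.Y_one h hα) (by positivity)
      rw [Finset.sum_neg_distrib, ← Finset.sum_mul, t.sum_Y h hc h1, ← mul_div_assoc] at u2
      have v2 : (2 * r ^ 2 + 2 * r - 3 : ℝ) * (2 * r - 1) /
          ((2 * r ^ 2 - 1) * (2 * r ^ 2 - 2 * r + 1)) ≤ 27 / 35 := by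
        rw [div_le_div_iff₀ (by positivity) (by positivity), rs, ← sub_nonneg]; ring_nf; positivity
      have v4 : -(1 / 7 : ℝ) ≤ (WW W g).re / (r * (2 * r ^ 2 - 1)) := by
        rw [le_div_iff₀ (by positivity)]; nlinarith
      linarith
    · have u2 : 0 ≤ ∑ α ∈ Al A₁, (trm y g (be a α - WW W)).re := Finset.sum_nonneg fun α hα => by
        have e : conj ((be a α - WW W) y) = (be a α - WW W) y := by
          simp [(h.spc (Finset.mem_union_left _ hα)).be_real, WW, add_comm]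
        obtain ⟨c, hc⟩ := Complex.conj_eq_iff_real.1 e
        rw [trm, hc, b8 α hα, t.Y_one h hα, Complex.conj_ofReal, ← Complex.ofReal_mul,
          ← Complex.ofReal_mul, ← Complex.ofReal_div, Complex.ofReal_re]
        exact div_nonneg (mul_nonneg (mul_self_nonneg c) (by linarith)) (by positivity)
      have v4 : -(2 / 7 : ℝ) ≤ (WW W g).re / (r * (2 * r ^ 2 - 1)) := by
        rw [le_div_iff₀ (by positivity), b7]; nlinarith
      linarith
  · have hf := h.fpf h.t2 hc h1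
    refine trm_pos (c := 1 / (2 * r ^ 2 - 1)) (fun χ hχ e1 e2 => ?_) ?_
    · rcases t.cases hχ with rfl | rfl | p | rfl | rfl | ⟨α, hα, rfl⟩ | ⟨α, hα, rfl⟩
      · exact absurd rfl e1
      · exact ⟨_, _, b1, d1, by positivity, by gcongr; nlinarith⟩
      · exact absurd (p.fpf _ hf) e2
      · exact ⟨_, _, b3, d3, by positivity, by field_simp; rfl⟩
      · exact ⟨r, r * (2 * r ^ 2 - 1), by simpa using b3, by simp only [d3, Complex.conj_ofReal], by positivity,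
          by field_simp; rfl⟩
      · exact absurd (t.Y_2 h hα hc h1) e2
      · refine ⟨_, _, b5 α hα, t.Z_one h hα, by positivity, ?_⟩
        rw [div_le_div_iff₀ (by positivity) (by positivity)]; nlinarith
    · have e : (Nat.card A₂ + 2 * r : ℝ) = 2 * r ^ 2 + 1 := by exact_mod_cast h.c2
      rw [h.cent h.t2 hc h1, div_mul_eq_mul_div, div_lt_one (by positivity)]
      nlinarith

theorem degrees : charDegrees G = {1, Nat.card Q, Nat.card Q + 1, r * Nat.card (St G a b),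
    Nat.card (St G a b) * Nat.card A₂, Nat.card (St G a b) * Nat.card A₁} := by
  have e1 : (Nat.card (St G a b) : ℂ) = 2 * r ^ 2 - 1 := by
    rw [eq_sub_iff_add_eq]; exact_mod_cast h.cH
  have e2 : (Nat.card A₂ : ℂ) = 2 * r ^ 2 + 1 - 2 * r := by
    rw [eq_sub_iff_add_eq]; exact_mod_cast h.c2
  have d1 := charDegree_eq h.stb_one
  have d2 : ∀ θ, PS a b Q θ → charDegree θ = Nat.card Q + 1 := fun θ p =>
    charDegree_eq (by simp [p.one])
  have d3 : W 1 = (r * Nat.card (St G a b) : ℕ) := by rw [t.one, Nat.cast_mul, e1]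
  have d4 : ∀ α ∈ Al A₁, charDegree (be a α - WW W) = Nat.card (St G a b) * Nat.card A₂ :=
    fun α hα => charDegree_eq (by rw [t.Y_one h hα]; push_cast; rw [e1, e2]; ring)
  have d5 : ∀ α ∈ Al A₂, charDegree (be a α + WW W) = Nat.card (St G a b) * Nat.card A₁ :=
    fun α hα => charDegree_eq (by rw [t.Z_one h hα, h.c1]; push_cast; rw [e1])
  have d0 : charDegree (fun _ : G => (1 : ℂ)) = 1 := charDegree_eq (by simp)
  have r2 := h.r2
  ext d
  constructor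
  · rintro ⟨⟨χ, hχ⟩, rfl⟩
    rcases t.cases hχ with rfl | rfl | p | rfl | rfl | ⟨α, hα, rfl⟩ | ⟨α, hα, rfl⟩
    · simp [d0]
    · simp [d1]
    · simp [d2 _ p]
    · simp [charDegree_eq d3]
    · simp [charDegree_eq (χ := fun g => conj (W g)) (n := r * Nat.card (St G a b)) (by simp [d3])]
    · simp [d4 α hα]
    · simp [d5 α hα]
  · rintro (rfl | rfl | rfl | rfl | rfl | rfl)
    · exact ⟨⟨_, isIrrCharacter_one⟩, d0⟩
    · exact ⟨⟨_, h.stb_irr⟩, d1⟩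
    · obtain ⟨θ, hθ⟩ := Finset.card_pos.1 (by nlinarith [h.nP] : 0 < (PSs a b Q).card)
      exact ⟨θ, d2 _ (mem_PSs.1 hθ)⟩
    · exact ⟨⟨_, t.irr⟩, charDegree_eq d3⟩
    · obtain ⟨α, hα⟩ := Finset.card_pos.1 (by nlinarith [h.n1] : 0 < (Al A₁).card)
      exact ⟨⟨_, t.irr1 α hα⟩, d4 α hα⟩
    · obtain ⟨α, hα⟩ := Finset.card_pos.1 (by nlinarith [h.n2] : 0 < (Al A₂).card)
      exact ⟨⟨_, t.irr2 α hα⟩, d5 α hα⟩

end Tab

theorem SzT.exists_mul (h : SzT a b Q A₁ A₂ σ ρ r) (hx : 2 < orderOf x) (hg : g ≠ 1) :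
    ∃ u v : G, g = u * x * u⁻¹ * (v * x * v⁻¹) := by
  obtain ⟨W, t⟩ := h.exists_tab
  by_contra! h1
  have h2 := card_class_mul_eq_sum x x g
  haveI : IsEmpty {p : G × G // IsConj x p.1 ∧ IsConj x p.2 ∧ p.1 * p.2 = g} :=
    ⟨fun ⟨p, e1, e2, e3⟩ => by
      obtain ⟨u, e1⟩ := isConj_iff.1 e1
      obtain ⟨v, e2⟩ := isConj_iff.1 e2
      exact h1 u v (by rw [e1, e2, e3])⟩
  haveI : Nonempty {y : G // IsConj x y} := ⟨⟨x, IsConj.refl x⟩⟩
  have h3 : (Nat.card {y : G // IsConj x y} : ℂ) ≠ 0 := by exact_mod_cast Nat.card_pos.ne'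
  rw [Nat.card_of_isEmpty, Nat.cast_zero, eq_comm, mul_eq_zero] at h2
  have h4 := t.pos h hx hg
  rw [← Complex.re_sum] at h4
  exact h4.ne' (congrArg Complex.re
    (h2.resolve_left (div_ne_zero (mul_ne_zero h3 h3) card_ne_zero)))

end Cfsg.Agent.H7
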