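import Cfsg.Agent.H7.Sz4
import Cfsg.Agent.H7.ZT5

/-! The Suzuki groups have the class structure needed for the character table. -/

set_option autoImplicit false
set_option linter.unusedSectionVars false

open Cfsg MulAction Subgroup Cfsg.Agent.H8

namespace Cfsg.Agent.H7.Suz

variable {F : Type*} [Field F] [Fintype F] {m : ℕ} [h : SzF F m]
include h

theorem th_add_ne (x : F) : th F x + x ≠ 1 := fun e => by
  have e' := congrArg (th F) e
  rw [map_add, th_th, map_one] at e'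
  have : x * (x + 1) = 0 := by grind
  rcases mul_eq_zero.1 this with rfl | e2
  · simp at e
  · rw [CharTwo.add_eq_zero.1 e2, map_one, CharTwo.add_self_eq_zero] at e
    exact zero_ne_one e

theorem exists_th_add (b : F) : ∃ x : F, th F x + x = b ∨ th F x + x + 1 = b := by
  let f : F →+ F := (th F).toAddMonoidHom + AddMonoidHom.id F
  have h1 : f.range.index = 2 := by
    rw [AddSubgroup.index_range, Nat.card_eq_two_iff]
    refine ⟨0, ⟨1, by simp [f, CharTwo.add_self_eq_zero]⟩, by simp [Subtype.ext_iff], ?_⟩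
    rw [Set.eq_univ_iff_forall]
    rintro ⟨x, hx⟩
    have e : th F x + x = 0 := hx
    have e' := congrArg (th F) e
    rw [map_add, th_th, map_zero] at e'
    have : x * (x + 1) = 0 := by grind
    simpa [Subtype.ext_iff, CharTwo.add_eq_zero] using this
  by_cases hb : b ∈ f.range
  · obtain ⟨x, e⟩ := hb
    exact ⟨x, Or.inl e⟩
  · obtain ⟨x, e⟩ := (AddSubgroup.add_mem_iff_of_index_two h1 (a := b) (b := 1)).2
      (iff_of_false hb fun ⟨x, e⟩ => th_add_ne x e)
    have e' : th F x + x = b + 1 := e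
    exact ⟨x, Or.inr (by grind)⟩

theorem u_conj (x b : F) : u x 0 * u 1 b * (u x 0)⁻¹ = u 1 (th F x + x + b) := by
  rw [mul_inv_eq_iff_eq_mul, u_mul, u_mul, u_inj, map_one]; grind

theorem rho_inv : (u (1 : F) 0)⁻¹ = u 1 1 := by simp [u_inv]

theorem exists_szt [Fintype (Sz F m)] : ∃ A₁ A₂ : Subgroup (Sz F m),
    SzT (inf F) (zer F) (QQ F) A₁ A₂ (u 0 1) (u 1 0) (2 ^ m) := by
  obtain ⟨he, A₁, A₂, t1, t2, c1, c2, hc⟩ := tori_main (F := F)
  have z := ztt (F := F)
  have e8 := eight_le (F := F)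
  refine ⟨A₁, A₂, z, t1, t2, he _ t1, he _ t2, by rw [c1, q_eq], by rw [c2, q_eq],
    by rw [card_QQ, q_eq], by rw [card_HH, ← q_eq (F := F)]; omega, two_le_r (F := F),
    fun g hg => ?_, fun g hg x hx => ?_, u_mem _ _, by simp [u_eq_one], by simp [u_sq, u_00],
    u_mem _ _, orderOf_u one_ne_zero _, fun e => ?_, ?_, ?_⟩
  · have : g ∈ centralizer {g} := mem_centralizer_singleton_iff.2 rfl
    rcases hc _ ⟨g, hg, rfl⟩ with ⟨x, e⟩ | ⟨x, e⟩ <;> rw [e, mem_cj] at this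
    exacts [Or.inl ⟨x⁻¹, by simpa using this⟩, Or.inr ⟨x⁻¹, by simpa using this⟩]
  · by_contra e
    have := z.eq_of_mem (t1.cj' x) t2 (mem_cj.2 (by simpa [mul_assoc] using hg)) hx (by simpa using e)
    rw [← this, card_cj, c1] at c2
    have := Nat.two_pow_pos m
    omega
  · obtain ⟨x, e⟩ := isConj_iff.1 e
    obtain ⟨a, b, c, rfl⟩ := exists_uh (z.fix_of_inverts (u_mem _ _) (by simp [u_eq_one]) e)
    rw [mul_inv_rev, ← mul_assoc, mul_assoc (u a b), mul_assoc (u a b), hh_u, rho_inv,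
      mul_inv_eq_iff_eq_mul, u_mul, u_mul, u_inj, map_one] at e
    have := th_add_ne a
    grind
  · rw [show 4 * (2 ^ m) ^ 2 = Nat.card (Bool × F) by
      rw [Nat.card_prod, Nat.card_eq_fintype_card (α := F), q_eq]; simp; ring]
    refine (Nat.card_congr (Equiv.ofBijective (fun p : Bool × F => ⟨u (cond p.1 1 0) p.2,
      mem_centralizer_singleton_iff.2 (u_commute.2 (by cases p.1 <;> simp))⟩) ⟨?_, ?_⟩)).symm
    · rintro ⟨_ | _, b⟩ ⟨_ | _, c⟩ <;> simp [u_inj]
    · rintro ⟨x, hx⟩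
      rw [mem_centralizer_singleton_iff] at hx
      obtain ⟨a, b, rfl⟩ := mem_QQ.1 (z.cent_Q (u_mem _ _) (by simp [u_eq_one]) hx)
      rcases u_commute.1 hx with rfl | e | rfl
      exacts [⟨(false, b), rfl⟩, absurd e one_ne_zero, ⟨(true, b), rfl⟩]
  · intro g hg
    obtain ⟨a, b, rfl⟩ := mem_QQ.1 hg
    by_cases ha : a = 0
    · obtain ⟨c, rfl⟩ := nm_surj b
      by_cases hc : c = 0
      · simp [ha, hc, u_00]
      · exact Or.inr (Or.inl (isConj_iff.2 ⟨hh (Units.mk0 c hc), by simp [hh_u, ha]⟩))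
    · have h1 : IsConj (u 1 (b / (a * th F a))) (u a b) := isConj_iff.2 ⟨hh (Units.mk0 a ha), by
        rw [hh_u, Units.val_mk0, mul_one, mul_div_cancel₀ _ (mul_ne_zero ha (th_ne ha))]⟩
      obtain ⟨x, e | e⟩ := exists_th_add (b / (a * th F a)) <;> rw [← e] at h1
      · exact Or.inr (Or.inr (Or.inl ((isConj_iff.2 ⟨u x 0, by rw [u_conj, add_zero]⟩).trans h1)))
      · exact Or.inr (Or.inr (Or.inr ((isConj_iff.2 ⟨u x 0, by rw [rho_inv, u_conj]⟩).trans h1)))

theorem exists_mul {x g : Sz F m} (hx : 2 < orderOf x) (hg : g ≠ 1) :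
    ∃ u v : Sz F m, g = u * x * u⁻¹ * (v * x * v⁻¹) := by
  haveI := Fintype.ofFinite (Sz F m)
  obtain ⟨A₁, A₂, t⟩ := exists_szt (F := F)
  exact t.exists_mul hx hg

theorem degrees : ∃ a₁ a₂ : ℕ, a₁ * a₂ = Fintype.card F ^ 2 + 1 ∧
    charDegrees (Sz F m) = {1, Fintype.card F ^ 2, Fintype.card F ^ 2 + 1,
      2 ^ m * (Fintype.card F - 1), (Fintype.card F - 1) * a₂, (Fintype.card F - 1) * a₁} := by
  haveI := Fintype.ofFinite (Sz F m)
  obtain ⟨A₁, A₂, t⟩ := exists_szt (F := F)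
  obtain ⟨W, w⟩ := t.exists_tab
  refine ⟨Nat.card A₁, Nat.card A₂, ?_, by rw [w.degrees t, card_QQ, card_HH]⟩
  have := t.c2
  rw [t.c1, q_eq]
  zify at this ⊢
  linear_combination (2 * (2 ^ m) ^ 2 + 2 * 2 ^ m + 1) * this

end Cfsg.Agent.H7.Suz
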