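import Cfsg.Agent.H7.U3S

/-! Automorphisms of the Sylow 2-subgroup of `PSU₃(q)`, `q` even. -/

set_option autoImplicit false

namespace Cfsg.Agent.H7

open Cfsg Cfsg.Agent.H4 Subgroup Matrix
open scoped commutatorElement

variable {F : Type*} [Field F] [CharP F 2]

namespace U3

variable {σ : F →+* F} [hσ : Fact (∀ x, σ (σ x) = x)]

omit hσ in
theorem exists_sqrt [Finite F] {t : F} (ht : σ t = t) : ∃ s, σ s = s ∧ s * s = t := by
  obtain ⟨s, hs⟩ := FiniteField.isSquare_of_char_two (ringChar.eq F 2) t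
  refine ⟨s, ?_, hs.symm⟩
  have := congrArg σ hs
  rw [ht, map_mul, hs] at this
  have h1 : (σ s + s) ^ 2 = 0 := by grind
  have h2 := pow_eq_zero_iff two_ne_zero |>.1 h1
  grind

theorem semilin [Finite F] (hne : σ ≠ RingHom.id F) (A : F →+ F) (B : F → F)
    (hB : ∀ s t, σ s = s → σ t = t → B (s + t) = B s + B t) (hinj : ∀ t, σ t = t → B t = 0 → t = 0)
    (hN : ∀ a, B (a * σ a) = A a * σ (A a)) (h1 : A 1 = 1) (a c : F) : A (a * c) = A a * A c := by
  have hσ' := hσ.out
  obtain ⟨δ, hδ⟩ := exists_delta hne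
  have hβ : ∀ a c, B (a * σ c + c * σ a) = A a * σ (A c) + A c * σ (A a) := fun a c => by
    have h := hN (a + c)
    rw [show (a + c) * σ (a + c) = (a * σ a + c * σ c) + (a * σ c + c * σ a) by rw [map_add]; ring,
      hB _ _ (by simp only [map_add, map_mul, hσ']; ring) (by simp only [map_add, map_mul, hσ']; ring),
      hB _ _ (by simp only [map_mul, hσ']; ring) (by simp only [map_mul, hσ']; ring), hN, hN, map_add, map_add] at h
    linear_combination h
  have hB0 : B 0 = 0 := by simpa using hN 0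
  have hτ : ∀ t a, σ t = t → A a * σ (A (t * a)) + A (t * a) * σ (A a) = 0 := fun t a ht => by
    rw [← hβ, ← hB0, map_mul, ht]
    congr 1
    grind
  have hfix : ∀ t, σ t = t → σ (A t) = A t := fun t ht => by
    have := hτ t 1 ht
    rw [mul_one, h1, map_one] at this
    grind
  have htr : ∀ a, B (σ a + a) = σ (A a) + A a := fun a => by simpa [h1] using hβ 1 a
  have hm1 : ∀ t a, σ t = t → σ a + a ≠ 0 → A (t * a) = A t * A a := fun t a ht ha => by
    have e1 := hτ t (1 + a) ht
    have e2 := hτ t a ht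
    have e3 := hfix t ht
    have e4 : σ (A a) + A a ≠ 0 := fun h => ha (hinj _ (by rw [map_add, hσ', add_comm]) ((htr a).trans h))
    simp only [mul_add, mul_one, map_add, h1, map_one, e3] at e1
    have e5 : (A (t * a) + A t * A a) * (σ (A a) + A a) = 0 := by grind
    have := (mul_eq_zero.1 e5).resolve_right e4
    grind
  have hm : ∀ t a, σ t = t → A (t * a) = A t * A a := fun t a ht => by
    by_cases ha : σ a + a = 0
    · have e1 := hm1 t (a + δ) ht (by rw [map_add]; grind)
      have e2 := hm1 t δ ht (by grind)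
      rw [mul_add, map_add, map_add, e2] at e1
      linear_combination e1
    · exact hm1 t a ht ha
  have hBA : ∀ t, σ t = t → B t = A t := fun t ht => by
    obtain ⟨s, hs, rfl⟩ := exists_sqrt ht
    have := hN s
    rwa [hs, hfix s hs, ← hm s s hs] at this
  have hsq : ∀ a, A (a * a) = A a * A a := fun a => by
    have e1 : σ (σ a + a) = σ a + a := by rw [map_add, hσ', add_comm]
    have e2 : σ (a * σ a) = a * σ a := by rw [map_mul, hσ', mul_comm]
    rw [show a * a = (σ a + a) * a + a * σ a by grind, map_add, hm _ _ e1, ← hBA _ e1, ← hBA _ e2, htr, hN]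
    grind
  by_cases ha : σ a + a = 0
  · exact hm a c (by grind)
  · obtain ⟨y, hy⟩ : ∃ y, y * (σ a + a) = σ c + c := ⟨(σ c + c) / (σ a + a), div_mul_cancel₀ _ ha⟩
    have hy' : σ y = y := by
      have := congrArg σ hy
      rw [map_mul, map_add, map_add, hσ', hσ', add_comm a, add_comm c, ← hy] at this
      exact mul_right_cancel₀ ha this
    have hx : σ (c + y * a) = c + y * a := by rw [map_add, map_mul, hy']; grind
    have e1 : A c = A (c + y * a) + A y * A a := by rw [← hm _ _ hy', ← map_add]; congr 1; grind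
    rw [show a * c = (c + y * a) * a + y * (a * a) by grind, map_add, hm _ _ hx, hm _ _ hy', hsq, e1]
    ring

theorem aut_a (hne : σ ≠ RingHom.id F) (φ : MulAut (U3 σ)) {x y : U3 σ} (h : x.a = y.a) : (φ x).a = (φ y).a := by
  have h1 : (x⁻¹ * y) * (x⁻¹ * y) = 1 := sq_eq_one.2 (by simp only [mul_a, inv_a]; grind)
  have h2 := congrArg φ h1
  rw [map_mul, map_one, sq_eq_one, map_mul, map_inv, mul_a, inv_a] at h2
  grind

theorem sq_eq (x : U3 σ) : x * x = cen (x.a * σ x.a) (by rw [map_mul, hσ.out, mul_comm]) := by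
  ext
  · exact sq_a x
  · simp only [mul_b, cen]; grind

theorem exists_semi [Finite F] (hne : σ ≠ RingHom.id F) (φ : MulAut (U3 σ)) :
    ∃ (s : Fˣ) (ρ : F ≃+* F), ∀ x, (φ x).a = s * ρ x.a := by
  classical
  obtain ⟨δ, hδ⟩ := exists_delta hne
  have h0 : ∀ x : U3 σ, (φ x).a = 0 ↔ x.a = 0 := fun x => by
    rw [← sq_eq_one, ← sq_eq_one, ← map_mul, MulEquiv.map_eq_one_iff]
  set s := (φ (sec hδ 1)).a with hs
  have hs0 : s ≠ 0 := fun h => one_ne_zero ((h0 _).1 h)
  have hs1 : σ s ≠ 0 := (map_ne_zero σ).2 hs0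
  let A : F →+ F := AddMonoidHom.mk' (fun a => (φ (sec hδ a)).a / s) fun a c => by
    rw [← add_div, ← mul_a, ← map_mul]
    exact congrArg (· / s) (aut_a hne φ rfl)
  let B : F → F := fun t => if ht : σ t = t then (φ (cen t ht)).b / (s * σ s) else 0
  have h1 : A 1 = 1 := div_self hs0
  have hm := semilin hne A B (fun a c ha hc => by
      have hac : σ (a + c) = a + c := by rw [map_add, ha, hc]
      have : cen (a + c) hac = cen a ha * cen c hc := by ext <;> simp [cen]
      simp only [B, dif_pos ha, dif_pos hc, dif_pos hac, this, map_mul, mul_b, (h0 (cen a ha)).2 rfl, zero_mul,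
        add_zero, add_div])
    (fun t ht h => by
      simp only [B, dif_pos ht, div_eq_zero_iff, mul_eq_zero, hs0, hs1, or_false] at h
      have : φ (cen t ht) = 1 := U3.ext ((h0 _).2 rfl) h
      exact congrArg U3.b ((MulEquiv.map_eq_one_iff φ).1 this))
    (fun a => by
      have ha : σ (a * σ a) = a * σ a := by rw [map_mul, hσ.out, mul_comm]
      have : cen (a * σ a) ha = sec hδ a * sec hδ a := (sq_eq (sec hδ a)).symm
      simp only [B, dif_pos ha, this, map_mul, A, AddMonoidHom.mk'_apply, map_div₀]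
      rw [sq_eq, div_mul_div_comm]
      rfl) h1
  let ρ : F →+* F := { A with map_one' := h1, map_mul' := hm }
  refine ⟨Units.mk0 s hs0, RingEquiv.ofBijective ρ (Finite.injective_iff_bijective.1 ρ.injective), fun x => ?_⟩
  change _ = s * ((φ (sec hδ x.a)).a / s)
  rw [mul_div_cancel₀ _ hs0]
  exact aut_a hne φ rfl

end U3

theorem exists_U3_equiv' [Fintype F] {n : ℕ} (hF : Fintype.card F = (2 ^ n) ^ 2)
    [Fact (∀ x, frobq hF (frobq hF x) = x)] (S : Sylow 2 (SU 3 F (2 ^ n))) : Nonempty (U3 (frobq hF) ≃* S) := by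
  let π : SU 3 F (2 ^ n) →* PSU 3 F (2 ^ n) := QuotientGroup.mk' (center (SU 3 F (2 ^ n)))
  have hπ : Function.Surjective π := QuotientGroup.mk'_surjective _
  obtain ⟨e⟩ := exists_U3_equiv hF (S.mapSurjective hπ)
  have hinj : Function.Injective (π.subgroupMap S) := by
    rw [injective_iff_map_eq_one]
    intro x hx
    have h1 := Subgroup.orderOf_dvd_natCard _ ((QuotientGroup.eq_one_iff _).1 (congrArg Subtype.val hx))
    rw [S0279.result hF 3 le_rfl] at h1
    obtain ⟨k, hk⟩ := S.isPGroup' x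
    have h2 := orderOf_dvd_of_pow_eq_one hk
    rw [Subgroup.orderOf_coe] at h1
    exact orderOf_eq_one_iff.1 (Nat.eq_one_of_dvd_coprimes ((by norm_num : Nat.Coprime 3 2).pow_right k)
      (h1.trans (Nat.gcd_dvd_left _ _)) h2)
  exact ⟨e.trans (MulEquiv.ofBijective _ ⟨hinj, π.subgroupMap_surjective S⟩).symm⟩

end Cfsg.Agent.H7
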