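import Cfsg.Agent.H7.U3A
import Cfsg.Agent.H1.Cores

/-! Automorphisms of the Sylow 2-subgroup of `PSU₃(q)`, `q` even: the largest normal 2-subgroup, order. -/

set_option autoImplicit false

namespace Cfsg.Agent.H7

open Cfsg Cfsg.Agent.H4 Subgroup Matrix
open scoped commutatorElement

theorem ringAut_card7 (F : Type*) [Field F] [Fintype F] {p f : ℕ} [Fact p.Prime] [CharP F p] (hF : Fintype.card F = p ^ f) :
    Nat.card (F ≃+* F) = f ∧ IsCyclic (F ≃+* F) := by
  letI : Algebra (ZMod p) F := ZMod.algebra _ _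
  let e : (F ≃ₐ[ZMod p] F) ≃* (F ≃+* F) :=
    { toFun := fun σ => σ.toRingEquiv
      invFun := fun σ => AlgEquiv.ofRingEquiv (f := σ) fun x =>
        DFunLike.congr_fun (Subsingleton.elim (σ.toRingHom.comp (algebraMap (ZMod p) F)) (algebraMap (ZMod p) F)) x
      left_inv := fun _ => rfl
      right_inv := fun _ => rfl
      map_mul' := fun _ _ => rfl }
  refine ⟨?_, isCyclic_of_surjective e e.surjective⟩
  rw [← Nat.card_congr e.toEquiv, IsGalois.card_aut_eq_finrank]
  exact Nat.pow_right_injective (Fact.out : p.Prime).two_le ((FiniteField.pow_finrank_eq_card p F).trans hF)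

theorem card_addHom_zmod {p : ℕ} [Fact p.Prime] {M N : Type*} [AddCommGroup M] [AddCommGroup N] [Module (ZMod p) M]
    [Module (ZMod p) N] [Finite M] [Finite N] {a b : ℕ} (ha : Nat.card M = p ^ a) (hb : Nat.card N = p ^ b) :
    Nat.card (M →+ N) = p ^ (a * b) := by
  have hp : 2 ≤ p := (Fact.out : p.Prime).two_le
  rw [Module.natCard_eq_pow_finrank (K := ZMod p), Nat.card_zmod] at ha hb
  rw [Nat.card_congr (AddMonoidHom.toZModLinearMapEquiv p).toEquiv, Module.natCard_eq_pow_finrank (K := ZMod p),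
    Nat.card_zmod, Module.finrank_linearMap, Nat.pow_right_injective hp ha, Nat.pow_right_injective hp hb]

variable {F : Type*} [Field F] [CharP F 2]

namespace U3

variable {σ : F →+* F} [hσ : Fact (∀ x, σ (σ x) = x)]

theorem inv_cases [Finite F] (hne : σ ≠ RingHom.id F) (ρ : F ≃+* F) (h : ∀ a, ρ (ρ a) = a) :
    (∀ a, ρ a = a) ∨ ∀ a, ρ a = σ a := by
  classical
  haveI := Fintype.ofFinite F
  obtain ⟨n, -, hn⟩ := FiniteField.card F 2
  haveI := (ringAut_card7 F hn).2
  haveI : Finite (F ≃+* F) := Finite.of_injective (fun g : F ≃+* F => (g : F → F)) DFunLike.coe_injective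
  haveI := Fintype.ofFinite (F ≃+* F)
  let τ : F ≃+* F := RingEquiv.ofBijective σ (Finite.injective_iff_bijective.1 σ.injective)
  by_contra hc
  rw [not_or] at hc
  have h1 : ρ ≠ 1 := fun e => hc.1 fun a => by rw [e]; rfl
  have h2 : ρ ≠ τ := fun e => hc.2 fun a => by rw [e]; rfl
  have h3 : τ ≠ 1 := fun e => hne (RingHom.ext fun a => DFunLike.congr_fun e a)
  have h4 := IsCyclic.card_pow_eq_one_le (α := F ≃+* F) two_pos
  have h5 : ({ρ, τ, 1} : Finset (F ≃+* F)) ⊆ Finset.univ.filter fun a => a ^ 2 = 1 := by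
    intro g hg
    simp only [Finset.mem_insert, Finset.mem_singleton] at hg
    rw [Finset.mem_filter, sq]
    rcases hg with rfl | rfl | rfl
    · exact ⟨Finset.mem_univ _, RingEquiv.ext h⟩
    · exact ⟨Finset.mem_univ _, RingEquiv.ext hσ.out⟩
    · simp
  have h6 := Finset.card_le_card h5
  rw [Finset.card_eq_three.2 ⟨_, _, _, h2, h1, h3, rfl⟩] at h6
  omega

theorem fix_center [Finite F] (hne : σ ≠ RingHom.id F) (φ : MulAut (U3 σ)) (h : ∀ x, (φ (φ x)).a = x.a)
    {z : U3 σ} (hz : z.a = 0) : φ z = z := by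
  obtain ⟨δ, hδ⟩ := exists_delta hne
  obtain ⟨s, ρ, hs⟩ := exists_semi hne φ
  have h1 : ∀ a, s * ρ (s * ρ a) = a := fun a => by
    have := h (sec hδ a)
    rwa [hs, hs] at this
  have h2 : s * ρ s = 1 := by simpa using h1 1
  have h3 : ∀ a, ρ (ρ a) = a := fun a => by
    have := h1 a
    rwa [map_mul, ← mul_assoc, h2, one_mul] at this
  obtain ⟨t, ht, htt⟩ := exists_sqrt (fix_b hz)
  have e : z = sec hδ t * sec hδ t := by
    rw [sq_eq]
    exact U3.ext hz (by simp only [cen, sec, ht, htt])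
  rw [e, map_mul, sq_eq, sq_eq]
  refine U3.ext rfl ?_
  simp only [cen, hs, map_mul]
  change s * ρ t * (σ s * σ (ρ t)) = t * σ t
  rcases inv_cases hne ρ h3 with h4 | h4
  · rw [h4] at h2 ⊢
    have h5 : ((s : F) + 1) ^ 2 = 0 := by grind
    have h6 : (s : F) = 1 := by have := pow_eq_zero_iff two_ne_zero |>.1 h5; grind
    simp [h6]
  · rw [h4] at h2 ⊢
    rw [ht, ht]
    linear_combination (t * t) * h2

theorem sq_of_a [Finite F] (hne : σ ≠ RingHom.id F) (φ : MulAut (U3 σ)) (h : ∀ x, (φ x).a = x.a) : φ * φ = 1 := by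
  ext1 x
  have h1 : (x⁻¹ * φ x).a = 0 := by simp only [mul_a, inv_a, h]; grind
  have h2 := fix_center hne φ (fun x => by rw [h, h]) h1
  have h3 := sq_eq_one.2 h1
  rw [map_mul, map_inv, inv_mul_eq_iff_eq_mul] at h2
  change φ (φ x) = x
  rw [h2]
  calc φ x * (x⁻¹ * φ x) = x * (x⁻¹ * φ x * (x⁻¹ * φ x)) := by group
    _ = x := by rw [h3, mul_one]

theorem eq_one_of_pow (hne : σ ≠ RingHom.id F) {g : MulAut (U3 σ)} {u : F} (h : ∀ x, (g x).a = u * x.a) {k : ℕ}
    (hk : g ^ 2 ^ k = 1) : u = 1 := by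
  obtain ⟨δ, hδ⟩ := exists_delta hne
  have h1 : ∀ m x, ((g ^ m) x).a = u ^ m * x.a := fun m => by
    induction m with
    | zero => simp
    | succ m ih => intro x; rw [pow_succ', MulAut.mul_apply, h, ih, pow_succ', mul_assoc]
  have h2 := h1 (2 ^ k) (sec hδ 1)
  rw [hk] at h2
  apply (iterateFrobenius F 2 k).injective
  rw [map_one, iterateFrobenius_def]
  simpa [sec] using h2.symm

theorem mem_pCore [Finite F] (hne : σ ≠ RingHom.id F) {φ : MulAut (U3 σ)} :
    φ ∈ pCore 2 (MulAut (U3 σ)) ↔ ∀ x, (φ x).a = x.a := by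
  constructor
  · intro hφ
    obtain ⟨s, ρ, hs⟩ := exists_semi hne φ
    have hn : (pCore 2 (MulAut (U3 σ))).Normal := inferInstance
    have h1 : ∀ a, ρ a = a := fun a => by
      by_cases ha : a = 0
      · simp [ha]
      let t := Units.mk0 a ha
      have hg : φ * (tor t * φ⁻¹ * (tor t)⁻¹) ∈ pCore 2 (MulAut (U3 σ)) :=
        mul_mem hφ (hn.conj_mem _ (inv_mem hφ) _)
      obtain ⟨k, hk⟩ := H1.isPGroup_pCore 2 _ ⟨_, hg⟩
      have := eq_one_of_pow hne (g := φ * (tor t * φ⁻¹ * (tor t)⁻¹)) (u := ρ a * a⁻¹) (fun x => by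
        have e := hs (φ⁻¹ (tor t⁻¹ x))
        rw [MulAut.apply_inv_self, tor_a] at e
        rw [← map_inv, MulAut.mul_apply, MulAut.mul_apply, MulAut.mul_apply, hs, tor_a, map_mul, mul_left_comm, ← e]
        simp [t, mul_assoc]) (congrArg Subtype.val hk)
      exact (mul_inv_eq_one₀ ha).1 this
    obtain ⟨k, hk⟩ := H1.isPGroup_pCore 2 _ ⟨_, hφ⟩
    have := eq_one_of_pow hne (g := φ) (u := s) (fun x => by rw [hs, h1]) (congrArg Subtype.val hk)
    intro x
    rw [hs, h1, this, one_mul]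
  · intro hφ
    let C : Subgroup (MulAut (U3 σ)) :=
      { carrier := {φ | ∀ x, (φ x).a = x.a}
        mul_mem' := fun {f g} hf hg x => by rw [MulAut.mul_apply, hf, hg]
        one_mem' := fun _ => rfl
        inv_mem' := fun {f} hf x => by rw [← hf, MulAut.apply_inv_self] }
    exact H1.le_pCore (N := C) ⟨fun f hf g x => by
      rw [MulAut.mul_apply, MulAut.mul_apply, aut_a hne g (hf _), MulAut.apply_inv_self]⟩
      (fun f => ⟨1, Subtype.ext (by rw [pow_one, sq]; exact sq_of_a hne f.1 f.2)⟩) hφ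

/-- central automorphisms -/
def cenAut (f : F →+ σ.eqLocusField (RingHom.id F)) : MulAut (U3 σ) where
  toFun x := ⟨x.a, x.b + f x.a, by
    have h1 : σ (f x.a) = f x.a := (f x.a).2
    have := x.h
    rw [map_add, h1]; grind⟩
  invFun x := ⟨x.a, x.b + f x.a, by
    have h1 : σ (f x.a) = f x.a := (f x.a).2
    have := x.h
    rw [map_add, h1]; grind⟩
  left_inv x := U3.ext rfl (by simp only; grind)
  right_inv x := U3.ext rfl (by simp only; grind)
  map_mul' x y := U3.ext rfl (by simp only [mul_a, mul_b, map_add, Subfield.coe_add]; ring)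

theorem card_pCore [Finite F] (hne : σ ≠ RingHom.id F) :
    Nat.card (pCore 2 (MulAut (U3 σ))) = Nat.card (F →+ σ.eqLocusField (RingHom.id F)) := by
  obtain ⟨δ, hδ⟩ := exists_delta hne
  refine (Nat.card_congr (Equiv.ofBijective (fun f => ⟨cenAut f, (mem_pCore hne).2 fun _ => rfl⟩) ⟨?_, ?_⟩)).symm
  · intro f g h
    ext a
    have := congrArg (fun φ : pCore 2 (MulAut (U3 σ)) => (φ.1 (sec hδ a)).b) h
    exact add_left_cancel this
  · rintro ⟨φ, hφ⟩
    have h1 := (mem_pCore hne).1 hφ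
    have key : ∀ x, (φ x).b = x.b + ((φ (sec hδ x.a)).b + (sec hδ x.a).b) := fun x => by
      have h2 : ((sec hδ x.a)⁻¹ * x).a = 0 := by simp only [mul_a, inv_a, sec]; grind
      have h3 := fix_center hne φ (fun x => by rw [h1, h1]) h2
      rw [map_mul, map_inv, inv_mul_eq_iff_eq_mul] at h3
      have h4 := (sec hδ x.a).h
      rw [h3, mul_b, h2, mul_b, inv_b, inv_a]
      simp only [sec, map_zero] at h4 ⊢
      grind
    refine ⟨AddMonoidHom.mk' (fun a => ⟨(φ (sec hδ a)).b + (sec hδ a).b, ?_⟩) fun a c => Subtype.ext ?_,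
      Subtype.ext (MulEquiv.ext fun x => U3.ext (h1 x).symm (key x).symm)⟩
    · have h2 := (φ (sec hδ a)).h
      have h3 := (sec hδ a).h
      rw [h1] at h2
      change σ _ = _ + _
      rw [map_add]
      grind
    · have h2 := key (sec hδ a * sec hδ c)
      rw [map_mul, mul_b, mul_b, h1, h1] at h2
      change (φ (sec hδ (a + c))).b + (sec hδ (a + c)).b = _ + _ + (_ + _)
      have h3 : (sec hδ a * sec hδ c).a = a + c := rfl
      rw [h3] at h2
      grind

/-- field automorphisms -/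
def fld (hc : ∀ (ρ : F ≃+* F) a, σ (ρ a) = ρ (σ a)) (ρ : F ≃+* F) : MulAut (U3 σ) where
  toFun x := ⟨ρ x.a, ρ x.b, by rw [hc, hc, ← map_add, x.h, map_mul]⟩
  invFun x := ⟨ρ.symm x.a, ρ.symm x.b, by rw [hc, hc, ← map_add, x.h, map_mul]⟩
  left_inv x := U3.ext (ρ.symm_apply_apply _) (ρ.symm_apply_apply _)
  right_inv x := U3.ext (ρ.apply_symm_apply _) (ρ.apply_symm_apply _)
  map_mul' x y := U3.ext (map_add ρ _ _) (by simp only [mul_b, map_add, map_mul, hc])

theorem card_aut [Finite F] (hne : σ ≠ RingHom.id F) (hc : ∀ (ρ : F ≃+* F) a, σ (ρ a) = ρ (σ a)) :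
    Nat.card (MulAut (U3 σ)) = Nat.card (pCore 2 (MulAut (U3 σ))) * (Nat.card (F ≃+* F) * Nat.card Fˣ) := by
  obtain ⟨δ, hδ⟩ := exists_delta hne
  have key : ∀ f g : MulAut (U3 σ), (f : MulAut (U3 σ) ⧸ pCore 2 (MulAut (U3 σ))) = g ↔ ∀ x, (f x).a = (g x).a :=
    fun f g => by
      rw [QuotientGroup.eq, mem_pCore hne]
      exact ⟨fun h x => by rw [← aut_a hne f (h x), MulAut.mul_apply, MulAut.apply_inv_self],
        fun h x => by rw [MulAut.mul_apply, ← aut_a hne f⁻¹ (h x), MulAut.inv_apply_self]⟩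
  rw [(pCore 2 (MulAut (U3 σ))).card_eq_card_quotient_mul_card_subgroup, mul_comm,
    ← Nat.card_prod (F ≃+* F)]
  congr 1
  refine (Nat.card_congr (Equiv.ofBijective (fun p : (F ≃+* F) × Fˣ => ((tor p.2 * fld hc p.1 : MulAut (U3 σ)) :
    MulAut (U3 σ) ⧸ pCore 2 (MulAut (U3 σ)))) ⟨?_, ?_⟩)).symm
  · rintro ⟨ρ, s⟩ ⟨τ, t⟩ h
    have h1 : ∀ a, s * ρ a = t * τ a := fun a => (key _ _).1 h (sec hδ a)
    have h2 : s = t := Units.ext (by simpa using h1 1)
    subst h2
    exact Prod.ext (RingEquiv.ext fun a => mul_left_cancel₀ s.ne_zero (h1 a)) rfl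
  · intro q
    obtain ⟨φ, rfl⟩ := QuotientGroup.mk_surjective q
    obtain ⟨s, ρ, hs⟩ := exists_semi hne φ
    exact ⟨(ρ, s), (key _ _).2 fun x => (hs x).symm⟩

end U3

end Cfsg.Agent.H7
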