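import Cfsg.Agent.H4.Unit
import Cfsg.Agent.H4.Dick9
import Cfsg.Agent.S0279
import Cfsg.Agent.S0280
import Cfsg.Prelude.Def_LieRecognition

/-! The Sylow 2-subgroup of `PSU₃(q)`, `q` even. -/

set_option autoImplicit false

namespace Cfsg.Agent.H7

open Cfsg Cfsg.Agent.H4 Subgroup Matrix
open scoped commutatorElement

variable {F : Type*} [Field F] [CharP F 2]

/-- the unipotent group -/
@[ext] structure U3 (σ : F →+* F) where
  /-- first coordinate -/
  a : F
  /-- second coordinate -/
  b : F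
  h : b + σ b = a * σ a

namespace U3

variable {σ : F →+* F} [hσ : Fact (∀ x, σ (σ x) = x)]

instance : Mul (U3 σ) := ⟨fun x y => ⟨x.a + y.a, x.b + y.b + x.a * σ y.a, by
  have h1 := x.h
  have h2 := y.h
  simp only [map_add, map_mul, hσ.out]
  grind⟩⟩

instance : One (U3 σ) := ⟨⟨0, 0, by simp⟩⟩

instance : Inv (U3 σ) := ⟨fun x => ⟨x.a, σ x.b, by rw [hσ.out, add_comm, x.h]⟩⟩

@[simp] theorem mul_a (x y : U3 σ) : (x * y).a = x.a + y.a := rfl
@[simp] theorem mul_b (x y : U3 σ) : (x * y).b = x.b + y.b + x.a * σ y.a := rfl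
omit [CharP F 2] hσ in
@[simp] theorem one_a : (1 : U3 σ).a = 0 := rfl
omit [CharP F 2] hσ in
@[simp] theorem one_b : (1 : U3 σ).b = 0 := rfl
omit [CharP F 2] in
@[simp] theorem inv_a (x : U3 σ) : x⁻¹.a = x.a := rfl
omit [CharP F 2] in
@[simp] theorem inv_b (x : U3 σ) : x⁻¹.b = σ x.b := rfl

instance : Group (U3 σ) := Group.ofLeftAxioms
  (fun x y z => by ext <;> simp only [mul_a, mul_b, map_add] <;> ring)
  (fun x => by ext <;> simp)
  (fun x => by
    have := x.h
    ext <;> simp only [mul_a, mul_b, inv_a, inv_b, one_a, one_b] <;> grind)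

instance [Finite F] : Finite (U3 σ) :=
  Finite.of_injective (fun x : U3 σ => (x.a, x.b)) fun _ _ h => U3.ext (congrArg Prod.fst h) (congrArg Prod.snd h)

theorem sq_eq_one {x : U3 σ} : x * x = 1 ↔ x.a = 0 := by
  constructor
  · intro h
    have h1 := congrArg U3.b h
    simp only [mul_b, one_b] at h1
    have h2 : x.a * σ x.a = 0 := by grind
    exact (mul_eq_zero.1 h2).elim id fun h => (map_eq_zero σ).1 h
  · intro h
    ext <;> simp only [mul_a, mul_b, one_a, one_b, h] <;> grind

theorem sq_a (x : U3 σ) : (x * x).a = 0 := by simp only [mul_a]; grind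

theorem pow_four (x : U3 σ) : x ^ 4 = 1 := by
  rw [show 4 = 2 * 2 from rfl, pow_mul, sq, sq, sq_eq_one, sq_a]

theorem fix_b {x : U3 σ} (h : x.a = 0) : σ x.b = x.b := by
  have := x.h
  rw [h, zero_mul] at this
  grind

theorem exists_delta (hne : σ ≠ RingHom.id F) : ∃ δ : F, δ + σ δ = 1 := by
  obtain ⟨θ, hθ⟩ : ∃ θ, σ θ ≠ θ := by
    by_contra h
    push Not at h
    exact hne (RingHom.ext h)
  have h0 : θ + σ θ ≠ 0 := fun h => hθ (by grind)
  refine ⟨θ / (θ + σ θ), ?_⟩
  rw [map_div₀, map_add, hσ.out, add_comm (σ θ), ← add_div, div_self h0]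

/-- an element with given first coordinate -/
def sec {δ : F} (hδ : δ + σ δ = 1) (c : F) : U3 σ := ⟨c, δ * (c * σ c), by
  simp only [map_mul, hσ.out]; linear_combination (c * σ c) * hδ⟩

/-- central elements -/
def cen (t : F) (ht : σ t = t) : U3 σ := ⟨0, t, by rw [ht]; grind⟩

theorem mem_center (hne : σ ≠ RingHom.id F) {x : U3 σ} : x ∈ center (U3 σ) ↔ x.a = 0 := by
  obtain ⟨δ, hδ⟩ := exists_delta hne
  rw [mem_center_iff]
  constructor
  · intro h
    have h1 := congrArg U3.b (h (sec hδ (x.a * δ)))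
    simp only [mul_b, sec, map_mul] at h1
    have h2 : x.a * σ x.a = 0 := by grind
    exact (mul_eq_zero.1 h2).elim id fun h => (map_eq_zero σ).1 h
  · intro h g
    ext <;> simp [h, add_comm]

theorem card_center (hne : σ ≠ RingHom.id F) : Nat.card (center (U3 σ)) = Nat.card {t : F // σ t = t} :=
  Nat.card_congr
    { toFun := fun x => ⟨x.1.b, fix_b ((mem_center hne).1 x.2)⟩
      invFun := fun t => ⟨cen t.1 t.2, (mem_center hne).2 rfl⟩
      left_inv := fun x => Subtype.ext (U3.ext ((mem_center hne).1 x.2).symm rfl)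
      right_inv := fun _ => rfl }

theorem card_eq (hne : σ ≠ RingHom.id F) : Nat.card (U3 σ) = Nat.card F * Nat.card {t : F // σ t = t} := by
  obtain ⟨δ, hδ⟩ := exists_delta hne
  rw [← Nat.card_prod]
  exact Nat.card_congr
    { toFun := fun x => (x.a, ⟨x.b + δ * (x.a * σ x.a), by
        have := x.h
        simp only [map_add, map_mul, hσ.out]; grind⟩)
      invFun := fun p => ⟨p.1, p.2.1 + δ * (p.1 * σ p.1), by
        have := p.2.2
        simp only [map_add, map_mul, hσ.out]; grind⟩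
      left_inv := fun x => U3.ext rfl (by simp only; grind)
      right_inv := fun p => Prod.ext rfl (Subtype.ext (by simp only; grind)) }

theorem commutator_eq (hne : σ ≠ RingHom.id F) : commutator (U3 σ) = center (U3 σ) := by
  obtain ⟨δ, hδ⟩ := exists_delta hne
  refine le_antisymm (commutator_le.2 fun x _ y _ => (mem_center hne).2 ?_) fun x hx => ?_
  · simp only [commutatorElement_def, mul_a, inv_a]; grind
  · have h1 := (mem_center hne).1 hx
    have h2 := fix_b h1
    have : x = ⁅sec hδ 1, sec hδ (δ * x.b)⁆ := by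
      rw [commutatorElement_def, eq_mul_inv_iff_mul_eq, eq_mul_inv_iff_mul_eq]
      ext <;> simp only [mul_a, mul_b, sec, map_mul, map_one, h1, h2] <;> grind
    rw [this]
    exact commutator_mem_commutator (mem_top _) (mem_top _)

/-- torus automorphisms -/
def tor : Fˣ →* MulAut (U3 σ) where
  toFun s :=
    { toFun := fun x => ⟨s * x.a, s * σ s * x.b, by
        simp only [map_mul, hσ.out]; linear_combination (s * σ s) * x.h⟩
      invFun := fun x => ⟨(s⁻¹ : Fˣ) * x.a, (s⁻¹ : Fˣ) * σ (s⁻¹ : Fˣ) * x.b, by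
        simp only [map_mul, hσ.out]; linear_combination ((s⁻¹ : Fˣ) * σ (s⁻¹ : Fˣ)) * x.h⟩
      left_inv := fun x => by
        have : σ s ≠ 0 := (map_ne_zero σ).2 s.ne_zero
        ext <;> simp <;> field_simp
      right_inv := fun x => by
        have : σ s ≠ 0 := (map_ne_zero σ).2 s.ne_zero
        ext <;> simp <;> field_simp
      map_mul' := fun x y => by ext <;> simp only [mul_a, mul_b, map_mul] <;> ring }
  map_one' := by ext <;> simp
  map_mul' s t := by ext <;> simp <;> ring

theorem tor_a (s : Fˣ) (x : U3 σ) : (tor s x).a = s * x.a := rfl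
theorem tor_b (s : Fˣ) (x : U3 σ) : (tor s x).b = s * σ s * x.b := rfl

theorem suzuki [Finite F] (hne : σ ≠ RingHom.id F) (h3 : 3 ≤ Nat.card {t : F // σ t = t}) :
    IsSuzukiTwoGroup (U3 σ) := by
  obtain ⟨δ, hδ⟩ := exists_delta hne
  refine ⟨inferInstance, fun x => ⟨2, pow_four x⟩, ?_, ?_, ?_⟩
  · by_contra h
    push Not at h
    exact one_ne_zero ((mem_center hne).1 (mem_center_iff.2 fun g => h g (sec hδ 1)))
  · classical
    haveI := Fintype.ofFinite {t : F // σ t = t}
    rw [Nat.card_eq_fintype_card] at h3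
    obtain ⟨t, ht0, ht1⟩ : ∃ t : {t : F // σ t = t}, t ≠ ⟨0, map_zero σ⟩ ∧ t ≠ ⟨1, map_one σ⟩ := by
      by_contra h
      push Not at h
      have : (Finset.univ : Finset {t : F // σ t = t}) ⊆ {⟨0, map_zero σ⟩, ⟨1, map_one σ⟩} := fun x _ => by
        by_cases h0 : x = ⟨0, map_zero σ⟩
        · simp [h0]
        · simp [h x h0]
      have h1 := (Finset.card_le_card this).trans Finset.card_le_two
      rw [Finset.card_univ] at h1
      omega
    exact ⟨cen t.1 t.2, cen 1 (map_one σ), fun e => ht1 (Subtype.ext (congrArg U3.b e)),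
      fun e => ht0 (Subtype.ext (congrArg U3.b e)), sq_eq_one.2 rfl, fun e => one_ne_zero (congrArg U3.b e),
      sq_eq_one.2 rfl⟩
  · let C : Subgroup Fˣ := (Units.map σ.toMonoidHom).eqLocus (MonoidHom.id _)
    have hC : ∀ s : Fˣ, s ∈ C ↔ σ s = s := fun s => ⟨fun h => congrArg Units.val h, fun h => Units.ext h⟩
    refine ⟨C.map tor, isCyclic_of_surjective _ ((tor (σ := σ)).subgroupMap_surjective C), fun x y x1 x2 y1 y2 => ?_⟩
    rw [sq_eq_one] at x2 y2
    have hx : x.b ≠ 0 := fun h => x1 (U3.ext x2 h)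
    have hy : y.b ≠ 0 := fun h => y1 (U3.ext y2 h)
    have hc : ringChar F = 2 := ringChar.eq F 2
    obtain ⟨s, hs⟩ := FiniteField.isSquare_of_char_two hc (y.b / x.b)
    have hs0 : s ≠ 0 := by rintro rfl; exact div_ne_zero hy hx (by simpa using hs)
    have hss : σ s = s := by
      have := congrArg σ hs
      rw [map_div₀, fix_b x2, fix_b y2, map_mul, hs] at this
      have h1 : (σ s + s) ^ 2 = 0 := by grind
      have h2 := pow_eq_zero_iff two_ne_zero |>.1 h1
      grind
    refine ⟨⟨tor (Units.mk0 s hs0), mem_map_of_mem _ ((hC _).2 hss)⟩, ?_, ?_⟩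
    · ext
      · simp [tor_a, x2, y2]
      · simp only [tor_b, Units.val_mk0, hss, ← hs]; field_simp
    · rintro ⟨_, t, ht, rfl⟩ h
      have h1 := congrArg U3.b h
      simp only [tor_b, (hC t).1 ht] at h1
      have h2 : (t : F) * t = s * s := by rw [← hs, ← h1]; field_simp
      have h3 : ((t : F) + s) ^ 2 = 0 := by grind
      have h4 := pow_eq_zero_iff two_ne_zero |>.1 h3
      have h5 : t = Units.mk0 s hs0 := Units.ext (by simp only [Units.val_mk0]; grind)
      exact Subtype.ext (congrArg tor h5)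

/-- the matrix of an element in the orthonormal basis -/
def mat (x : U3 σ) : Matrix (Fin 3) (Fin 3) F :=
  !![1, 1, 1; 1, 1, 0; 0, 1, 1] * !![1, x.a, x.b; 0, 1, σ x.a; 0, 0, 1] * !![1, 0, 1; 1, 1, 1; 1, 1, 0]

omit hσ in
theorem mat_eq (x : U3 σ) : mat x = !![1 + x.a + x.b + σ x.a, x.a + x.b + σ x.a, x.a;
    x.a + x.b + σ x.a, 1 + x.a + x.b + σ x.a, x.a; σ x.a, σ x.a, 1] := by
  simp only [mat, Matrix.mul_fin_three]
  ext i j
  fin_cases i <;> fin_cases j <;> simp <;> grind

end U3

theorem exists_U3_equiv [Fintype F] {n : ℕ} (hF : Fintype.card F = (2 ^ n) ^ 2) [Fact (∀ x, frobq hF (frobq hF x) = x)]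
    (S : Sylow 2 (PSU 3 F (2 ^ n))) : Nonempty (U3 (frobq hF) ≃* S) := by
  have hσ := frobq_frobq hF
  let f : U3 (frobq hF) →* SU 3 F (2 ^ n) :=
    { toFun := fun x => ⟨⟨U3.mat x, by rw [U3.mat_eq]; simp [det_fin_three]; grind⟩, by
        intro u v
        have := x.h
        change hermForm 3 F (2 ^ n) (U3.mat x *ᵥ u) (U3.mat x *ᵥ v) = _
        simp only [U3.mat_eq, hermForm, Fin.sum_univ_three, mulVec, dotProduct, ← frobq_apply hF]
        simp only [of_apply, cons_val', cons_val_zero, cons_val_one, cons_val_two, cons_val_fin_one, map_add, map_mul,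
          map_one, hσ, tail_cons, head_cons, head_fin_const]
        grind⟩
      map_one' := Subtype.ext (Subtype.ext (by
        change U3.mat 1 = 1
        rw [U3.mat_eq, Matrix.one_fin_three]; simp))
      map_mul' := fun x y => Subtype.ext (Subtype.ext (by
        change U3.mat (x * y) = U3.mat x * U3.mat y
        simp only [U3.mat_eq, Matrix.mul_fin_three, U3.mul_a, U3.mul_b, map_add]
        ext i j
        fin_cases i <;> fin_cases j <;> simp only [of_apply, cons_val', cons_val_zero, cons_val_one, cons_val_two,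
          cons_val_fin_one, Fin.zero_eta, Fin.mk_one, Fin.reduceFinMk, tail_cons, head_cons, head_fin_const] <;>
          grind)) }
  have hf : Function.Injective f := by
    rw [injective_iff_map_eq_one]
    intro x hx
    have h : U3.mat x = 1 := congrArg (fun g : SU 3 F (2 ^ n) => g.1.1) hx
    rw [U3.mat_eq] at h
    have h1 := congrFun (congrFun h 0) 2
    have h2 := congrFun (congrFun h 0) 1
    simp at h1
    simp [h1] at h2
    exact U3.ext h1 h2
  have hn : n ≠ 0 := by
    rintro rfl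
    have := Fintype.one_lt_card (α := F)
    omega
  have hq : 2 ∣ 2 ^ n := dvd_pow_self 2 hn
  let g := (QuotientGroup.mk' (center (SU 3 F (2 ^ n)))).comp f
  have hg : Function.Injective g := by
    rw [injective_iff_map_eq_one]
    intro x hx
    have h1 := Subgroup.orderOf_dvd_natCard _ ((QuotientGroup.eq_one_iff _).1 hx)
    rw [S0279.result hF 3 le_rfl, orderOf_injective f hf] at h1
    have h2 := orderOf_dvd_of_pow_eq_one (U3.pow_four x)
    exact orderOf_eq_one_iff.1 (Nat.eq_one_of_dvd_coprimes (by norm_num : Nat.Coprime 3 4)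
      (h1.trans (Nat.gcd_dvd_left _ _)) h2)
  have hc : Nat.card (U3 (frobq hF)) = 2 ^ (n * 3) := by
    rw [U3.card_eq (frobq_ne hF), Nat.card_eq_fintype_card, hF, pow_mul, pow_succ _ 2]
    congr 1
    exact card_fixed_frobq hF
  obtain ⟨Q, hQ⟩ := (IsPGroup.of_card ((Nat.card_congr (MonoidHom.ofInjective hg).toEquiv).symm.trans hc)).exists_le_sylow
  have hG := S0280.result hF 3 (by norm_num)
  simp only [Finset.prod_range_succ, Finset.prod_range_zero] at hG
  norm_num at hG
  obtain ⟨k, hk⟩ := IsPGroup.iff_card.1 Q.isPGroup'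
  have h1 : Nat.card Q ∣ 2 ^ (n * 3) := by
    have h2 : Nat.card Q ∣ (2 ^ n) ^ 3 * ((2 ^ n + 1) * ((2 ^ n) ^ 2 - 1) * ((2 ^ n) ^ 3 + 1)) :=
      hG ▸ ((Q : Subgroup (PSU 3 F (2 ^ n))).card_subgroup_dvd_card.mul_left _).mul_left _
    rw [pow_mul]
    refine Nat.Coprime.dvd_of_dvd_mul_right ?_ h2
    rw [hk]
    refine Nat.Coprime.pow_left _ ((Nat.Prime.coprime_iff_not_dvd Nat.prime_two).2 ?_)
    have h3 : 2 ∣ (2 ^ n) ^ 2 := hq.trans (dvd_pow_self _ two_ne_zero)
    have h4 : 2 ∣ (2 ^ n) ^ 3 := hq.trans (dvd_pow_self _ three_ne_zero)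
    have h5 : 0 < (2 ^ n) ^ 2 := by positivity
    simp only [Nat.prime_two.dvd_mul]
    omega
  have e : g.range = Q := eq_of_le_of_card_ge hQ (by
    rw [← Nat.card_congr (MonoidHom.ofInjective hg).toEquiv, hc]
    exact Nat.le_of_dvd (by positivity) h1)
  exact ⟨(MonoidHom.ofInjective hg).trans ((MulEquiv.subgroupCongr e).trans (Q.equiv S))⟩

end Cfsg.Agent.H7
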