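import Cfsg.Agent.H7.Zass6
import Cfsg.Agent.H8.Basic

/-! Zassenhaus groups whose Frobenius kernel is a 2-group: Sylow structure and tori. -/

set_option autoImplicit false
set_option linter.unusedSectionVars false

open Cfsg MulAction Subgroup Cfsg.Agent.H8
open scoped Pointwise commutatorElement

namespace Cfsg.Agent.H7

variable {G Ω : Type*} [Group G] [MulAction G Ω] {a b : Ω} {Q : Subgroup G}

theorem Ker.cj' (k : Ker a Q) (g : G) : Ker (g • a) (cj Q g) where
  fix u hu := by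
    have := k.fix _ (mem_cj.1 hu)
    rwa [mul_smul, mul_smul, inv_smul_eq_iff] at this
  norm x hx u hu := by
    rw [mem_cj] at hu ⊢
    have := k.norm (g⁻¹ * x * g) (by rw [mul_smul, mul_smul, hx, inv_smul_smul]) _ hu
    convert this using 1; group
  reg y z hy hz := by
    obtain ⟨u, hu, e⟩ := k.exists_smul (y := g⁻¹ • y) (z := g⁻¹ • z)
      (fun e => hy (by rw [← e, smul_inv_smul])) (fun e => hz (by rw [← e, smul_inv_smul]))
    refine ⟨⟨g * u * g⁻¹, conj_mem_cj hu⟩, by simp [mul_smul, e], fun v hv => Subtype.ext ?_⟩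
    have := k.eq_of_smul (mem_cj.1 v.2) hu (y := g⁻¹ • y)
      (fun e => hy (by rw [← e, smul_inv_smul])) (by simp [mul_smul, e, hv])
    show (v : G) = g * u * g⁻¹
    rw [← this]; group

theorem St_cj (g : G) : St G (g • a) (g • b) = cj (St G a b) g := by
  ext x
  simp only [mem_St, mem_cj, mul_smul, inv_smul_eq_iff]

theorem ZO.cj' (h : ZO a b Q) (g : G) : ZO (g • a) (g • b) (cj Q g) where
  z := h.z
  h3 := h.h3
  ne e := h.ne (smul_left_cancel g e)
  k := h.k.cj' g
  odd := by rw [St_cj, card_cj]; exact h.odd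
  nt := by rw [St_cj, Ne, cj_eq_bot_iff]; exact h.nt
  ex := by
    obtain ⟨s, h1, h2⟩ := h.ex
    exact ⟨g * s * g⁻¹, by simp [mul_smul, h1], by simp [mul_smul, h2]⟩
  inv s h1 h2 x hx := by
    rw [St_cj, mem_cj] at hx
    have := h.inv (g⁻¹ * s * g) (by simp [mul_smul, h1]) (by simp [mul_smul, h2]) _ hx
    calc s * x * s⁻¹ = g * (g⁻¹ * s * g * (g⁻¹ * x * g) * (g⁻¹ * s * g)⁻¹) * g⁻¹ := by group
      _ = _ := by rw [this]; group

variable (Ω) in
/-- fixed point free elements -/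
def Fpf (g : G) : Prop := ∀ c : Ω, g • c ≠ c

theorem Fpf.ne_one [Nonempty Ω] {g : G} (h : Fpf Ω g) : g ≠ 1 := by
  rintro rfl
  exact h (Classical.arbitrary Ω) (one_smul _ _)

theorem Fpf.conj {g : G} (h : Fpf Ω g) (x : G) : Fpf Ω (x * g * x⁻¹) := fun c e =>
  h (x⁻¹ • c) (by rwa [mul_smul, mul_smul, smul_eq_iff_eq_inv_smul] at e)

theorem Fpf.inv {g : G} (h : Fpf Ω g) : Fpf Ω g⁻¹ := fun c e =>
  h c (by rw [inv_smul_eq_iff] at e; exact e.symm)

variable [Finite G] [Finite Ω]

namespace ZO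

theorem trans (h : ZO a b Q) : IsPretransitive G Ω := h.z.trans h.ne

theorem exists_pair (h : ZO a b Q) {c d : Ω} (hcd : c ≠ d) : ∃ g : G, g • a = c ∧ g • b = d :=
  mt_two h.z.two h.ne hcd

theorem exists_smul (h : ZO a b Q) (c : Ω) : ∃ g : G, g • a = c :=
  haveI := h.trans; exists_smul_eq G a c

theorem Q_le (h : ZO a b Q) : Q ≤ stabilizer G a := fun u hu => h.k.fix u hu

theorem stab_coatom (h : ZO a b Q) : IsCoatom (stabilizer G a) := by
  refine ⟨fun e => ?_, fun M hM => ?_⟩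
  · obtain ⟨s, h1, -⟩ := h.ex
    have : s ∈ stabilizer G a := e ▸ mem_top s
    exact h.ne (this.symm.trans h1)
  · obtain ⟨x, hx, hx'⟩ := SetLike.exists_of_lt hM
    rw [eq_top_iff]
    intro g _
    by_cases hg : g • a = a
    · exact hM.le hg
    obtain ⟨u, hu, e⟩ := h.k.exists_smul (y := x • a) hx' hg
    have : (u * x)⁻¹ * g ∈ stabilizer G a := by
      rw [mem_stabilizer_iff, mul_smul, inv_smul_eq_iff, mul_smul, e]
    have h2 := M.mul_mem (M.mul_mem (hM.le (h.Q_le hu)) hx) (hM.le this)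
    rwa [mul_inv_cancel_left] at h2

theorem perfect (h : ZO a b Q) : commutator G = ⊤ := by
  obtain ⟨s, h1, h2⟩ := h.ex
  have hH : St G a b ≤ commutator G := fun x hx => by
    obtain ⟨k, hk⟩ := odd_orderOf_of_mem h.odd hx
    have e := h.inv s h1 h2 _ ((St G a b).pow_mem hx k)
    have : ⁅s, x ^ k⁆ = x := by
      rw [commutatorElement_def, e, ← mul_inv_rev, ← pow_add, inv_eq_iff_mul_eq_one,
        ← pow_succ, ← two_mul, ← hk, pow_orderOf_eq_one]
    exact this ▸ commutator_mem_commutator (mem_top _) (mem_top _)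
  obtain ⟨x, hx, x1⟩ := (St G a b).bot_or_exists_ne_one.resolve_left h.nt
  have hQ := h.k.le_normal h.z h.ne hx x1 (hH hx)
  have hB : stabilizer G a ≤ commutator G := fun g hg => by
    obtain ⟨u, hu, y, hy, rfl⟩ := h.k.decomp h.ne.symm hg
    exact mul_mem (hQ hu) (hH hy)
  rcases hB.lt_or_eq with e | e
  · exact h.stab_coatom.2 _ e
  · haveI := h.trans
    haveI := h.z.faithful h.h3
    have := eq_bot_of_normal_le_stabilizer (N := commutator G) inferInstance e.ge
    exact absurd (le_bot_iff.1 (this ▸ hH)) h.nt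

theorem solvable_stab (h : ZO a b Q) : Group.IsSolvable (stabilizer G a) := by
  haveI := h.nil
  haveI : Group.IsNilpotent (Q.subgroupOf (stabilizer G a)) :=
    nilpotent_of_mulEquiv (subgroupOfEquivOfLe h.Q_le).symm
  haveI := h.k.normal
  haveI : IsMulCommutative (stabilizer G a ⧸ Q.subgroupOf (stabilizer G a)) :=
    Subgroup.Normal.quotient_commutative_iff_commutator_le.2 h.commutator_le
  haveI : Group.IsSolvable (stabilizer G a ⧸ Q.subgroupOf (stabilizer G a)) :=
    Group.isSolvable_of_comm fun x y => mul_comm' x y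
  exact Group.isSolvable_of_ker_le_range (Q.subgroupOf (stabilizer G a)).subtype
    (QuotientGroup.mk' (Q.subgroupOf (stabilizer G a))) (by simp)

theorem simple (h : ZO a b Q) : IsSimpleGroup G := by
  haveI := h.trans
  haveI := h.z.faithful h.h3
  haveI : Nontrivial G := by
    obtain ⟨x, -, x1⟩ := (St G a b).bot_or_exists_ne_one.resolve_left h.nt
    exact ⟨x, 1, x1⟩
  refine ⟨fun N hN => ?_⟩
  by_cases h0 : N = ⊥
  · exact Or.inl h0
  right
  have h1 : ¬ N ≤ stabilizer G a := fun e => h0 (eq_bot_of_normal_le_stabilizer hN e)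
  have h2 : stabilizer G a ⊔ N = ⊤ := h.stab_coatom.2 _ (left_lt_sup.2 h1)
  haveI := h.solvable_stab
  haveI : Group.IsSolvable (G ⧸ N) := by
    refine Group.isSolvable_of_surjective
      (f := (QuotientGroup.mk' N).comp (stabilizer G a).subtype) fun y => ?_
    obtain ⟨g, rfl⟩ := QuotientGroup.mk'_surjective N y
    have : g ∈ stabilizer G a ⊔ N := h2 ▸ mem_top g
    rw [← SetLike.mem_coe, mul_normal] at this
    obtain ⟨x, hx, n, hn, rfl⟩ := this
    refine ⟨⟨x, hx⟩, ?_⟩
    simp [(QuotientGroup.eq_one_iff n).2 hn]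
  by_contra h3
  haveI := QuotientGroup.nontrivial_iff.2 h3
  have h4 := Group.IsSolvable.commutator_lt_top_of_nontrivial (G ⧸ N)
  have h5 : commutator (G ⧸ N) = ⊤ := by
    have := map_commutator ⊤ ⊤ (QuotientGroup.mk' N)
    rw [map_top_of_surjective _ (QuotientGroup.mk'_surjective N)] at this
    rw [_root_.commutator_def, ← this, ← _root_.commutator_def, h.perfect,
      map_top_of_surjective _ (QuotientGroup.mk'_surjective N)]
  exact h4.ne h5

theorem zass (h : ZO a b Q) : IsZassenhausGroup G Ω := by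
  obtain ⟨x, hx, x1⟩ := (St G a b).bot_or_exists_ne_one.resolve_left h.nt
  refine ⟨h.z.faithful h.h3, h.z.two, h.z.three, ⟨x, x1, a, b, h.ne, hx.1, hx.2⟩,
    fun N hN ht => ⟨a, ?_⟩⟩
  haveI := h.simple
  rcases hN.eq_bot_or_eq_top with rfl | rfl
  · obtain ⟨g, e⟩ := ht.exists_smul_eq a b
    rw [Subsingleton.elim g 1, one_smul] at e
    exact absurd e h.ne
  · intro e
    have : (⟨x, mem_top x⟩ : (⊤ : Subgroup G)) ∈ stabilizer (⊤ : Subgroup G) a := hx.1
    rw [e] at this
    exact x1 (congrArg Subtype.val (mem_bot.1 this))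

theorem card_St (h : ZO a b Q) {c d : Ω} (hcd : c ≠ d) :
    Nat.card (St G c d) = Nat.card (St G a b) := (h.z.card_St_eq h.ne hcd).symm

/-- trichotomy for elements -/
theorem tri (h : ZO a b Q) (x : G) :
    (∃ g, x ∈ cj Q g) ∨ (∃ g, x ∈ cj (St G a b) g) ∨ Fpf Ω x := by
  by_cases h1 : Fpf Ω x
  · exact Or.inr (Or.inr h1)
  simp only [Fpf, not_forall, not_not] at h1
  obtain ⟨c, hc⟩ := h1
  obtain ⟨g, rfl⟩ := h.exists_smul c
  by_cases h2 : x ∈ cj Q g
  · exact Or.inl ⟨g, h2⟩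
  obtain ⟨u, -, hu⟩ := (h.cj' g).k.exists_conj h.z (h.cj' g).ne.symm hc h2
  rw [St_cj, mem_cj] at hu
  exact Or.inr (Or.inl ⟨u⁻¹ * g, mem_cj.2 (by simpa [mul_assoc] using hu)⟩)

theorem fix_of_comm (h : ZO a b Q) {u x : G} (hu : u ∈ Q) (h1 : u ≠ 1) (e : x * u = u * x) :
    x • a = a := h.k.fix_of_conj hu h1 (by rw [e, mul_inv_cancel_right]; exact h.k.fix u hu)

theorem cent_Q (h : ZO a b Q) {u x : G} (hu : u ∈ Q) (h1 : u ≠ 1) (e : x * u = u * x) :
    x ∈ Q := by
  by_contra hx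
  obtain ⟨v, hv, e2⟩ := h.k.exists_conj h.z h.ne.symm (h.fix_of_comm hu h1 e) hx
  have := h.k.cent h.z h.ne.symm e2 (fun e3 => hx (by
    rw [show x = 1 by simpa using e3]; exact one_mem _))
    (Q.mul_mem (Q.mul_mem hv hu) (Q.inv_mem hv)) (by
      calc _ = v * (x * u) * v⁻¹ := by group
        _ = _ := by rw [e]; group)
  exact h1 (by simpa using this)

theorem cent_St (h : ZO a b Q) {y x : G} (hy : y ∈ St G a b) (h1 : y ≠ 1) (e : x * y = y * x) :
    x ∈ St G a b := by
  rcases mem_Pair_of_conj h.z h.ne hy h1 (g := x) (by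
    rwa [mul_assoc, ← e, inv_mul_cancel_left]) with e1 | ⟨e1, e2⟩
  · exact e1
  · have := h.inv x e1 e2 y hy
    rw [e, mul_inv_cancel_right] at this
    exact absurd (eq_one_of_sq (odd_orderOf_of_mem h.odd hy) (mul_eq_one_iff_eq_inv.2 this)) h1

theorem centralizer_St (h : ZO a b Q) {y : G} (hy : y ∈ St G a b) (h1 : y ≠ 1) :
    centralizer {y} = St G a b := by
  ext x
  rw [mem_centralizer_singleton_iff]
  exact ⟨h.cent_St hy h1, fun hx => h.comm x hx y hy⟩

theorem normalizer_St (h : ZO a b Q) : normalizer (St G a b : Set G) = Pair G a b := by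
  obtain ⟨y, hy, y1⟩ := (St G a b).bot_or_exists_ne_one.resolve_left h.nt
  ext x
  exact ⟨fun hx => mem_Pair_of_conj h.z h.ne hy y1 (conj_mem_of_mem_normalizer' hx hy),
    fun hx => mem_normalizer_of_cj_le fun _ ⟨z, hz, e⟩ => e ▸ conj_mem_St hx hz⟩

theorem card_normalizer_St (h : ZO a b Q) :
    Nat.card (normalizer (St G a b : Set G)) = 2 * Nat.card (St G a b) := by
  obtain ⟨s, h1, h2⟩ := h.ex
  rw [h.normalizer_St, card_Pair h.ne h1 h2]

/-- elements commuting with a fixed point free element are fixed point free -/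
theorem fpf_of_comm (h : ZO a b Q) {g x : G} (hg : Fpf Ω g) (h1 : x ≠ 1) (e : g * x = x * g) :
    Fpf Ω x := by
  rcases h.tri x with ⟨k, hk⟩ | ⟨k, hk⟩ | hk
  · exact absurd ((h.cj' k).fix_of_comm hk h1 e) (hg _)
  · rw [← St_cj] at hk
    exact absurd ((h.cj' k).cent_St hk h1 e).1 (hg _)
  · exact hk

theorem card_dvd_of_fpf (h : ZO a b Q) {A : Subgroup G} (hA : ∀ x ∈ A, x ≠ 1 → Fpf Ω x) :
    Nat.card A ∣ Nat.card Q + 1 := by
  rw [← h.card_Ω]
  refine card_dvd_card_of_semiregular fun c g e => ?_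
  by_contra h1
  exact hA g g.2 (fun e => h1 (Subtype.ext e)) c e

theorem card_fpf [Fintype G] [DecidablePred (Fpf (G := G) Ω)] (h : ZO a b Q) :
    2 * (Finset.univ.filter (Fpf (G := G) Ω)).card + Nat.card Q * (Nat.card Q - 1) =
      Nat.card G := by
  classical
  haveI := Fintype.ofFinite Ω
  let k : G → ℕ := fun x => (Finset.univ.filter fun c : Ω => x • c = c).card
  have hΩ : Fintype.card Ω = Nat.card Q + 1 := by rw [← h.card_Ω, Nat.card_eq_fintype_card]
  have hst : ∀ c : Ω, (Finset.univ.filter fun x : G => x • c = c).card =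
      Nat.card Q * Nat.card (St G a b) := fun c => by
    haveI := h.trans
    rw [← h.card_N, card_stabilizer_eq_of_transitive a c, Nat.card_eq_fintype_card,
      Fintype.card_subtype]
    rfl
  have h1 : ∑ x, k x = Nat.card G := by
    simp only [k, Finset.card_filter]
    rw [Finset.sum_comm]
    simp only [← Finset.card_filter, hst]
    rw [Finset.sum_const, Finset.card_univ, hΩ, h.card_G, smul_eq_mul]
  have h2 : ∑ x, k x * k x = 2 * Nat.card G := by
    simp only [k, Finset.card_filter, Finset.sum_mul_sum, ite_zero_mul_ite_zero, mul_one]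
    rw [Finset.sum_comm]
    have : ∀ c : Ω, ∑ x : G, ∑ d : Ω, (if x • c = c ∧ x • d = d then 1 else 0) =
        2 * (Nat.card Q * Nat.card (St G a b)) := fun c => by
      rw [Finset.sum_comm, ← Finset.add_sum_erase _ _ (Finset.mem_univ c)]
      simp only [← Finset.card_filter, and_self, hst]
      rw [Finset.sum_congr rfl (g := fun _ => Nat.card (St G a b)) fun d hd => by
        rw [← h.card_St (Finset.ne_of_mem_erase hd).symm, Nat.card_eq_fintype_card,
          Fintype.card_subtype]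
        simp only [mem_St]]
      rw [Finset.sum_const, Finset.card_erase_of_mem (Finset.mem_univ _), Finset.card_univ, hΩ,
        smul_eq_mul, Nat.add_sub_cancel, two_mul]
    simp only [this]
    rw [Finset.sum_const, Finset.card_univ, hΩ, h.card_G, smul_eq_mul]; ring
  have h3 : ∀ x : G, k x * k x + 2 = 3 * k x + ((if Fpf Ω x then 2 else 0) +
      if x = 1 then Nat.card Q * (Nat.card Q - 1) else 0) := fun x => by
    by_cases x1 : x = 1
    · haveI : Nonempty Ω := ⟨a⟩
      subst x1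
      have : k 1 = Nat.card Q + 1 := by simp [k, hΩ]
      rw [if_neg (fun e => e.ne_one rfl), if_pos rfl, this]
      obtain ⟨n, hn⟩ : ∃ n, Nat.card Q = n + 1 := ⟨_, (Nat.succ_pred_eq_of_pos Nat.card_pos).symm⟩
      rw [hn, Nat.add_sub_cancel]; ring
    have h4 : k x ≤ 2 := by
      have := h.z.fix_le x1
      rwa [Set.ncard_eq_toFinset_card', show (fixedBy Ω x).toFinset =
        Finset.univ.filter fun c : Ω => x • c = c by ext; simp] at this
    have h5 : Fpf Ω x ↔ k x = 0 := by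
      simp [k, Fpf, Finset.filter_eq_empty_iff]
    simp only [if_neg x1, h5]
    interval_cases k x <;> simp
  have h4 := Finset.sum_congr rfl fun x (_ : x ∈ Finset.univ) => h3 x
  simp only [Finset.sum_add_distrib, ← Finset.mul_sum, h1, h2, Finset.sum_ite_eq',
    Finset.mem_univ, if_true, ← Finset.sum_filter, Finset.sum_const, smul_eq_mul,
    Finset.card_univ, ← Nat.card_eq_fintype_card] at h4
  have e : (Finset.univ.filter fun x : G => Fpf Ω x) = Finset.univ.filter (Fpf (G := G) Ω) := by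
    congr
  rw [e] at h4
  omega

end ZO

/-- Zassenhaus groups whose Frobenius kernel is a 2-group -/
structure ZT (a b : Ω) (Q : Subgroup G) : Prop extends ZO a b Q where
  two : IsPGroup 2 Q

namespace ZT

theorem cj' (h : ZT a b Q) (g : G) : ZT (g • a) (g • b) (cj Q g) :=
  ⟨h.toZO.cj' g, H8.IsPGroup.cj h.two g⟩

theorem transfer {G' : Type*} [Group G'] [MulAction G' Ω] (h : ZT a b Q) (e : G ≃* G')
    (he : ∀ (g : G) (c : Ω), e g • c = g • c) : ZT a b (Q.map e.toMonoidHom) := by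
  have hS : St G' a b = (St G a b).map e.toMonoidHom := by
    ext x
    obtain ⟨x, rfl⟩ := e.surjective x
    rw [mem_St, he, he]
    exact (mem_map_iff_mem (f := e.toMonoidHom) (K := St G a b) (x := x) e.injective).symm
  refine ⟨⟨⟨?_, fun g c d f h1 h2 h3 => ?_⟩, h.h3, h.ne, ⟨?_, ?_, fun y z hy hz => ?_⟩, ?_, ?_, ?_, ?_⟩,
    h.two.map _⟩
  · rw [is_two_pretransitive_iff]
    intro c d c' d' h1 h2
    obtain ⟨g, e1, e2⟩ := mt_two h.z.two h1 h2
    exact ⟨e g, by rw [he, e1], by rw [he, e2]⟩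
  · obtain ⟨g, rfl⟩ := e.surjective g
    rw [he, he, he]
    intro e1 e2 e3
    rw [h.z.three g c d f h1 h2 h3 e1 e2 e3, map_one]
  · rintro _ ⟨u, hu, rfl⟩
    exact (he u a).trans (h.k.fix u hu)
  · rintro g hg _ ⟨u, hu, rfl⟩
    obtain ⟨g, rfl⟩ := e.surjective g
    exact ⟨_, h.k.norm g (by rwa [he] at hg) u hu, by simp⟩
  · obtain ⟨u, hu, e1⟩ := h.k.exists_smul hy hz
    refine ⟨⟨e u, u, hu, rfl⟩, (he u y).trans e1, ?_⟩
    rintro ⟨_, v, hv, rfl⟩ e2
    obtain rfl := h.k.eq_of_smul hv hu hy (((he v y).symm.trans e2).trans e1.symm)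
    rfl
  · rw [hS, card_map_of_injective e.injective]; exact h.odd
  · rw [hS, Ne, map_eq_bot_iff_of_injective _ e.injective]; exact h.nt
  · obtain ⟨s, h1, h2⟩ := h.ex
    exact ⟨e s, by rw [he, h1], by rw [he, h2]⟩
  · intro s h1 h2
    obtain ⟨s, rfl⟩ := e.surjective s
    rw [hS]
    rintro _ ⟨x, hx, rfl⟩
    rw [he] at h1 h2
    have := congrArg e (h.inv s h1 h2 x hx)
    simpa using this

theorem card_St_transfer {G' : Type*} [Group G'] [MulAction G' Ω] (e : G ≃* G')
    (he : ∀ (g : G) (c : Ω), e g • c = g • c) : Nat.card (St G' a b) = Nat.card (St G a b) := by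
  have hS : St G' a b = (St G a b).map e.toMonoidHom := by
    ext x
    obtain ⟨x, rfl⟩ := e.surjective x
    rw [mem_St, he, he]
    exact (mem_map_iff_mem (f := e.toMonoidHom) (K := St G a b) (x := x) e.injective).symm
  rw [hS, card_map_of_injective e.injective]

theorem even (h : ZT a b Q) : Even (Nat.card Q) := by
  obtain ⟨k, hk⟩ := IsPGroup.iff_card.1 h.two
  have := h.two_le
  rw [hk] at this ⊢
  rcases k with _ | k
  · simp at this
  · exact ⟨2 ^ k, by ring⟩

theorem index_Q (h : ZT a b Q) : Q.index = (Nat.card Q + 1) * Nat.card (St G a b) := by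
  apply Nat.eq_of_mul_eq_mul_left (Nat.card_pos (α := Q))
  rw [Q.card_mul_index, h.card_G]; ring

theorem not_dvd_index (h : ZT a b Q) : ¬ 2 ∣ Q.index := by
  rw [h.index_Q, Nat.two_dvd_ne_zero, ← Nat.odd_iff]
  exact h.even.add_one.mul h.odd

/-- the kernel as a Sylow 2-subgroup -/
def syl (h : ZT a b Q) : Sylow 2 G := h.two.toSylow h.not_dvd_index

theorem syl_coe (h : ZT a b Q) : (h.syl : Subgroup G) = Q := rfl

theorem exists_cj (h : ZT a b Q) (P : Sylow 2 G) : ∃ g, (P : Subgroup G) = cj Q g := by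
  obtain ⟨g, rfl⟩ := exists_smul_eq G h.syl P
  exact ⟨g, rfl⟩

theorem exists_syl (h : ZT a b Q) (g : G) : ∃ P : Sylow 2 G, (P : Subgroup G) = cj Q g :=
  ⟨g • h.syl, rfl⟩

theorem exists_le_cj (h : ZT a b Q) {P : Subgroup G} (hP : IsPGroup 2 P) : ∃ g, P ≤ cj Q g := by
  obtain ⟨S, hS⟩ := hP.exists_le_sylow
  obtain ⟨g, e⟩ := h.exists_cj S
  exact ⟨g, e ▸ hS⟩

theorem normalizer_Q (h : ZT a b Q) : normalizer (Q : Set G) = stabilizer G a :=
  h.k.normalizer_eq h.h3

theorem mem_of_two (h : ZT a b Q) {x : G} (hx : x • a = a) {k : ℕ} (e : x ^ 2 ^ k = 1) :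
    x ∈ Q := by
  by_contra h1
  obtain ⟨u, -, hu⟩ := h.k.exists_conj h.z h.ne.symm hx h1
  have h2 := odd_orderOf_of_mem h.odd hu
  rw [orderOf_conj'] at h2
  have h3 := (Nat.Coprime.pow_right k (Nat.coprime_two_right.2 h2)).eq_one_of_dvd
    (orderOf_dvd_of_pow_eq_one e)
  exact h1 (orderOf_eq_one_iff.1 h3 ▸ one_mem _)

theorem coprime_succ (h : ZT a b Q) :
    (Nat.card Q + 1).Coprime (Nat.card Q * Nat.card (St G a b)) := by
  refine Nat.Coprime.mul_right (by simp) ?_
  refine Nat.Coprime.coprime_dvd_right h.e_dvd ?_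
  obtain ⟨n, hn⟩ : ∃ n, Nat.card Q = n + 1 := ⟨_, (Nat.succ_pred_eq_of_pos Nat.card_pos).symm⟩
  have := h.even
  rw [hn] at this ⊢
  rw [Nat.add_sub_cancel, show n + 1 + 1 = 2 + n by ring, Nat.coprime_add_self_left,
    Nat.coprime_two_left]
  exact Nat.even_add_one.1 this |> Nat.not_even_iff_odd.1

theorem fpf_of_dvd (h : ZT a b Q) {x : G} (h1 : x ≠ 1) (hx : orderOf x ∣ Nat.card Q + 1) :
    Fpf Ω x := fun c e => by
  haveI := h.trans
  have h2 : orderOf x ∣ Nat.card (stabilizer G c) := orderOf_dvd_natCard _ e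
  rw [← card_stabilizer_eq_of_transitive a c, h.card_N] at h2
  exact h1 (orderOf_eq_one_iff.1 (Nat.eq_one_of_dvd_coprimes h.coprime_succ hx h2))

theorem dvd_of_fpf (h : ZT a b Q) {x : G} (hx : Fpf Ω x) : orderOf x ∣ Nat.card Q + 1 := by
  rw [← Nat.card_zpowers]
  refine h.card_dvd_of_fpf fun y hy y1 => h.fpf_of_comm hx y1 ?_
  obtain ⟨k, rfl⟩ := hy
  exact (Commute.self_zpow x k).eq

end ZT

end Cfsg.Agent.H7
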