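import Cfsg.Agent.H7.ZT2
import Cfsg.Agent.H7.Zass5

/-! Characters of Zassenhaus groups: principal series, cuspidal and exceptional characters. -/

set_option autoImplicit false
set_option linter.unusedSectionVars false

open Cfsg MulAction Subgroup Cfsg.Agent.H8 Cfsg.Agent.H3 Cfsg.Agent.PF
open scoped ComplexConjugate Classical

namespace Cfsg.Agent.H7

variable {G Ω : Type*} [Group G] [MulAction G Ω] {a b : Ω} {Q A A' : Subgroup G}
variable [Fintype G] [Finite Ω] {χ θ : G → ℂ}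

variable (G) in
/-- the Steinberg character -/
noncomputable def stb (a : Ω) : G → ℂ := indFun (stabilizer G a) (fun _ => 1) - fun _ => 1

/-- the sum of the values on a subgroup -/
noncomputable def sQ (Q : Subgroup G) (χ : G → ℂ) : ℂ := ∑ u : Q, χ u

/-- characters of the principal series -/
structure PS (a b : Ω) (Q : Subgroup G) (θ : G → ℂ) : Prop where
  one : θ 1 = Nat.card Q + 1
  onQ : ∀ u ∈ Q, u ≠ 1 → θ u = 1
  onH : ∀ y ∈ St G a b, y ≠ 1 → ‖θ y‖ ≤ 2
  fpf : ∀ g, Fpf Ω g → θ g = 0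

theorem conj_ne_one' (x : G) {g : G} (e : g ≠ 1) : x⁻¹ * g * x ≠ 1 := fun h =>
  e (by simpa [mul_assoc] using congrArg (fun y => x * y * x⁻¹) h)

theorem ind_fpf (μ : stabilizer G a → ℂ) {g : G} (hg : Fpf Ω g) : indFun _ μ g = 0 :=
  indFun_eq_zero_of_not_conj _ fun x hx => hg.conj x a hx

theorem stb_fpf {g : G} (hg : Fpf Ω g) : stb G a g = -1 := by simp [stb, ind_fpf _ hg]

theorem sQ_one : sQ Q (fun _ => 1) = Nat.card Q := by simp [sQ]

theorem PS.sQ (h : PS a b Q θ) : sQ Q θ = 2 * Nat.card Q := by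
  rw [H7.sQ, sum_of_const h.onQ, h.one]; ring

namespace ZO

theorem not_mem_Q (h : ZO a b Q) {y : G} (hy : y ∈ St G a b) (h1 : y ≠ 1) : y ∉ Q :=
  fun hq => h1 (h.k.eq_one hq h.ne.symm hy.2)

theorem stb_irr (h : ZO a b Q) : IsIrrCharacter G (stb G a) := h.irr_St

theorem stb_one (h : ZO a b Q) : stb G a 1 = Nat.card Q := by simp [stb, indFun_one, h.index_N]

theorem stb_Q (h : ZO a b Q) {u : G} (hu : u ∈ Q) (h1 : u ≠ 1) : stb G a u = 0 := by
  have := h.ind_F (isClassFunction_const 1) (x := ⟨u, h.Q_le hu⟩) hu fun e => h1 (by simpa using e)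
  simp only at this
  simp [stb, this]

theorem stb_St (h : ZO a b Q) {y : G} (hy : y ∈ St G a b) (h1 : y ≠ 1) : stb G a y = 1 := by
  have := h.ind_off (isClassFunction_const 1) (x := ⟨y, hy.1⟩) (h.not_mem_Q hy h1)
  simp only at this
  simp [stb, this]

theorem sQ_stb (h : ZO a b Q) : sQ Q (stb G a) = Nat.card Q := by
  rw [sQ, sum_of_const fun _ => h.stb_Q, h.stb_one]; ring

theorem sum_sub (h : ZO a b Q) (f : G → ℂ) :
    ∑ x : Q.subgroupOf (stabilizer G a), f x = sQ Q f :=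
  Fintype.sum_equiv (subgroupOfEquivOfLe h.Q_le).toEquiv _ _ fun _ => rfl

theorem irr_cases' (h : ZO a b Q) (hθ : IsIrrCharacter G θ) (h0 : sQ Q θ ≠ 0) :
    θ = (fun _ => 1) ∨ θ = stb G a ∨ PS a b Q θ := by
  haveI := h.k.normal
  rw [← h.sum_sub] at h0
  have h1 := hθ.isClassFunction.res (stabilizer G a)
  obtain ⟨μ, hμ, h2, h3⟩ := h1.exists_irr_of_inner_ne_zero
    (ψ := indFun (Q.subgroupOf (stabilizer G a)) fun _ => 1) (by
      rw [inner_ind1 _ h1]; exact mul_ne_zero (inv_ne_zero card_ne_zero) h0)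
  have h4 : Q.subgroupOf (stabilizer G a) ≤ charKer μ := by
    by_contra h4
    have : μ ∈ (SI (Q.subgroupOf (stabilizer G a)) (Q.subgroupOf (stabilizer G a)) ⊥ : Set _) := by
      rw [← C3.frob_set (h.k.frobK h.z h.h3 h.ne.symm h.nt)]
      refine ⟨hμ, by_contra fun e => h4 fun z hz => hμ.mem_charKer_iff.2 ?_⟩
      exact by_contra fun e' => e ⟨z, hz, e'⟩
    exact h3 (classInner_eq_zero_comm.1 (SI.ind_one_inner le_rfl this))
  have h5 := hμ.degree_eq_one_iff.2 (h.commutator_le.trans h4)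
  have h6 : ∀ u : stabilizer G a, (u : G) ∈ Q → μ u = 1 := fun u hu =>
    (apply_of_mem_charKer (h4 hu)).trans h5
  rw [← classInner_indFun_right _ hθ.isClassFunction] at h2
  by_cases h7 : μ = fun _ => 1
  · by_contra! h8
    refine h2 ?_
    rw [h7, ← sub_add_cancel (indFun _ _) (fun _ => 1), classInner_add_right,
      hθ.inner_of_ne h.irr_St h8.2.1, hθ.inner_of_ne isIrrCharacter_one h8.1, add_zero]
  · obtain rfl := hθ.eq_of_inner_ne_zero (h.irr_ind hμ.isCharacter h5 h6 h7) h2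
    refine Or.inr (Or.inr ⟨by rw [indFun_one, h.index_N, h5]; simp, fun x hx e => ?_,
      fun y hy e => ?_, fun g hg => ind_fpf _ hg⟩)
    · rw [h.ind_F hμ.isClassFunction (x := ⟨x, h.Q_le hx⟩) hx fun e' => e (by simpa using e'),
        h6 _ hx]
    · rw [h.ind_off hμ.isClassFunction (x := ⟨y, hy.1⟩) (h.not_mem_Q hy e)]
      have h8 := hμ.isCharacter.norm_apply_le
      rw [charDegree_eq (n := 1) (by simpa using h5), Nat.cast_one] at h8
      exact (norm_add_le _ _).trans (by linarith [h8 ⟨y, hy.1⟩, h8 (⟨y, hy.1⟩ : stabilizer G a)⁻¹])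

theorem cusp_St (h : ZO a b Q) (hχ : IsCharacter G χ) (h0 : sQ Q χ = 0) {y : G}
    (hy : y ∈ St G a b) (h1 : y ≠ 1) : χ y = 0 := by
  haveI := h.k.normal
  have h2 := (hχ.res (stabilizer G a)).avg (N := Q.subgroupOf (stabilizer G a))
  have h3 := congrFun (h2.eq_zero_of_apply_one (by
    simp only [avg_apply, mul_one, h.sum_sub, h0, mul_zero])) ⟨y, hy.1⟩
  rw [avg_apply, Finset.sum_congr rfl (g := fun _ => χ y) fun n _ => ?_] at h3
  · simpa using h3
  · obtain ⟨w, hw, e⟩ := h.k.exists_comm h.z h.ne.symm hy h1 n.2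
    rw [← hχ.isClassFunction.conj_apply y w]
    congr 1
    rw [Subgroup.coe_mul, show ((n : stabilizer G a) : G) = _ from e]; simp

/-- the characters of the principal series -/
noncomputable def PSs (a b : Ω) (Q : Subgroup G) : Finset (IrrCharacter G) :=
  Finset.univ.filter fun θ => PS a b Q θ

/-- the cuspidal characters -/
noncomputable def Cs (Q : Subgroup G) : Finset (IrrCharacter G) :=
  Finset.univ.filter fun θ => sQ Q θ = 0

theorem mem_PSs {θ : IrrCharacter G} : θ ∈ PSs a b Q ↔ PS a b Q θ := by simp [PSs]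

theorem mem_Cs {θ : IrrCharacter G} : θ ∈ Cs Q ↔ sQ Q θ = 0 := by simp [Cs]

theorem sum_irr (h : ZO a b Q) {M : Type*} [AddCommMonoid M] (f : (G → ℂ) → M) :
    ∑ χ : IrrCharacter G, f χ = f (fun _ => 1) + f (stb G a) + ∑ χ ∈ PSs a b Q, f χ +
      ∑ χ ∈ Cs Q, f χ := by
  have n0 : (Nat.card Q : ℂ) ≠ 0 := card_ne_zero
  have n1 : (Nat.card Q : ℂ) ≠ 1 := by exact_mod_cast (by have := h.two_le; omega)
  have n2 : (Nat.card Q : ℂ) ≠ 2 * Nat.card Q := fun e => n0 (by linear_combination -e)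
  have e : (Finset.univ : Finset (IrrCharacter G)) = insert ⟨_, isIrrCharacter_one⟩
      (insert ⟨_, h.stb_irr⟩ (PSs a b Q ∪ Cs Q)) := by
    ext χ
    simp only [Finset.mem_univ, Finset.mem_insert, Finset.mem_union, mem_PSs, mem_Cs, true_iff,
      Subtype.ext_iff]
    have := h.irr_cases' χ.2
    tauto
  rw [e, Finset.sum_insert, Finset.sum_insert, Finset.sum_union, add_assoc, add_assoc]
  · rw [Finset.disjoint_left]
    intro χ h1 h2
    rw [mem_Cs, (mem_PSs.1 h1).sQ] at h2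
    exact n0 (by linear_combination h2 / 2)
  · rw [Finset.mem_union, mem_PSs, mem_Cs, not_or]
    exact ⟨fun h1 => n2 (h.sQ_stb.symm.trans h1.sQ), fun h1 => n0 (h.sQ_stb.symm.trans h1)⟩
  · rw [Finset.mem_insert, Finset.mem_union, mem_PSs, mem_Cs, not_or, not_or]
    exact ⟨fun h1 => n1 (h.stb_one.symm.trans (congrFun (congrArg Subtype.val h1) 1).symm),
      fun h1 => n2 (sQ_one.symm.trans h1.sQ), fun h1 => n0 (sQ_one.symm.trans h1)⟩

theorem exists_Q (h : ZO a b Q) : ∃ u ∈ Q, u ≠ 1 :=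
  Q.bot_or_exists_ne_one.resolve_left (h.k.ne_bot h.h3)

theorem card_PSs (h : ZO a b Q) : 2 * (PSs a b Q).card + 1 = Nat.card (St G a b) := by
  obtain ⟨u, hu, h1⟩ := h.exists_Q
  have n0 : (Nat.card Q : ℂ) ≠ 0 := card_ne_zero
  have h2 := (isClassFunction_indFun Q fun _ => 1).apply_eq_sum_irr u
  have h3 : ∀ χ : IrrCharacter G, ⟪indFun Q fun _ => 1, χ⟫ = (Nat.card Q : ℂ)⁻¹ * conj (sQ Q χ) :=
    fun χ => by rw [← conj_classInner, inner_ind1 _ χ.2.isClassFunction]; simp [sQ]
  have h4 : ∑ x : G, extendByZero Q (fun _ => 1) (x * u * x⁻¹) = Nat.card (stabilizer G a) := by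
    rw [sum_of_supp (H := stabilizer G a) fun x hx => extendByZero_of_not_mem _ fun e =>
      hx (h.k.fix_of_conj hu h1 (h.k.fix _ e)), Finset.sum_congr rfl (g := fun _ => 1)
        fun x _ => extendByZero_of_mem _ (h.k.norm _ x.2 u hu)]
    simp
  simp only [h3] at h2
  rw [h.sum_irr fun χ => (Nat.card Q : ℂ)⁻¹ * conj (sQ Q χ) * χ u, indFun_apply', h4, h.card_N,
    h.stb_Q hu h1, sQ_one, Finset.sum_congr rfl (g := fun _ => 2) fun χ hχ => ?_,
    Finset.sum_eq_zero (s := Cs Q) fun χ hχ => by simp [mem_Cs.1 hχ]] at h2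
  · simp only [Finset.sum_const, nsmul_eq_mul, map_natCast, Nat.cast_mul, mul_zero, add_zero,
      mul_one, inv_mul_cancel₀ n0, inv_mul_cancel_left₀ n0] at h2
    exact_mod_cast (by linear_combination -h2 :
      (2 * (PSs a b Q).card + 1 : ℂ) = Nat.card (St G a b))
  · rw [(mem_PSs.1 hχ).sQ, (mem_PSs.1 hχ).onQ u hu h1]
    simp only [map_mul, map_natCast, map_ofNat]
    field_simp

/-- a cuspidal character does not vanish on all fixed point free elements -/
theorem exists_fpf (h : ZO a b Q) (hχ : IsIrrCharacter G χ) (h0 : sQ Q χ = 0) :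
    ∃ g, Fpf Ω g ∧ χ g ≠ 0 := by
  by_contra! h1
  have n0 : (Nat.card Q : ℂ) ≠ 0 := card_ne_zero
  have h2 := hχ.inner_of_ne h.stb_irr fun e => n0 (by rw [← h.sQ_stb, ← e, h0])
  rw [classInner_def, Finset.sum_eq_single 1 (fun g _ e => ?_) (by simp), h.stb_one] at h2
  · simp [hχ.apply_one_ne_zero] at h2
  · rcases h.tri g with ⟨x, hx⟩ | ⟨x, hx⟩ | hg
    · rw [← h.stb_irr.isClassFunction.conj_apply' g x, h.stb_Q (mem_cj.1 hx) (conj_ne_one' x e)]
      simp
    · rw [← hχ.isClassFunction.conj_apply' g x,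
        h.cusp_St hχ.isCharacter h0 (mem_cj.1 hx) (conj_ne_one' x e), zero_mul]
    · rw [h1 g hg, zero_mul]

end ZO

/-- the action of the normaliser on the irreducible characters -/
noncomputable def cjI (n : normalizer (A : Set G)) (μ : IrrCharacter A) : IrrCharacter A :=
  ⟨fun x => μ.1 (A.normalizerMonoidHom n x), μ.2.comp_equiv _⟩

variable (A) in
/-- the principal character -/
abbrev trI : IrrCharacter A := ⟨fun _ => 1, isIrrCharacter_one⟩

/-- the special generalized characters of a torus -/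
noncomputable def al (μ : IrrCharacter A) : G → ℂ := indFun A ((fun _ => 1) - μ.1)

variable {μ μ' : IrrCharacter A}

theorem coe_nmh (n : normalizer (A : Set G)) (x : A) :
    (A.normalizerMonoidHom n x : G) = n * x * (n : G)⁻¹ := rfl

theorem al_gen : IsGeneralizedCharacter G (al μ) := (isGen_one.sub μ.2.isGen).ind

theorem cjI_ne (n : normalizer (A : Set G)) (h : μ ≠ trI A) : cjI n μ ≠ trI A := fun e =>
  h (Subtype.ext (funext fun x => by
    simpa [cjI] using congrFun (congrArg Subtype.val e) ((A.normalizerMonoidHom n).symm x)))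

theorem al_cjI (n : normalizer (A : Set G)) (μ : IrrCharacter A) : al (cjI n μ) = al μ :=
  indFun_eq_of_conj (n : G) (fun x => mem_normalizer_iff.1 n.2 x) _ _ fun _ => rfl

namespace ZTT

theorem comm' (h : ZTT a b Q) (hA : Tor Ω A) : IsMulCommutative A :=
  ⟨⟨fun x y => Subtype.ext (h.tcomm hA x.2 y.2)⟩⟩

theorem deg (h : ZTT a b Q) (hA : Tor Ω A) (μ : IrrCharacter A) : μ.1 1 = 1 :=
  haveI := h.comm' hA
  μ.2.degree_eq_one_of_comm

theorem al_off (h : ZTT a b Q) (hA : Tor Ω A) (μ : IrrCharacter A) {g : G}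
    (hg : ∀ x : G, x * g * x⁻¹ ∈ A → g = 1) : al μ g = 0 :=
  indFun_eq_zero_of_forall _ fun x hx => by
    obtain rfl := hg x hx
    rw [show (⟨_, hx⟩ : A) = 1 from Subtype.ext (by simp)]
    simp [h.deg hA]

theorem al_fix (h : ZTT a b Q) (hA : Tor Ω A) (μ : IrrCharacter A) {g : G} (hg : ¬ Fpf Ω g) :
    al μ g = 0 :=
  h.al_off hA μ fun x hx => by_contra fun e => hg (by
    simpa [mul_assoc] using (h.fpf hA hx (by simpa using e)).conj x⁻¹)

theorem al_res (h : ZTT a b Q) (hA : Tor Ω A) (μ : IrrCharacter A) : (fun g : A => al μ g) =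
    (Nat.card A : ℂ)⁻¹ • ∑ n : normalizer (A : Set G), ((fun _ => 1) - (cjI n μ).1) := by
  ext g
  simp only [Pi.smul_apply, Finset.sum_apply, smul_eq_mul]
  by_cases hg : g = 1
  · subst hg
    rw [h.al_off hA μ (g := (1 : A)) fun _ _ => rfl]
    simp [h.deg hA]
  · rw [al, indFun_apply', sum_of_supp (H := normalizer (A : Set G)) fun x hx =>
      extendByZero_of_not_mem _ fun e => hx (h.mem_normalizer hA g.2 (by simpa using hg) e)]
    congr 1
    exact Finset.sum_congr rfl fun n _ => extendByZero_coe _ (A.normalizerMonoidHom n g)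

theorem inner_al (h : ZTT a b Q) (hA : Tor Ω A) (h1 : μ ≠ trI A) (h2 : μ' ≠ trI A) :
    ⟪al μ, al μ'⟫ = ee A + (Nat.card A : ℂ)⁻¹ *
      (Finset.univ.filter fun n : normalizer (A : Set G) => cjI n μ = μ').card := by
  have n0 : (Nat.card A : ℂ) ≠ 0 := card_ne_zero
  rw [al, al, classInner_indFun_right _ (isClassFunction_indFun _ _)]
  erw [h.al_res hA]
  rw [classInner_smul_left, classInner_sum_left, Finset.sum_congr rfl
    (g := fun n => 1 + if cjI n μ = μ' then 1 else 0) fun n _ => ?_, Finset.sum_add_distrib,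
    Finset.sum_boole, Finset.sum_const, Finset.card_univ, ← Nat.card_eq_fintype_card,
    card_normalizer]
  · simp only [nsmul_eq_mul, Nat.cast_mul]
    field_simp
  · have e1 := irr_inner (trI A) μ'
    have e2 := irr_inner (cjI n μ) (trI A)
    rw [if_neg h2.symm] at e1
    rw [if_neg (cjI_ne n h1)] at e2
    isimp [e1, e2, isIrrCharacter_one.inner_self, irr_inner, sub_neg_eq_add]

theorem cjI_eq_iff (h : ZTT a b Q) (hA : Tor Ω A) (h1 : μ ≠ trI A) {n : normalizer (A : Set G)} :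
    cjI n μ = μ ↔ (n : G) ∈ A := by
  refine ⟨fun e => by_contra fun hn => h1 (Subtype.ext (funext fun x => ?_)), fun hn =>
    Subtype.ext (funext fun x => congrArg μ.1 (Subtype.ext ?_))⟩
  · haveI := h.comm' hA
    have h2 : Function.Injective fun y : A => A.normalizerMonoidHom n y * y⁻¹ := fun y z e' => by
      have e2 : A.normalizerMonoidHom n (z⁻¹ * y) = z⁻¹ * y := by
        rw [map_mul, map_inv, inv_mul_eq_iff_eq_mul, ← mul_assoc]
        simp only at e'
        rw [← e', inv_mul_cancel_right]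
      refine (inv_mul_eq_one.1 (by_contra fun e3 => hn ?_)).symm
      exact (h.cent hA (z⁻¹ * y).2 fun e => e3 (Subtype.ext e)).le
        (mem_centralizer_singleton_iff.2 (mul_inv_eq_iff_eq_mul.1 (congrArg Subtype.val e2)))
    obtain ⟨y, rfl⟩ := Finite.surjective_of_injective h2 x
    have h3 := μ.2.isCharacter.map_mul_of_degree_one (h.deg hA μ)
    have h4 : μ.1 (A.normalizerMonoidHom n y) = μ.1 y := congrFun (congrArg Subtype.val e) y
    simp only
    rw [h3, h4, ← h3, mul_inv_cancel, h.deg hA]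
  · rw [coe_nmh, h.tcomm hA hn x.2, mul_inv_cancel_right]

theorem inner_al_self (h : ZTT a b Q) (hA : Tor Ω A) (h1 : μ ≠ trI A) :
    ⟪al μ, al μ⟫ = ee A + 1 := by
  rw [h.inner_al hA h1 h1, ← Fintype.card_subtype, ← Nat.card_eq_fintype_card,
    Nat.card_congr ((Equiv.subtypeEquivRight fun n => h.cjI_eq_iff hA h1).trans
      (subgroupOfEquivOfLe le_normalizer).toEquiv), inv_mul_cancel₀ card_ne_zero]

theorem inner_al_ne (h : ZTT a b Q) (hA : Tor Ω A) (h1 : μ ≠ trI A) (h2 : μ' ≠ trI A)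
    (hne : al μ ≠ al μ') : ⟪al μ, al μ'⟫ = ee A := by
  rw [h.inner_al hA h1 h2, Finset.filter_false_of_mem fun n _ e => hne (by rw [← e, al_cjI])]
  simp

variable (A) in
/-- the set of special characters -/
noncomputable def Al : Finset (G → ℂ) := (Finset.univ.erase (trI A)).image al

theorem mem_Al {α : G → ℂ} : α ∈ Al A ↔ ∃ μ, μ ≠ trI A ∧ al μ = α := by simp [Al]

theorem card_Al (h : ZTT a b Q) (hA : Tor Ω A) : ee A * (Al A).card + 1 = Nat.card A := by
  have n0 : (Nat.card A : ℂ) ≠ 0 := card_ne_zero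
  have h1 : Fintype.card (IrrCharacter A) = Nat.card A := by
    have := sum_irr_degree_sq (G := A)
    simp only [h.deg hA, one_pow, Finset.sum_const, Finset.card_univ, nsmul_eq_mul, mul_one] at this
    exact_mod_cast this
  rw [← h1, ← Finset.card_univ, ← Finset.card_erase_add_one (Finset.mem_univ (trI A)),
    Finset.card_eq_sum_card_image al, Finset.sum_congr rfl (g := fun _ => ee A) fun α hα => ?_,
    Finset.sum_const, smul_eq_mul, mul_comm, Al]
  obtain ⟨μ, hμ, rfl⟩ := mem_Al.1 hα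
  have h2 := Finset.card_eq_sum_card_fiberwise (s := Finset.univ) (f := fun n => cjI n μ)
    (t := (Finset.univ.erase (trI A)).filter fun μ' => al μ' = al μ) fun n _ => by
      simp [cjI_ne n hμ, al_cjI]
  rw [Finset.card_univ, ← Nat.card_eq_fintype_card, card_normalizer,
    Finset.sum_congr rfl (g := fun _ => Nat.card A) fun μ' hμ' => ?_, Finset.sum_const,
    smul_eq_mul] at h2
  · exact (Nat.eq_of_mul_eq_mul_right Nat.card_pos h2).symm
  · simp only [Finset.mem_filter, Finset.mem_erase] at hμ'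
    have h3 := h.inner_al hA hμ hμ'.1.1
    rw [hμ'.2, h.inner_al_self hA hμ, add_right_inj, eq_inv_mul_iff_mul_eq₀ n0, mul_one] at h3
    exact_mod_cast h3.symm

theorem inner_al_const (h : ZTT a b Q) (hA : Tor Ω A) (h1 : μ ≠ trI A) (hχ : IsClassFunction G χ)
    {c : ℂ} (hc : ∀ g ∈ A, g ≠ 1 → χ g = c) : ⟪χ, al μ⟫ = c := by
  have e2 := irr_inner (trI A) μ
  rw [if_neg h1.symm] at e2
  rw [al, classInner_indFun_right _ hχ, ← conj_classInner,
    inner_congr_of_supp (S := {x | x ≠ 1}) (γ := c • fun _ => 1), conj_classInner]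
  · isimp [e2, isIrrCharacter_one.inner_self]
  · intro x hx
    obtain rfl : x = 1 := by simpa using hx
    simp [h.deg hA]
  · intro x hx
    simpa using hc x x.2 (by simpa using hx)

theorem const_of_inner (h : ZTT a b Q) (hA : Tor Ω A) (hχ : IsClassFunction G χ) {c : ℂ}
    (hc : ∀ α ∈ Al A, ⟪χ, α⟫ = c) {g : G} (hg : g ∈ A) (h1 : g ≠ 1) : χ g = c := by
  have h2 := (hχ.res A).apply_eq_sum_irr ⟨g, hg⟩
  have h3 := sum_irr_degree_mul_of_ne (g := (⟨g, hg⟩ : A)) (by simpa using h1)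
  simp only [h.deg hA, one_mul] at h2 h3
  rw [h2, Finset.sum_congr rfl (g := fun μ => (⟪fun x : A => χ x, fun _ => 1⟫ - c) * μ.1 ⟨g, hg⟩ +
    if μ = trI A then c else 0) fun μ _ => ?_, Finset.sum_add_distrib, ← Finset.mul_sum, h3]
  · simp
  · split_ifs with e
    · subst e; simp
    · have := hc _ (mem_Al.2 ⟨μ, e, rfl⟩)
      rw [al, classInner_indFun_right _ hχ, classInner_sub_right] at this
      rw [← this]; ring

theorem real (h : ZTT a b Q) (hA : Tor Ω A) (he : Even (ee A)) {g : G} (hg : g ∈ A) :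
    IsConj g g⁻¹ := by
  obtain ⟨t, ht⟩ := exists_prime_orderOf_dvd_card' (G := normalizer (A : Set G)) 2
    (by rw [card_normalizer]; exact he.two_dvd.mul_right _)
  have h1 : (t : G) * t = 1 := by
    rw [← Subgroup.coe_mul, ← pow_two, ← ht, pow_orderOf_eq_one, Subgroup.coe_one]
  have h2 : (t : G) * g * (t : G)⁻¹ ∈ A := (mem_normalizer_iff.1 t.2 g).1 hg
  refine isConj_iff.2 ⟨t, eq_inv_of_mul_eq_one_left (by_contra fun e => ?_)⟩
  have h3 : (t : G) ∈ A := by
    refine (h.cent hA (A.mul_mem h2 hg) e).le (mem_centralizer_singleton_iff.2 ?_)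
    conv_rhs => rw [h.tcomm hA h2 hg]
    simp only [← mul_assoc, h1, one_mul, inv_eq_of_mul_eq_one_right h1]
    simp only [mul_assoc, h1, mul_one]
  have h4 := (h.odd_card hA).of_dvd_nat (A.orderOf_dvd_natCard h3)
  rw [Subgroup.orderOf_coe, ht] at h4
  exact absurd h4 (by decide)

theorem al_real (h : ZTT a b Q) (hA : Tor Ω A) (he : Even (ee A)) (g : G) :
    conj (al μ g) = al μ g := by
  by_cases hg : ∃ x : G, x * g * x⁻¹ ∈ A
  · obtain ⟨x, hx⟩ := hg
    rw [← al_gen.isClassFunction.conj_apply g x, ← al_gen.apply_inv,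
      ← al_gen.isClassFunction.eq_of_isConj (h.real hA he hx)]
  · rw [h.al_off hA μ fun x hx => absurd ⟨x, hx⟩ hg, map_zero]

end ZTT
end Cfsg.Agent.H7
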