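import Cfsg.Agent.H7.ZT3

/-! The character table of Zassenhaus groups of Suzuki type. -/

set_option autoImplicit false
set_option linter.unusedSectionVars false

open Cfsg MulAction Subgroup Cfsg.Agent.H8 Cfsg.Agent.H3 Cfsg.Agent.PF
open scoped ComplexConjugate Classical

namespace Cfsg.Agent.H7

variable {G Ω : Type*} [Group G] [MulAction G Ω] {a b : Ω} {Q A A₁ A₂ : Subgroup G}
variable [Fintype G] [Finite Ω] {χ W β β' α α' : G → ℂ} {σ ρ : G} {r : ℕ}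

/-- the sum of a character and its complex conjugate -/
def WW (W : G → ℂ) : G → ℂ := W + fun g => conj (W g)

theorem WW_gen (hW : IsIrrCharacter G W) : IsGeneralizedCharacter G (WW W) :=
  hW.isGen.add hW.conj.isGen

theorem inner_WW (hW : IsIrrCharacter G W) (hβ : IsGeneralizedCharacter G β)
    (hr : ∀ g, conj (β g) = β g) : ⟪WW W, β⟫ = 2 * ⟪W, β⟫ := by
  have := classInner_conj_conj W β
  simp only [hr] at this
  rw [WW, classInner_add_left, this, hβ.inner_comm hW.isGen, two_mul]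

theorem WW_WW (hW : IsIrrCharacter G W) (hn : W ≠ fun g => conj (W g)) : ⟪WW W, WW W⟫ = 2 := by
  rw [inner_WW hW (WW_gen hW) fun g => by simp [WW, add_comm], WW, classInner_add_right,
    hW.inner_self, hW.inner_of_ne hW.conj hn]
  simp

theorem three_a (hW : IsIrrCharacter G W) (hn : W ≠ fun g => conj (W g))
    (hβ : IsGeneralizedCharacter G β) (hr : ∀ g, conj (β g) = β g) (h3 : ⟪β, β⟫ = 3)
    (h0 : ⟪W, β⟫ ≠ 0) : ⟪W, β⟫ = 1 ∨ ⟪W, β⟫ = -1 := by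
  obtain ⟨k, hk⟩ := hW.isGen.exists_int_inner hβ
  have h1 := norm_inner_sq_le_mul (WW W) β
  rw [inner_WW hW hβ hr, hk, nrm_eq_natCast (n := 2) (WW_WW hW hn), nrm_eq_natCast (n := 3) h3,
    norm_mul, Complex.norm_intCast, mul_pow, sq_abs] at h1
  have h2 : 4 * k ^ 2 ≤ 6 := by
    have : (4 * k ^ 2 : ℝ) ≤ 6 := by norm_num at h1; linarith
    exact_mod_cast this
  have h4 : k ≠ 0 := by rintro rfl; exact h0 (by simpa using hk)
  have : k = 1 ∨ k = -1 := by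
    have : -1 ≤ k ∧ k ≤ 1 := by constructor <;> nlinarith
    omega
  rcases this with rfl | rfl <;> simp [hk]

theorem inner_sub_WW (hW : IsIrrCharacter G W) (hn : W ≠ fun g => conj (W g))
    (hβ : IsGeneralizedCharacter G β) (hr : ∀ g, conj (β g) = β g)
    (hβ' : IsGeneralizedCharacter G β') (hr' : ∀ g, conj (β' g) = β' g) :
    ⟪β - ⟪W, β⟫ • WW W, β' - ⟪W, β'⟫ • WW W⟫ = ⟪β, β'⟫ - 2 * ⟪W, β⟫ * ⟪W, β'⟫ := by
  obtain ⟨k, hk⟩ := hW.isGen.exists_int_inner hβ'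
  isimp [hβ.inner_comm (WW_gen hW), inner_WW hW hβ hr, inner_WW hW hβ' hr', WW_WW hW hn, hk]
  ring

theorem three_b (hW : IsIrrCharacter G W) (hn : W ≠ fun g => conj (W g))
    (hβ : IsGeneralizedCharacter G β) (hr : ∀ g, conj (β g) = β g) (h3 : ⟪β, β⟫ = 3)
    (h0 : ⟪W, β⟫ ≠ 0) (hβ' : IsGeneralizedCharacter G β') (hr' : ∀ g, conj (β' g) = β' g)
    (h3' : ⟪β', β'⟫ = 3) {s : ℤ} (hs : ⟪β, β'⟫ = 2 * s) : ⟪W, β'⟫ = s * ⟪W, β⟫ := by
  obtain ⟨k, hk⟩ := hW.isGen.exists_int_inner hβ'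
  obtain ⟨e, he⟩ := hW.isGen.exists_int_inner hβ
  have h4 : (e : ℂ) ^ 2 = 1 := by rcases three_a hW hn hβ hr h3 h0 with h | h <;> simp [← he, h]
  have h1 := norm_inner_sq_le_mul (β - ⟪W, β⟫ • WW W) β'
  rw [nrm_eq_one (by rw [inner_sub_WW hW hn hβ hr hβ hr, h3, he]; linear_combination -2 * h4),
    nrm_eq_natCast (n := 3) h3', classInner_sub_left, classInner_smul_left, inner_WW hW hβ' hr',
    hs, hk, he, show (2 * s - e * (2 * k) : ℂ) = (2 * (s - e * k) : ℤ) by push_cast; ring,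
    Complex.norm_intCast, sq_abs] at h1
  have h2 : (2 * (s - e * k)) ^ 2 ≤ 3 := by
    have : ((2 * (s - e * k) : ℤ) ^ 2 : ℝ) ≤ 3 := by simpa using h1
    exact_mod_cast this
  have h6 : s = e * k := by
    nlinarith [sq_nonneg (s - e * k), Int.le_self_sq (s - e * k), Int.le_self_sq (e * k - s)]
  have h5 : (s : ℂ) = e * k := by exact_mod_cast h6
  rw [hk, he, h5]; linear_combination -k * h4

/-- the class structure of a Suzuki group -/
structure SzT (a b : Ω) (Q A₁ A₂ : Subgroup G) (σ ρ : G) (r : ℕ) : Prop extends ZTT a b Q where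
  t1 : Tor Ω A₁
  t2 : Tor Ω A₂
  e1 : ZTT.ee A₁ = 4
  e2 : ZTT.ee A₂ = 4
  c1 : Nat.card A₁ = 2 * r ^ 2 + 2 * r + 1
  c2 : Nat.card A₂ + 2 * r = 2 * r ^ 2 + 1
  cQ : Nat.card Q = (2 * r ^ 2) ^ 2
  cH : Nat.card (St G a b) + 1 = 2 * r ^ 2
  r2 : 2 ≤ r
  cov : ∀ g, Fpf Ω g → (∃ x : G, x * g * x⁻¹ ∈ A₁) ∨ ∃ x : G, x * g * x⁻¹ ∈ A₂
  sep : ∀ g ∈ A₁, ∀ x : G, x * g * x⁻¹ ∈ A₂ → g = 1
  σQ : σ ∈ Q
  σ1 : σ ≠ 1
  σ2 : σ * σ = 1
  ρQ : ρ ∈ Q
  ρ4 : orderOf ρ = 4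
  nr : ¬ IsConj ρ ρ⁻¹
  cρ : Nat.card (centralizer {ρ}) = 4 * r ^ 2
  cls : ∀ u ∈ Q, u = 1 ∨ IsConj σ u ∨ IsConj ρ u ∨ IsConj ρ⁻¹ u

variable (a) in
/-- the cuspidal part of a special character -/
noncomputable def be (α : G → ℂ) : G → ℂ := α - (fun _ => 1) + stb G a

/-- properties of special characters -/
structure Spc (a : Ω) (α : G → ℂ) : Prop where
  gen : IsGeneralizedCharacter G α
  real : ∀ g, conj (α g) = α g
  fix : ∀ g, ¬ Fpf Ω g → α g = 0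
  const : ∀ χ, IsClassFunction G χ → ∀ c, (∀ g, Fpf Ω g → χ g = c) → ⟪χ, α⟫ = c
  five : ⟪α, α⟫ = 5

theorem ZTT.spc (h : ZTT a b Q) (hA : Tor Ω A) (he : ZTT.ee A = 4) (hα : α ∈ ZTT.Al A) :
    Spc a α := by
  obtain ⟨μ, hμ, rfl⟩ := ZTT.mem_Al.1 hα
  exact ⟨al_gen, h.al_real hA (by rw [he]; decide), fun g => h.al_fix hA μ,
    fun χ hχ c hc => h.inner_al_const hA hμ hχ fun g hg h1 => hc g (h.fpf hA hg h1),
    by rw [h.inner_al_self hA hμ, he]; norm_num⟩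

namespace Spc

theorem be_gen (h : ZO a b Q) (s : Spc a α) : IsGeneralizedCharacter G (be a α) :=
  (s.gen.sub isGen_one).add h.stb_irr.isGen

theorem be_real (s : Spc a α) (g : G) : conj (be a α g) = be a α g := by
  have := congrFun (indFun_conj (H := stabilizer G a) fun _ => 1) g
  simp only [map_one] at this
  simp [be, stb, s.real, ← this]

theorem one (s : Spc a α) : ⟪fun _ => 1, α⟫ = 1 := s.const _ (isClassFunction_const 1) _ fun _ _ => rfl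

theorem stb (h : ZO a b Q) (s : Spc a α) : ⟪stb G a, α⟫ = -1 :=
  s.const _ h.stb_irr.isClassFunction _ fun _ => stb_fpf

theorem stb_ne (h : ZO a b Q) : H7.stb G a ≠ fun _ => 1 := fun e => by
  have h1 := h.stb_one
  rw [e, eq_comm, Nat.cast_eq_one] at h1
  have := h.two_le; omega

theorem inner_be (h : ZO a b Q) (s : Spc a α) (s' : Spc a α') :
    ⟪be a α, be a α'⟫ = ⟪α, α'⟫ - 2 := by
  have h1 := h.stb_irr.inner_of_ne isIrrCharacter_one (stb_ne h)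
  isimp [be, s.gen.inner_comm isGen_one, s.gen.inner_comm h.stb_irr.isGen, s.one, s'.one, s.stb h,
    s'.stb h, h1, isGen_one.inner_comm h.stb_irr.isGen, h.stb_irr.inner_self,
    isIrrCharacter_one.inner_self]
  ring

theorem inner_cusp (h : ZO a b Q) (hχ : IsIrrCharacter G χ) (h0 : sQ Q χ = 0) :
    ⟪χ, be a α⟫ = ⟪χ, α⟫ := by
  have n0 : (Nat.card Q : ℂ) ≠ 0 := card_ne_zero
  isimp [be, hχ.inner_of_ne isIrrCharacter_one fun e => n0 (by rw [← sQ_one, ← e, h0]),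
    hχ.inner_of_ne h.stb_irr fun e => n0 (by rw [← h.sQ_stb, ← e, h0])]

theorem inner_nc (h : ZO a b Q) (s : Spc a α) (hχ : IsIrrCharacter G χ) (h0 : sQ Q χ ≠ 0) :
    ⟪χ, be a α⟫ = 0 := by
  have n0 : (Nat.card Q : ℂ) ≠ 0 := card_ne_zero
  have h1 := h.stb_irr.inner_of_ne isIrrCharacter_one (stb_ne h)
  rcases h.irr_cases' hχ h0 with rfl | rfl | hp
  · isimp [be, s.one, isGen_one.inner_comm h.stb_irr.isGen, h1, hχ.inner_self]
  · isimp [be, s.stb h, h1, hχ.inner_self]; ring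
  · have n2 : ∀ ψ, sQ Q ψ = Nat.card Q → χ ≠ ψ := fun ψ e e' => n0 (by
      have := hp.sQ; rw [e', e] at this; linear_combination -this)
    isimp [be, s.const _ hχ.isClassFunction _ hp.fpf, hχ.inner_of_ne isIrrCharacter_one
      (n2 _ sQ_one), hχ.inner_of_ne h.stb_irr (n2 _ h.sQ_stb)]

end Spc

namespace SzT
open ZO ZTT

theorem ρ1 (h : SzT a b Q A₁ A₂ σ ρ r) : ρ ≠ 1 := fun e => by simpa [e] using h.ρ4

theorem spc (h : SzT a b Q A₁ A₂ σ ρ r) (hα : α ∈ Al A₁ ∪ Al A₂) : Spc a α :=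
  (Finset.mem_union.1 hα).elim (h.toZTT.spc h.t1 h.e1) (h.toZTT.spc h.t2 h.e2)

theorem zero12 (h : SzT a b Q A₁ A₂ σ ρ r) (hα : α ∈ Al A₁) {g : G} (hg : g ∈ A₂) : α g = 0 := by
  obtain ⟨μ, -, rfl⟩ := mem_Al.1 hα
  exact h.al_off h.t1 μ fun x hx => by
    simpa using h.sep _ hx x⁻¹ (by simpa [mul_assoc] using hg)

theorem zero21 (h : SzT a b Q A₁ A₂ σ ρ r) (hα : α ∈ Al A₂) {g : G} (hg : g ∈ A₁) : α g = 0 := by
  obtain ⟨μ, -, rfl⟩ := mem_Al.1 hα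
  exact h.al_off h.t2 μ (h.sep g hg)

theorem inner12 (h : SzT a b Q A₁ A₂ σ ρ r) (hα : α ∈ Al A₁) (hα' : α' ∈ Al A₂) :
    ⟪α, α'⟫ = 0 := by
  have h1 := (h.spc (Finset.mem_union_left _ hα)).gen.isClassFunction
  obtain ⟨μ, hμ, rfl⟩ := mem_Al.1 hα'
  exact h.inner_al_const h.t2 hμ h1 fun g hg _ => h.zero12 hα hg

theorem disj (h : SzT a b Q A₁ A₂ σ ρ r) : Disjoint (Al A₁) (Al A₂) :=
  Finset.disjoint_left.2 fun α h1 h2 => by
    have := h.inner12 h1 h2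
    rw [(h.spc (Finset.mem_union_left _ h1)).five] at this
    norm_num at this

variable (A₁) in
/-- the sign of a special character -/
noncomputable def sgn (α : G → ℂ) : ℤ := if α ∈ Al A₁ then 1 else -1

theorem sgn1 (hα : α ∈ Al A₁) : sgn A₁ α = 1 := if_pos hα

theorem sgn2 (h : SzT a b Q A₁ A₂ σ ρ r) (hα : α ∈ Al A₂) : sgn A₁ α = -1 :=
  if_neg (Finset.disjoint_right.1 h.disj hα)

theorem sgn_sq : (sgn A₁ α : ℂ) ^ 2 = 1 := by unfold sgn; split_ifs <;> simp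

theorem inner_be (h : SzT a b Q A₁ A₂ σ ρ r) (hα : α ∈ Al A₁ ∪ Al A₂) (hα' : α' ∈ Al A₁ ∪ Al A₂)
    (hne : α ≠ α') : ⟪be a α, be a α'⟫ = 2 * (sgn A₁ α * sgn A₁ α' : ℤ) := by
  have h4 : ∀ {A : Subgroup G}, Tor Ω A → ee A = 4 → α ∈ Al A → α' ∈ Al A → ⟪α, α'⟫ = 4 :=
    fun hA he h1 h2 => by
      obtain ⟨μ, hμ, rfl⟩ := mem_Al.1 h1
      obtain ⟨μ', hμ', rfl⟩ := mem_Al.1 h2
      rw [h.inner_al_ne hA hμ hμ' hne, he]; rfl
  rw [(h.spc hα).inner_be h.toZO (h.spc hα')]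
  rcases Finset.mem_union.1 hα with h1 | h1 <;> rcases Finset.mem_union.1 hα' with h2 | h2
  · rw [h4 h.t1 h.e1 h1 h2, sgn1 h1, sgn1 h2]; norm_num
  · rw [h.inner12 h1 h2, sgn1 h1, h.sgn2 h2]; norm_num
  · rw [classInner_eq_zero_comm.1 (h.inner12 h2 h1), h.sgn2 h1, sgn1 h2]; norm_num
  · rw [h4 h.t2 h.e2 h1 h2, h.sgn2 h1, h.sgn2 h2]; norm_num

theorem exists_al (h : SzT a b Q A₁ A₂ σ ρ r) (hχ : IsIrrCharacter G χ) (h0 : sQ Q χ = 0) :
    ∃ α ∈ Al A₁ ∪ Al A₂, ⟪χ, be a α⟫ ≠ 0 := by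
  by_contra! h1
  simp only [Spc.inner_cusp h.toZO hχ h0] at h1
  obtain ⟨g, hg, h2⟩ := h.exists_fpf hχ h0
  haveI : Nonempty Ω := ⟨a⟩
  rcases h.cov g hg with ⟨x, hx⟩ | ⟨x, hx⟩ <;> rw [← hχ.isClassFunction.conj_apply g x] at h2
  · exact h2 (h.const_of_inner h.t1 hχ.isClassFunction
      (fun α hα => h1 α (Finset.mem_union_left _ hα)) hx (hg.conj x).ne_one)
  · exact h2 (h.const_of_inner h.t2 hχ.isClassFunction
      (fun α hα => h1 α (Finset.mem_union_right _ hα)) hx (hg.conj x).ne_one)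

theorem sum_sq (h : SzT a b Q A₁ A₂ σ ρ r) : ∑ χ : IrrCharacter G, χ.1 ρ ^ 2 = 0 := by
  rw [← sum_irr_mul_conj_of_not_isConj h.nr]
  exact Finset.sum_congr rfl fun χ _ => by rw [χ.2.apply_inv, Complex.conj_conj, sq]

theorem exists_W (h : SzT a b Q A₁ A₂ σ ρ r) : ∃ W, IsIrrCharacter G W ∧ sQ Q W = 0 ∧
    (W ≠ fun g => conj (W g)) ∧ ∃ ε : ℂ, ε ^ 2 = 1 ∧
      ∀ α ∈ Al A₁ ∪ Al A₂, ⟪W, be a α⟫ = ε * sgn A₁ α := by
  obtain ⟨W, hW, h1⟩ : ∃ W, IsIrrCharacter G W ∧ conj (W ρ) ≠ W ρ := by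
    by_contra! h1
    exact h.nr (isConj_iff_forall_irr.2 fun χ hχ => by rw [hχ.apply_inv, h1 χ hχ])
  have h0 : sQ Q W = 0 := by
    by_contra h0
    rcases h.irr_cases' hW h0 with rfl | rfl | hp
    · simp at h1
    · simp [h.stb_Q h.ρQ h.ρ1] at h1
    · simp [hp.onQ ρ h.ρQ h.ρ1] at h1
  have hn : W ≠ fun g => conj (W g) := fun e => h1 (congrFun e ρ).symm
  obtain ⟨α, hα, h2⟩ := h.exists_al hW h0
  have h3 : ∀ α ∈ Al A₁ ∪ Al A₂, ⟪be a α, be a α⟫ = 3 := fun α hα => by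
    rw [(h.spc hα).inner_be h.toZO (h.spc hα), (h.spc hα).five]; norm_num
  have s := h.spc hα
  refine ⟨W, hW, h0, hn, sgn A₁ α * ⟪W, be a α⟫, ?_, fun α' hα' => ?_⟩
  · rcases three_a hW hn (s.be_gen h.toZO) s.be_real (h3 α hα) h2 with e | e <;>
      simp [e, sgn_sq]
  · by_cases e : α = α'
    · subst e; linear_combination -⟪W, be a α⟫ * sgn_sq (A₁ := A₁) (α := α)
    · rw [three_b hW hn (s.be_gen h.toZO) s.be_real (h3 α hα) h2 ((h.spc hα').be_gen h.toZO)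
        (h.spc hα').be_real (h3 α' hα') (h.inner_be hα hα' e)]
      push_cast; ring

theorem sum_even (h : SzT a b Q A₁ A₂ σ ρ r) (hW : IsIrrCharacter G W) (h0 : sQ Q W = 0)
    (hn : W ≠ fun g => conj (W g)) {ε : ℂ} (hε : ε ^ 2 = 1)
    (hw : ∀ α ∈ Al A₁ ∪ Al A₂, ⟪W, be a α⟫ = ε * sgn A₁ α) :
    (∀ α ∈ Al A₁ ∪ Al A₂, IsSIrr G (be a α - (ε * sgn A₁ α) • WW W)) ∧
    ∀ f : (G → ℂ) → ℂ, (∀ α ∈ Al A₁ ∪ Al A₂, ¬ IsIrrCharacter G (be a α - (ε * sgn A₁ α) • WW W) →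
      f (-(be a α - (ε * sgn A₁ α) • WW W)) = f (be a α - (ε * sgn A₁ α) • WW W)) →
      ∑ χ ∈ Cs Q, f χ = f W + f (fun g => conj (W g)) + (∑ α ∈ Al A₁, f (be a α - ε • WW W) +
        ∑ α ∈ Al A₂, f (be a α + ε • WW W)) := by
  set X := fun α => be a α - (ε * sgn A₁ α) • WW W with hX
  have h1 : ∀ α ∈ Al A₁ ∪ Al A₂, ∀ α' ∈ Al A₁ ∪ Al A₂, ⟪X α, X α'⟫ = if α = α' then 1 else 0 := by
    intro α hα α' hα'
    have s := h.spc hα
    have s' := h.spc hα'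
    simp only [hX]
    rw [← hw α hα, ← hw α' hα', inner_sub_WW hW hn (s.be_gen h.toZO) s.be_real (s'.be_gen h.toZO)
      s'.be_real, hw α hα, hw α' hα']
    split_ifs with e
    · subst e
      rw [s.inner_be h.toZO s, s.five]
      linear_combination -2 * ε ^ 2 * sgn_sq (A₁ := A₁) (α := α) - 2 * hε
    · rw [h.inner_be hα hα' e]; push_cast
      linear_combination -2 * sgn A₁ α * sgn A₁ α' * hε
  have h2 : ∀ α ∈ Al A₁ ∪ Al A₂, IsSIrr G (X α) := fun α hα => by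
    obtain ⟨k, hk⟩ := hW.isGen.exists_int_inner ((h.spc hα).be_gen h.toZO)
    refine IsGeneralizedCharacter.isSIrr ?_ (by rw [h1 α hα α hα, if_pos rfl])
    simp only [hX]
    rw [← hw α hα, hk]
    exact ((h.spc hα).be_gen h.toZO).sub ((WW_gen hW).intCast_smul k)
  refine ⟨h2, fun f hf => ?_⟩
  let Y := fun α => if IsIrrCharacter G (X α) then X α else -X α
  have h3 : ∀ α ∈ Al A₁ ∪ Al A₂, IsIrrCharacter G (Y α) := fun α hα => by
    simp only [Y]; split_ifs with e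
    exacts [e, (h2 α hα).resolve_left e]
  have h4 : ∀ φ α, ⟪φ, Y α⟫ = 0 ↔ ⟪φ, X α⟫ = 0 := fun φ α => by
    simp only [Y]; split_ifs <;> simp [classInner_neg_right]
  have h5 : ∀ α ∈ Al A₁ ∪ Al A₂, ⟪Y α, X α⟫ ≠ 0 := fun α hα => by
    rw [Ne, ← h4, (h3 α hα).inner_self]; exact one_ne_zero
  have h0' : sQ Q (fun g => conj (W g)) = 0 := by rw [sQ, ← map_sum]; exact (congrArg conj h0).trans (map_zero _)
  have h6 : ∀ χ, IsIrrCharacter G χ → χ ≠ W → (χ ≠ fun g => conj (W g)) → ∀ α,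
      ⟪χ, X α⟫ = ⟪χ, be a α⟫ := fun χ hχ e e' α => by
    isimp [hX, WW, hχ.inner_of_ne hW e, hχ.inner_of_ne hW.conj e']
  have h7 : ∀ α ∈ Al A₁ ∪ Al A₂, ⟪W, X α⟫ = 0 ∧ ⟪fun g => conj (W g), X α⟫ = 0 := fun α hα => by
    obtain ⟨k, hk⟩ := hW.isGen.exists_int_inner ((h.spc hα).be_gen h.toZO)
    have e1 := inner_WW hW ((h.spc hα).be_gen h.toZO) (h.spc hα).be_real
    rw [WW, classInner_add_left, hk] at e1
    have e2 : ⟪fun g => conj (W g), be a α⟫ = k := by linear_combination e1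
    constructor <;> isimp [hX, ← hw α hα, hk, e2, WW, hW.inner_self, hW.conj.inner_self,
      hW.inner_of_ne hW.conj hn, hW.conj.inner_of_ne hW hn.symm]
  have h8 : (Cs Q).map (Function.Embedding.subtype _) =
      insert W (insert (fun g => conj (W g)) ((Al A₁ ∪ Al A₂).image Y)) := by
    ext χ
    simp only [Finset.mem_map, mem_Cs, Function.Embedding.coe_subtype, Finset.mem_insert,
      Finset.mem_image]
    constructor
    · rintro ⟨χ, e, rfl⟩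
      by_contra! e'
      obtain ⟨α, hα, e2⟩ := h.exists_al χ.2 e
      rw [← h6 _ χ.2 e'.1 e'.2.1, Ne, ← h4] at e2
      exact e'.2.2 α hα (χ.2.eq_of_inner_ne_zero (h3 α hα) e2).symm
    · rintro (rfl | rfl | ⟨α, hα, rfl⟩)
      exacts [⟨⟨_, hW⟩, h0, rfl⟩, ⟨⟨_, hW.conj⟩, h0', rfl⟩, ⟨⟨_, h3 α hα⟩, by_contra fun e =>
        h5 α hα (by rw [h6 _ (h3 α hα) (fun e' => e ((congrArg (sQ Q) e').trans h0))
          (fun e' => e ((congrArg (sQ Q) e').trans h0')),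
          (h.spc hα).inner_nc h.toZO (h3 α hα) e]), rfl⟩]
  rw [show ∑ χ ∈ Cs Q, f χ = ∑ χ ∈ (Cs Q).map (Function.Embedding.subtype _), f χ from
    (Finset.sum_map _ (Function.Embedding.subtype _) f).symm, h8, Finset.sum_insert, Finset.sum_insert, Finset.sum_image,
    Finset.sum_congr rfl (g := fun α => f (X α)) fun α hα => ?_, Finset.sum_union h.disj, add_assoc]
  · congr 3 <;> refine Finset.sum_congr rfl fun α hα => ?_
    · simp [hX, sgn1 hα]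
    · simp [hX, h.sgn2 hα]
  · simp only [Y]; split_ifs with e
    exacts [rfl, hf α hα e]
  · intro α hα α' hα' e
    by_contra e'
    refine h5 α' hα' ?_
    rw [← e, classInner_eq_zero_comm, h4, h1 α' hα' α hα, if_neg (Ne.symm e')]
  · simp only [Finset.mem_image, not_exists, not_and]
    exact fun α hα e => h5 α hα (by rw [e, (h7 α hα).2])
  · simp only [Finset.mem_insert, Finset.mem_image, not_or, not_exists, not_and]
    exact ⟨hn, fun α hα e => h5 α hα (by rw [e, (h7 α hα).1])⟩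

theorem not_fpf (h : SzT a b Q A₁ A₂ σ ρ r) {u : G} (hu : u ∈ Q) : ¬ Fpf Ω u :=
  fun e => e a (h.k.fix u hu)

theorem be_Q (h : SzT a b Q A₁ A₂ σ ρ r) (hα : α ∈ Al A₁ ∪ Al A₂) {u : G} (hu : u ∈ Q)
    (h1 : u ≠ 1) : be a α u = -1 := by
  simp [be, (h.spc hα).fix u (h.not_fpf hu), h.stb_Q hu h1]

theorem be_one (h : SzT a b Q A₁ A₂ σ ρ r) (hα : α ∈ Al A₁ ∪ Al A₂) :
    be a α 1 = (2 * r ^ 2) ^ 2 - 1 := by
  simp only [be, Pi.add_apply, Pi.sub_apply, (h.spc hα).fix 1 (h.not_fpf Q.one_mem), h.stb_one, h.cQ]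
  push_cast; ring

theorem be_St (h : SzT a b Q A₁ A₂ σ ρ r) (hα : α ∈ Al A₁ ∪ Al A₂) {y : G} (hy : y ∈ St G a b)
    (h1 : y ≠ 1) : be a α y = 0 := by
  simp [be, (h.spc hα).fix y fun e => e a hy.1, h.stb_St hy h1]

theorem n1 (h : SzT a b Q A₁ A₂ σ ρ r) : 2 * (Al A₁).card = r ^ 2 + r := by
  have := h.card_Al h.t1
  rw [h.e1, h.c1] at this; omega

theorem n2 (h : SzT a b Q A₁ A₂ σ ρ r) : 2 * (Al A₂).card + r = r ^ 2 := by
  have := h.card_Al h.t2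
  have := h.c2
  rw [h.e2] at *; omega

theorem nP (h : SzT a b Q A₁ A₂ σ ρ r) : (PSs a b Q).card + 1 = r ^ 2 := by
  have := h.card_PSs
  have := h.cH
  omega

theorem nσρ (h : SzT a b Q A₁ A₂ σ ρ r) : ¬ IsConj σ ρ := fun e => by
  obtain ⟨c, rfl⟩ := isConj_iff.1 e
  have := orderOf_dvd_of_pow_eq_one (x := c * σ * c⁻¹) (n := 2) (by rw [conj_pow, sq, h.σ2]; simp)
  rw [h.ρ4] at this
  exact absurd this (by decide)

end SzT

/-- the character table of a Suzuki group -/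
structure Tab (a b : Ω) (Q A₁ A₂ : Subgroup G) (σ ρ : G) (r : ℕ) (W : G → ℂ) : Prop where
  irr : IsIrrCharacter G W
  cusp : sQ Q W = 0
  one : W 1 = r * (2 * r ^ 2 - 1)
  atσ : W σ = -r
  atρ : W ρ ^ 2 = -r ^ 2
  cjρ : conj (W ρ) = -W ρ
  at1 : ∀ g ∈ A₁, g ≠ 1 → W g = 1
  at2 : ∀ g ∈ A₂, g ≠ 1 → W g = -1
  irr1 : ∀ α ∈ ZTT.Al A₁, IsIrrCharacter G (be a α - WW W)
  irr2 : ∀ α ∈ ZTT.Al A₂, IsIrrCharacter G (be a α + WW W)
  sum : ∀ f : (G → ℂ) → ℂ, ∑ χ : IrrCharacter G, f χ = f (fun _ => 1) + f (stb G a) +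
    ∑ χ ∈ ZO.PSs a b Q, f χ + (f W + f (fun g => conj (W g)) +
      (∑ α ∈ ZTT.Al A₁, f (be a α - WW W) + ∑ α ∈ ZTT.Al A₂, f (be a α + WW W)))

open ZO ZTT in
theorem SzT.exists_tab (h : SzT a b Q A₁ A₂ σ ρ r) : ∃ W, Tab a b Q A₁ A₂ σ ρ r W := by
  obtain ⟨W, hW, h0, hn, ε, hε, hw⟩ := h.exists_W
  obtain ⟨hs, hf⟩ := h.sum_even hW h0 hn hε hw
  have n1 : (2 * (Al A₁).card : ℂ) = r ^ 2 + r := by exact_mod_cast h.n1
  have n2 : (2 * (Al A₂).card + r : ℂ) = r ^ 2 := by exact_mod_cast h.n2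
  have nP : ((PSs a b Q).card + 1 : ℂ) = r ^ 2 := by exact_mod_cast h.nP
  have r2 := h.r2
  have r0 : (r : ℂ) ≠ 0 := by exact_mod_cast (by omega : r ≠ 0)
  have hc : conj ε = ε := by rcases sq_eq_one_iff.1 hε with rfl | rfl <;> simp
  have b1 := fun α (hα : α ∈ Al A₁) => h.be_Q (Finset.mem_union_left _ hα) h.ρQ h.ρ1
  have b2 := fun α (hα : α ∈ Al A₂) => h.be_Q (Finset.mem_union_right _ hα) h.ρQ h.ρ1
  have col : ∀ g, (∀ α ∈ Al A₁ ∪ Al A₂, be a α g = be a 0 g) → (∀ θ ∈ PSs a b Q,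
      θ.1 g = 1 + stb G a g) → ∑ χ : IrrCharacter G, χ.1 g * conj (χ.1 ρ) =
      1 + (r ^ 2 - 1) * (1 + stb G a g) + (W g * conj (W ρ) + conj (W g) * W ρ +
        ((r ^ 2 + r) / 2 * ((be a 0 g - ε * WW W g) * (-1 - ε * WW W ρ)) +
          (r ^ 2 - r) / 2 * ((be a 0 g + ε * WW W g) * (-1 + ε * WW W ρ)))) := fun g e1 e2 => by
    have e3 : conj (WW W ρ) = WW W ρ := by simp [WW, add_comm]
    rw [h.sum_irr fun χ => χ g * conj (χ ρ), hf (fun χ => χ g * conj (χ ρ)) fun _ _ _ => by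
        simp only [Pi.neg_apply, map_neg, neg_mul_neg],
      Finset.sum_congr rfl (g := fun _ => 1 + stb G a g) fun χ hχ => by
        rw [e2 χ hχ, (mem_PSs.1 hχ).onQ ρ h.ρQ h.ρ1, map_one, mul_one],
      Finset.sum_congr (s₁ := Al A₁) rfl (g := fun _ => (be a 0 g - ε * WW W g) * (-1 - ε * WW W ρ))
        fun α hα => by simp [e1 α (Finset.mem_union_left _ hα), b1 α hα, hc, e3],
      Finset.sum_congr (s₁ := Al A₂) rfl (g := fun _ => (be a 0 g + ε * WW W g) * (-1 + ε * WW W ρ))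
        fun α hα => by simp [e1 α (Finset.mem_union_right _ hα), b2 α hα, hc, e3],
      h.stb_Q h.ρQ h.ρ1]
    simp only [Finset.sum_const, nsmul_eq_mul, Complex.conj_conj, map_one, map_zero]
    rw [← n1, show (r ^ 2 - r : ℂ) = 2 * (Al A₂).card by linear_combination -n2, ← nP]
    ring
  have colQ : ∀ u ∈ Q, u ≠ 1 → ∑ χ : IrrCharacter G, χ.1 u * conj (χ.1 ρ) =
      r ^ 2 + (W u * conj (W ρ) + conj (W u) * W ρ +
        ((r ^ 2 + r) / 2 * ((-1 - ε * WW W u) * (-1 - ε * WW W ρ)) +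
          (r ^ 2 - r) / 2 * ((-1 + ε * WW W u) * (-1 + ε * WW W ρ)))) := fun u hu h1 => by
    have e : be a 0 u = -1 := by simp [be, h.stb_Q hu h1]
    rw [col u (fun α hα => by rw [h.be_Q hα hu h1, e]) fun θ hθ => by
      rw [(mem_PSs.1 hθ).onQ u hu h1, h.stb_Q hu h1, add_zero], e, h.stb_Q hu h1]
    ring
  have c1 := colQ ρ h.ρQ h.ρ1
  have c2 := colQ ρ⁻¹ (Q.inv_mem h.ρQ) (inv_ne_one.2 h.ρ1)
  have c3 := colQ σ h.σQ h.σ1
  have c4 := col 1 (fun α hα => by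
      simp [be, (h.spc hα).fix 1 (h.not_fpf Q.one_mem)]) fun θ hθ => by
    rw [(mem_PSs.1 hθ).one, h.stb_one, add_comm]
  rw [sum_irr_mul_conj_of_isConj (IsConj.refl _), h.cρ] at c1
  rw [sum_irr_mul_conj_of_not_isConj fun e => h.nr e.symm, (WW_gen hW).apply_inv, hW.apply_inv,
    Complex.conj_conj] at c2
  rw [sum_irr_mul_conj_of_not_isConj h.nσρ] at c3
  rw [sum_irr_mul_conj_of_not_isConj fun e => h.ρ1 (isConj_one_right.1 e)] at c4
  have eσ : conj (W σ) = W σ := by rw [← hW.apply_inv, inv_eq_of_mul_eq_one_right h.σ2]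
  obtain ⟨d, hd, e1⟩ := hW.exists_pos_degree
  obtain ⟨k, hk⟩ := (WW_gen hW).exists_int_of_pow ρ fun k hk => by
    have h2 : Odd k := Nat.coprime_two_right.1 (hk.coprime_dvd_right
      ((show 2 ∣ 4 by decide).trans (h.ρ4 ▸ orderOf_dvd_natCard ρ)))
    rw [← pow_mod_orderOf, h.ρ4]
    rcases (by have := Nat.odd_iff.1 h2; omega : k % 4 = 1 ∨ k % 4 = 3) with e | e <;> rw [e]
    · rw [pow_one]
    · rw [show ρ ^ 3 = ρ⁻¹ from eq_inv_of_mul_eq_one_left ((pow_succ ρ 3).symm.trans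
        (h.ρ4 ▸ pow_orderOf_eq_one ρ : ρ ^ 4 = 1)), (WW_gen hW).apply_inv]
      simp [WW, add_comm]
  have hk' : conj (W ρ) = k - W ρ := by rw [← hk]; simp [WW]
  obtain rfl : k = 0 := by
    simp only [hk, hk', map_intCast, Complex.conj_conj] at c1 c2
    push_cast at c1
    have e : (k * (k * (1 + 2 * r ^ 2) + 4 * ε * r) : ℂ) = 0 := by
      linear_combination -c1 - c2 - 2 * r ^ 2 * k ^ 2 * hε
    by_contra k0
    have e' := (mul_eq_zero.1 e).resolve_left (by exact_mod_cast k0)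
    have e2 : ((k * (1 + 2 * r ^ 2)) ^ 2 : ℂ) = 16 * r ^ 2 := by
      rw [eq_neg_of_add_eq_zero_left e']; linear_combination 16 * r ^ 2 * hε
    have e3 : (k * (1 + 2 * r ^ 2) : ℤ) ^ 2 = 16 * r ^ 2 := by exact_mod_cast e2
    have e4 : 1 ≤ k ^ 2 := by have := sq_pos_of_ne_zero k0; omega
    have e5 : (2 : ℤ) ≤ r := by exact_mod_cast r2
    have e6 : (4 * r : ℤ) < 1 + 2 * r ^ 2 := by nlinarith
    have e7 : (4 * r : ℤ) ^ 2 < (1 + 2 * r ^ 2) ^ 2 := by gcongr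
    nlinarith
  simp only [hk, Int.cast_zero, map_zero] at c2 c3 c4
  simp only [hk', WW, Pi.add_apply, eσ, e1, map_natCast, be, Pi.sub_apply,
    Pi.zero_apply, h.stb_one, h.cQ] at c2 c3 c4
  push_cast at c2 c3 c4 hk'
  have e2 : ε * d = r * (2 * r ^ 2 - 1) := mul_left_cancel₀ r0 (by linear_combination -c4 / 2)
  obtain rfl : ε = 1 := (sq_eq_one_iff.1 hε).resolve_right fun e => by
    have : (d + r * (2 * r ^ 2) : ℂ) = r := by rw [e] at e2; linear_combination -e2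
    have : d + r * (2 * r ^ 2) = r := by exact_mod_cast this
    nlinarith
  have e3 : W σ = -r := mul_left_cancel₀ r0 (by linear_combination -c3 / 2)
  have e4 : WW W 1 = 2 * (r * (2 * r ^ 2 - 1)) := by rw [← e2]; simp [WW, e1, two_mul]
  have r2' : (2 : ℝ) ≤ r := by exact_mod_cast r2
  have i1 : ∀ α ∈ Al A₁ ∪ Al A₂, IsIrrCharacter G (be a α - (1 * SzT.sgn A₁ α : ℂ) • WW W) :=
    fun α hα => (hs α hα).irr_of_re_pos (by
      rw [Pi.sub_apply, Pi.smul_apply, h.be_one hα, e4, smul_eq_mul, show ((2 * r ^ 2) ^ 2 - 1 -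
        1 * SzT.sgn A₁ α * (2 * (r * (2 * r ^ 2 - 1))) : ℂ) = (((2 * r ^ 2) ^ 2 - 1 -
        SzT.sgn A₁ α * (2 * (r * (2 * r ^ 2 - 1))) : ℝ) : ℂ) by push_cast; ring, Complex.ofReal_re]
      unfold SzT.sgn
      split_ifs <;> push_cast <;> nlinarith [mul_nonneg (sub_nonneg.2 r2') (sq_nonneg (r : ℝ)),
        mul_nonneg (sub_nonneg.2 r2') (pow_nonneg (Nat.cast_nonneg r : (0 : ℝ) ≤ r) 3)])
  refine ⟨W, hW, h0, by rw [e1, ← e2, one_mul], e3, by linear_combination -c2 / 2, by simpa using hk',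
    fun g hg => h.const_of_inner h.t1 hW.isClassFunction (fun α hα => ?_) hg,
    fun g hg => h.const_of_inner h.t2 hW.isClassFunction (fun α hα => ?_) hg,
    fun α hα => by simpa [SzT.sgn1 hα] using i1 α (Finset.mem_union_left _ hα),
    fun α hα => by simpa [h.sgn2 hα] using i1 α (Finset.mem_union_right _ hα), fun f => ?_⟩
  · rw [← Spc.inner_cusp h.toZO hW h0, hw α (Finset.mem_union_left _ hα), SzT.sgn1 hα]; simp
  · rw [← Spc.inner_cusp h.toZO hW h0, hw α (Finset.mem_union_right _ hα), h.sgn2 hα]; simp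
  · rw [h.sum_irr, hf f fun α hα e => absurd (i1 α hα) e, one_smul]

end Cfsg.Agent.H7
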